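import Cfsg.Agent.Lib.Char.Induced
import Cfsg.Agent.Lib.Char.Orth
import Cfsg.Agent.Lib.Char.Dade
import Cfsg.Agent.Lib.CharApp.Clifford
import Cfsg.Agent.Lib.Blocks.Defect

/-!
Characters of subgroups as functions on the ambient group, for the relative McKay count.

* `ip H f g`, `mu H f g` : the inner product on `H` and the multiplicity
* `cjI` : conjugation; `Fix R H f` : invariance under `R`
* `mu_trans`, `deg_eq_sum`, `sum_mu_deg` : decompositions along `A ≤ B`
* `sum_modEq_fixed` : only fixed characters count modulo `p`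
-/

set_option autoImplicit false
set_option linter.unusedSectionVars false

namespace Cfsg.Agent.OW

open Cfsg Cfsg.Agent.Char
open scoped ComplexConjugate

attribute [local instance 2000] Fintype.ofFinite

variable {G : Type*} [Group G] [Finite G]

/-- Restriction to a subgroup. -/
def rs (H : Subgroup G) (f : G → ℂ) : ↥H → ℂ := fun h => f h

/-- An irreducible character of a subgroup as a function on the group. -/
noncomputable def E {H : Subgroup G} (χ : IrrCharacter ↥H) : G → ℂ := extendByZero H (χ : ↥H → ℂ)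

theorem E_coe {H : Subgroup G} (χ : IrrCharacter ↥H) (h : ↥H) : E χ h = (χ : ↥H → ℂ) h :=
  extendByZero_coe H _ h

theorem E_of_mem {H : Subgroup G} (χ : IrrCharacter ↥H) {g : G} (hg : g ∈ H) :
    E χ g = (χ : ↥H → ℂ) ⟨g, hg⟩ := extendByZero_mem H _ hg

theorem E_of_not_mem {H : Subgroup G} (χ : IrrCharacter ↥H) {g : G} (hg : g ∉ H) : E χ g = 0 :=
  extendByZero_not_mem H _ hg

theorem rs_E {H : Subgroup G} (χ : IrrCharacter ↥H) : rs H (E χ) = (χ : ↥H → ℂ) :=
  funext fun h => E_coe χ h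

theorem irr_ext {H : Subgroup G} {χ ψ : IrrCharacter ↥H} (h : ∀ g ∈ H, E χ g = E ψ g) : χ = ψ :=
  Subtype.ext (funext fun x => by have := h x x.2; rwa [E_coe, E_coe] at this)

theorem E_conj {H : Subgroup G} (χ : IrrCharacter ↥H) {x g : G} (hx : x ∈ H) (hg : g ∈ H) :
    E χ (x * g * x⁻¹) = E χ g := by
  rw [E_of_mem χ hg, E_of_mem χ (mul_mem (mul_mem hx hg) (inv_mem hx))]
  exact IsIrrCharacter.isClassFunction χ.2 ⟨g, hg⟩ ⟨x, hx⟩

/-- A character on a subgroup. -/
def IsCh (H : Subgroup G) (f : G → ℂ) : Prop := IsCharacter ↥H (rs H f)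

theorem isCh_E {H : Subgroup G} (χ : IrrCharacter ↥H) : IsCh H (E χ) := by
  unfold IsCh; rw [rs_E]; exact IsIrrCharacter.isCharacter χ.2

theorem IsCh.mono {A B : Subgroup G} {f : G → ℂ} (h : IsCh B f) (hAB : A ≤ B) : IsCh A f :=
  IsCharacter.comp_hom (χ := rs B f) h (Subgroup.inclusion hAB)

/-- The inner product on `H`. -/
noncomputable def ip (H : Subgroup G) (f g : G → ℂ) : ℂ := classInner (rs H f) (rs H g)

/-- The multiplicity. -/
noncomputable def mu (H : Subgroup G) (f g : G → ℂ) : ℕ := ⌊(ip H f g).re⌋₊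

theorem mu_spec {H : Subgroup G} {f g : G → ℂ} (hf : IsCh H f) (hg : IsCh H g) :
    ip H f g = (mu H f g : ℂ) := by
  obtain ⟨m, hm⟩ := IsCharacter.classInner_nat hf hg
  have : ip H f g = m := hm
  rw [mu, this]; simp

theorem ip_comm {H : Subgroup G} {f g : G → ℂ} (hf : IsCh H f) (hg : IsCh H g) : ip H f g = ip H g f := by
  have h := classInner_conj_symm (rs H f) (rs H g)
  change conj (ip H f g) = ip H g f at h
  rw [mu_spec hf hg, Complex.conj_natCast] at h
  rw [mu_spec hf hg]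
  exact h

theorem ip_E {H : Subgroup G} [DecidableEq (IrrCharacter ↥H)] (χ ψ : IrrCharacter ↥H) :
    ip H (E χ) (E ψ) = if χ = ψ then 1 else 0 := by
  unfold ip
  rw [rs_E, rs_E]
  split_ifs with h
  · rw [h, classInner_irr_self ψ.2]
  · exact classInner_irr_of_ne χ.2 ψ.2 fun e => h (Subtype.ext e)

theorem mu_E {H : Subgroup G} [DecidableEq (IrrCharacter ↥H)] (χ ψ : IrrCharacter ↥H) :
    mu H (E χ) (E ψ) = if χ = ψ then 1 else 0 := by
  unfold mu
  rw [ip_E]
  split_ifs <;> simp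

theorem ip_congr {H : Subgroup G} {f f' g g' : G → ℂ} (hf : ∀ x ∈ H, f x = f' x) (hg : ∀ x ∈ H, g x = g' x) :
    ip H f g = ip H f' g' := by
  unfold ip
  rw [show rs H f = rs H f' from funext fun x => hf x x.2,
    show rs H g = rs H g' from funext fun x => hg x x.2]

/-- The degree. -/
noncomputable def deg {H : Subgroup G} (χ : IrrCharacter ↥H) : ℕ := charDegree (χ : ↥H → ℂ)

theorem E_one {H : Subgroup G} (χ : IrrCharacter ↥H) : E χ 1 = (deg χ : ℂ) := by
  rw [E_of_mem χ H.one_mem]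
  exact (Blocks.charDegree_cast χ).symm

theorem deg_pos {H : Subgroup G} (χ : IrrCharacter ↥H) : 0 < deg χ := by
  obtain ⟨n, hn, he⟩ := IsIrrCharacter.exists_degree χ.2
  unfold deg charDegree
  rw [he]; simpa using hn

/-! ### Conjugation -/

/-- Conjugation by a normalising element. -/
def conjEquiv {H : Subgroup G} {x : G} (hx : x ∈ Subgroup.normalizer (H : Set G)) : ↥H ≃* ↥H where
  toFun h := ⟨x * h * x⁻¹, (Subgroup.mem_normalizer_iff.1 hx h).1 h.2⟩
  invFun h := ⟨x⁻¹ * h * x, by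
    simpa using (Subgroup.mem_normalizer_iff.1 (inv_mem hx) h).1 h.2⟩
  left_inv h := Subtype.ext (by simp [mul_assoc])
  right_inv h := Subtype.ext (by simp [mul_assoc])
  map_mul' a b := Subtype.ext (by simp [mul_assoc])

/-- The conjugate character `g ↦ χ (x⁻¹ g x)`. -/
def cjI {H : Subgroup G} {x : G} (hx : x ∈ Subgroup.normalizer (H : Set G)) (χ : IrrCharacter ↥H) :
    IrrCharacter ↥H :=
  ⟨fun h => (χ : ↥H → ℂ) ((conjEquiv hx).symm h), IsIrrCharacter.comp_equiv χ.2 (conjEquiv hx).symm⟩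

theorem E_cjI {H : Subgroup G} {x : G} (hx : x ∈ Subgroup.normalizer (H : Set G)) (χ : IrrCharacter ↥H)
    (g : G) : E (cjI hx χ) g = E χ (x⁻¹ * g * x) := by
  have hiff : g ∈ H ↔ x⁻¹ * g * x ∈ H := by
    simpa using Subgroup.mem_normalizer_iff.1 (inv_mem hx) g
  by_cases hg : g ∈ H
  · rw [E_of_mem _ hg, E_of_mem _ (hiff.1 hg)]; rfl
  · rw [E_of_not_mem _ hg, E_of_not_mem _ fun h => hg (hiff.2 h)]

theorem deg_cjI {H : Subgroup G} {x : G} (hx : x ∈ Subgroup.normalizer (H : Set G))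
    (χ : IrrCharacter ↥H) : deg (cjI hx χ) = deg χ := by
  have h := E_cjI hx χ 1
  rw [mul_one, inv_mul_cancel, E_one, E_one] at h
  exact_mod_cast h

theorem ip_conj {H : Subgroup G} {x : G} (hx : x ∈ Subgroup.normalizer (H : Set G)) (f g : G → ℂ) :
    ip H (fun y => f (x⁻¹ * y * x)) (fun y => g (x⁻¹ * y * x)) = ip H f g :=
  classInner_comp_equiv (conjEquiv hx).symm (rs H f) (rs H g)

theorem mu_cjI {A B : Subgroup G} {x : G} (hA : x ∈ Subgroup.normalizer (A : Set G))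
    (hB : x ∈ Subgroup.normalizer (B : Set G)) (χ : IrrCharacter ↥B) (ψ : IrrCharacter ↥A) :
    mu A (E (cjI hB χ)) (E (cjI hA ψ)) = mu A (E χ) (E ψ) := by
  unfold mu
  rw [show E (cjI hB χ) = (fun y => E χ (x⁻¹ * y * x)) from funext (E_cjI hB χ),
    show E (cjI hA ψ) = (fun y => E ψ (x⁻¹ * y * x)) from funext (E_cjI hA ψ), ip_conj hA]

/-- `f` is invariant under `R` on `H`. -/
def Fix (R H : Subgroup G) (f : G → ℂ) : Prop := ∀ r ∈ R, ∀ h ∈ H, f (r * h * r⁻¹) = f h

theorem cjI_eq_iff {H : Subgroup G} {x : G} (hx : x ∈ Subgroup.normalizer (H : Set G))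
    (χ : IrrCharacter ↥H) : cjI hx χ = χ ↔ ∀ h ∈ H, E χ (x * h * x⁻¹) = E χ h := by
  constructor
  · intro e h hh
    have h1 := E_cjI hx χ (x * h * x⁻¹)
    rw [e] at h1
    rw [h1]; congr 1; group
  · intro h
    refine irr_ext fun g hg => ?_
    rw [E_cjI, ← h (x⁻¹ * g * x) (by simpa using (Subgroup.mem_normalizer_iff.1 (inv_mem hx) g).1 hg)]
    congr 1; group

theorem fix_of_le {H R : Subgroup G} (χ : IrrCharacter ↥H) (h : R ≤ H) : Fix R H (E χ) :=
  fun _ hr _ hg => E_conj χ (h hr) hg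

theorem Fix.mono {R R' H : Subgroup G} {f : G → ℂ} (h : Fix R H f) (hR : R' ≤ R) : Fix R' H f :=
  fun r hr => h r (hR hr)

theorem Fix.down {R H A : Subgroup G} {f : G → ℂ} (h : Fix R H f) (hA : A ≤ H) : Fix R A f :=
  fun r hr g hg => h r hr g (hA hg)

theorem Fix.sup {R R' H : Subgroup G} (hR : R ≤ Subgroup.normalizer (H : Set G))
    (hR' : R' ≤ Subgroup.normalizer (H : Set G)) {f : G → ℂ} (h : Fix R H f) (h' : Fix R' H f) :
    Fix (R ⊔ R') H f := by
  let S : Subgroup G :=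
    { carrier := {x | x ∈ Subgroup.normalizer (H : Set G) ∧ ∀ g ∈ H, f (x * g * x⁻¹) = f g}
      one_mem' := ⟨one_mem _, fun g _ => by simp⟩
      mul_mem' := fun {a b} ha hb => ⟨mul_mem ha.1 hb.1, fun g hg => by
        rw [show a * b * g * (a * b)⁻¹ = a * (b * g * b⁻¹) * a⁻¹ by group,
          ha.2 _ ((Subgroup.mem_normalizer_iff.1 hb.1 g).1 hg), hb.2 g hg]⟩
      inv_mem' := fun {a} ha => ⟨inv_mem ha.1, fun g hg => by
        have hm : a⁻¹ * g * a⁻¹⁻¹ ∈ H := (Subgroup.mem_normalizer_iff.1 (inv_mem ha.1) g).1 hg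
        rw [← ha.2 _ hm]; congr 1; group⟩ }
  have hle : R ⊔ R' ≤ S := sup_le (fun r hr => ⟨hR hr, h r hr⟩) (fun r hr => ⟨hR' hr, h' r hr⟩)
  exact fun r hr => (hle hr).2

/-! ### Decompositions -/

theorem ip_trans {A B : Subgroup G} (hAB : A ≤ B) {π : G → ℂ} (hπ : IsCh B π) (g : G → ℂ) :
    ip A π g = ∑ η : IrrCharacter ↥B, (mu B π (E η) : ℂ) * ip A (E η) g := by
  classical
  obtain ⟨c, hc, hcn⟩ := IsCharacter.decompose hπ
  have hmu : ∀ η : IrrCharacter ↥B, (mu B π (E η) : ℂ) = c η := fun η => by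
    rw [← mu_spec hπ (isCh_E η), ip, rs_E, hcn]
  have hπA : rs A π = ∑ η : IrrCharacter ↥B, (c η : ℂ) • rs A (E η) := by
    funext a
    have h1 := congrFun hc ⟨a, hAB a.2⟩
    simp only [Finset.sum_apply, Pi.smul_apply, smul_eq_mul] at h1 ⊢
    show π a = _
    rw [show π a = rs B π ⟨a, hAB a.2⟩ from rfl, h1]
    exact Finset.sum_congr rfl fun η _ => by rw [← E_coe η ⟨a, hAB a.2⟩]; rfl
  rw [ip, hπA, classInner_sum_left]
  exact Finset.sum_congr rfl fun η _ => by rw [classInner_smul_left, hmu]; rfl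

theorem mu_trans {A B : Subgroup G} (hAB : A ≤ B) {π : G → ℂ} (hπ : IsCh B π) (ψ : IrrCharacter ↥A) :
    mu A π (E ψ) = ∑ η : IrrCharacter ↥B, mu B π (E η) * mu A (E η) (E ψ) := by
  have h := ip_trans hAB hπ (E ψ)
  rw [mu_spec (hπ.mono hAB) (isCh_E ψ)] at h
  simp only [fun η : IrrCharacter ↥B => mu_spec ((isCh_E η).mono hAB) (isCh_E ψ)] at h
  exact_mod_cast h

theorem deg_eq_sum {A B : Subgroup G} (hAB : A ≤ B) (χ : IrrCharacter ↥B) :
    deg χ = ∑ η : IrrCharacter ↥A, mu A (E χ) (E η) * deg η := by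
  classical
  obtain ⟨c, hc, hcn⟩ := IsCharacter.decompose ((isCh_E χ).mono hAB)
  have hmu : ∀ η : IrrCharacter ↥A, (c η : ℂ) = mu A (E χ) (E η) := fun η => by
    rw [← mu_spec ((isCh_E χ).mono hAB) (isCh_E η), ip, rs_E, hcn]
  have h1 := congrFun hc 1
  simp only [Finset.sum_apply, Pi.smul_apply, smul_eq_mul, hmu] at h1
  rw [rs, OneMemClass.coe_one, E_one] at h1
  simp only [← fun η : IrrCharacter ↥A => E_coe η 1, OneMemClass.coe_one, E_one] at h1
  exact_mod_cast h1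

theorem ip_subgroupOf {A B : Subgroup G} (hAB : A ≤ B) (f g : G → ℂ) :
    classInner (fun a : ↥(A.subgroupOf B) => rs B f a) (fun a : ↥(A.subgroupOf B) => rs B g a) =
      ip A f g :=
  classInner_comp_equiv (Subgroup.subgroupOfEquivOfLe hAB) (rs A f) (rs A g)

theorem sum_mu_deg {A B : Subgroup G} (hAB : A ≤ B) (ψ : IrrCharacter ↥A) :
    ∑ χ : IrrCharacter ↥B, mu A (E χ) (E ψ) * deg χ = A.relIndex B * deg ψ := by
  classical
  let e := Subgroup.subgroupOfEquivOfLe hAB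
  let θ : ↥(A.subgroupOf B) → ℂ := fun a => (ψ : ↥A → ℂ) (e a)
  have hθ : IsIrrCharacter _ θ := IsIrrCharacter.comp_equiv ψ.2 e
  have hF : IsCharacter ↥B (indFun (A.subgroupOf B) θ) :=
    IsCharacter.indFun _ (IsIrrCharacter.isCharacter hθ)
  obtain ⟨c, hc, hcn⟩ := IsCharacter.decompose hF
  have hc' : ∀ χ : IrrCharacter ↥B, (c χ : ℂ) = mu A (E χ) (E ψ) := fun χ => by
    rw [← hcn, frobenius_reciprocity _ θ (IsIrrCharacter.isClassFunction χ.2),
      show θ = fun a : ↥(A.subgroupOf B) => rs B (E ψ) a from funext fun a => by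
        show (ψ : ↥A → ℂ) (e a) = E ψ ((a : ↥B) : G)
        exact (E_coe ψ (e a)).symm,
      show (fun a : ↥(A.subgroupOf B) => (χ : ↥B → ℂ) a) = fun a : ↥(A.subgroupOf B) => rs B (E χ) a
        from by rw [rs_E],
      ip_subgroupOf hAB, ip_comm (isCh_E ψ) ((isCh_E χ).mono hAB),
      mu_spec ((isCh_E χ).mono hAB) (isCh_E ψ)]
  have h1 := congrFun hc 1
  rw [indFun_one_apply] at h1
  simp only [Finset.sum_apply, Pi.smul_apply, smul_eq_mul, hc'] at h1
  simp only [← fun χ : IrrCharacter ↥B => E_coe χ 1, OneMemClass.coe_one, E_one] at h1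
  rw [show θ 1 = (deg ψ : ℂ) by
    show (ψ : ↥A → ℂ) (e 1) = _
    rw [map_one, ← E_coe ψ 1, OneMemClass.coe_one, E_one]] at h1
  exact_mod_cast h1.symm

/-! ### Congruences -/

variable {p : ℕ} [hp : Fact p.Prime]

/-- The action on the characters of a normalised subgroup. -/
@[reducible] def irrAct {R H : Subgroup G} (hR : R ≤ Subgroup.normalizer (H : Set G)) :
    MulAction ↥R (IrrCharacter ↥H) where
  smul r χ := cjI (hR r.2) χ
  one_smul χ := irr_ext fun g _ => by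
    show E (cjI _ χ) g = _
    rw [E_cjI]; simp
  mul_smul a b χ := irr_ext fun g _ => by
    show E (cjI _ χ) g = E (cjI _ (cjI _ χ)) g
    rw [E_cjI, E_cjI, E_cjI]; congr 1
    push_cast; group

theorem sum_modEq_fixed {R L H : Subgroup G} (hR : R ≤ Subgroup.normalizer (H : Set G)) (hLH : L ≤ H)
    (hLR : L ≤ R) {k : ℕ} (hidx : L.relIndex R ∣ p ^ k) (a : IrrCharacter ↥H → ℕ)
    (ha : ∀ r (hr : r ∈ R) χ, a (cjI (hR hr) χ) = a χ)
    [DecidablePred fun χ : IrrCharacter ↥H => Fix R H (E χ)] :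
    ∑ χ, a χ ≡ ∑ χ ∈ Finset.univ.filter (fun χ => Fix R H (E χ)), a χ [MOD p] := by
  classical
  letI := irrAct hR
  rw [Nat.modEq_iff_dvd, Finset.sum_filter]
  push_cast
  rw [← Finset.sum_sub_distrib, ← dvd_neg, ← Finset.sum_neg_distrib]
  refine dvd_sum_of_dvd_fixed (A := ↥R) (k := k) hp.out (fun χ => ?_) (fun r χ => ?_) fun χ hχ => ?_
  · refine (Subgroup.index_dvd_of_le (H := L.subgroupOf R) ?_).trans hidx
    intro r hr
    exact (cjI_eq_iff (hR r.2) χ).2 fun g hg => E_conj χ (hLH hr) hg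
  · have hfx : Fix R H (E (r • χ)) ↔ Fix R H (E χ) := by
      have key : ∀ (r : ↥R) (χ : IrrCharacter ↥H), Fix R H (E χ) → r • χ = χ := fun r χ h =>
        (cjI_eq_iff (hR r.2) χ).2 (h r r.2)
      refine ⟨fun h => ?_, fun h => by rwa [key r χ h]⟩
      have h2 := key r⁻¹ _ h
      rw [inv_smul_smul] at h2
      rwa [← h2] at h
    show -((if Fix R H (E (r • χ)) then (a (r • χ) : ℤ) else 0) - a (r • χ)) = _
    rw [show a (r • χ) = a χ from ha r r.2 χ]
    simp only [hfx]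
  · have : Fix R H (E χ) := fun r hr => (cjI_eq_iff (hR hr) χ).1 (hχ ⟨r, hr⟩)
    simp [this]

end Cfsg.Agent.OW
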