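import Cfsg.Agent.Lib.OW.Step

/-!
The relative Glauberman correspondence by multiplicities prime to `p`.

* `exists_fixed_between`, `mu_modEq_fixed`
* `Setting.exists_down`, `Setting.exists_up`, `Setting.unique_down`, `Setting.unique_up`
-/

set_option autoImplicit false
set_option linter.unusedSectionVars false

namespace Cfsg.Agent.OW

open Cfsg Cfsg.Agent.Char

attribute [local instance 2000] Fintype.ofFinite

variable {G : Type*} [Group G] [Finite G] {p : ℕ} [hp : Fact p.Prime]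

theorem cjI_eq_of_fix {R H : Subgroup G} (hR : R ≤ Subgroup.normalizer (H : Set G)) {χ : IrrCharacter ↥H}
    (hfix : Fix R H (E χ)) {r : G} (hr : r ∈ R) : cjI (hR hr) χ = χ :=
  (cjI_eq_iff (hR hr) χ).2 (hfix r hr)

theorem mu_modEq_fixed {A B D R L : Subgroup G} (hAB : A ≤ B) (hBD : B ≤ D) (hRA : R ≤ Subgroup.normalizer (A : Set G))
    (hRB : R ≤ Subgroup.normalizer (B : Set G)) (hRD : R ≤ Subgroup.normalizer (D : Set G)) (hLB : L ≤ B)
    (hLR : L ≤ R) {k : ℕ} (hidx : L.relIndex R ∣ p ^ k) (χ : IrrCharacter ↥D) (hχ : Fix R D (E χ))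
    (φ : IrrCharacter ↥A) (hφ : Fix R A (E φ)) [DecidablePred fun η : IrrCharacter ↥B => Fix R B (E η)] :
    mu A (E χ) (E φ) ≡ ∑ η ∈ Finset.univ.filter (fun η : IrrCharacter ↥B => Fix R B (E η)),
      mu B (E χ) (E η) * mu A (E η) (E φ) [MOD p] := by
  rw [mu_trans hAB ((isCh_E χ).mono hBD) φ]
  refine sum_modEq_fixed hRB hLB hLR hidx (fun η => mu B (E χ) (E η) * mu A (E η) (E φ))
    fun r hr η => ?_
  show mu B (E χ) (E (cjI _ η)) * mu A (E (cjI _ η)) (E φ) = _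
  conv_lhs =>
    arg 1
    rw [← cjI_eq_of_fix hRD hχ hr, mu_cjI (hRB hr) (hRD hr)]
  conv_lhs =>
    arg 2
    rw [← cjI_eq_of_fix hRA hφ hr, mu_cjI (hRA hr) (hRB hr)]

theorem exists_fixed_between {A B D R L : Subgroup G} (hAB : A ≤ B) (hBD : B ≤ D)
    (hRA : R ≤ Subgroup.normalizer (A : Set G))
    (hRB : R ≤ Subgroup.normalizer (B : Set G)) (hRD : R ≤ Subgroup.normalizer (D : Set G)) (hLB : L ≤ B)
    (hLR : L ≤ R) {k : ℕ} (hidx : L.relIndex R ∣ p ^ k) (χ : IrrCharacter ↥D) (hχ : Fix R D (E χ))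
    (φ : IrrCharacter ↥A) (hφ : Fix R A (E φ)) (h : ¬ p ∣ mu A (E χ) (E φ)) :
    ∃ η : IrrCharacter ↥B, Fix R B (E η) ∧ ¬ p ∣ mu B (E χ) (E η) ∧ ¬ p ∣ mu A (E η) (E φ) := by
  classical
  by_contra hno
  push Not at hno
  refine h (((mu_modEq_fixed hAB hBD hRA hRB hRD hLB hLR hidx χ hχ φ hφ).dvd_iff dvd_rfl).2
    (Finset.dvd_sum fun η hη => ?_))
  by_cases h1 : p ∣ mu B (E χ) (E η)
  · exact dvd_mul_of_dvd_left h1 _
  · exact dvd_mul_of_dvd_right (hno η (Finset.mem_filter.1 hη).2 h1) _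

variable {K L R C : Subgroup G}

theorem Setting.exists_down (h : Setting p K L R C) (χ : IrrCharacter ↥K) (hχ : Fix R K (E χ))
    (hd : ¬ p ∣ deg χ) :
    ∃ φ : IrrCharacter ↥C, Fix R C (E φ) ∧ ¬ p ∣ mu C (E χ) (E φ) ∧ ¬ p ∣ deg φ := by
  classical
  obtain ⟨k, hk⟩ := h.relIndex_R
  have hsum := sum_modEq_fixed (p := p) h.RC h.LC h.LR hk
    (fun η : IrrCharacter ↥C => mu C (E χ) (E η) * deg η) fun r hr η => by
      show mu C (E χ) (E (cjI _ η)) * deg (cjI _ η) = _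
      rw [deg_cjI]
      conv_lhs =>
        rw [← cjI_eq_of_fix h.RK hχ hr, mu_cjI (h.RC hr) (h.RK hr)]
  rw [← deg_eq_sum h.le χ] at hsum
  by_contra hno
  push Not at hno
  refine hd ((hsum.dvd_iff dvd_rfl).2 (Finset.dvd_sum fun η hη => ?_))
  by_cases h1 : p ∣ mu C (E χ) (E η)
  · exact dvd_mul_of_dvd_left h1 _
  · exact dvd_mul_of_dvd_right (hno η (Finset.mem_filter.1 hη).2 h1) _

theorem Setting.exists_up (h : Setting p K L R C) (φ : IrrCharacter ↥C) (hφ : Fix R C (E φ))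
    (hd : ¬ p ∣ deg φ) :
    ∃ χ : IrrCharacter ↥K, Fix R K (E χ) ∧ ¬ p ∣ mu C (E χ) (E φ) ∧ ¬ p ∣ deg χ := by
  classical
  obtain ⟨k, hk⟩ := h.relIndex_R
  have hsum := sum_modEq_fixed (p := p) h.RK h.LK h.LR hk
    (fun χ : IrrCharacter ↥K => mu C (E χ) (E φ) * deg χ) fun r hr χ => by
      show mu C (E (cjI _ χ)) (E φ) * deg (cjI _ χ) = _
      rw [deg_cjI]
      conv_lhs =>
        rw [← cjI_eq_of_fix h.RC hφ hr, mu_cjI (h.RC hr) (h.RK hr)]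
  rw [sum_mu_deg h.le φ] at hsum
  by_contra hno
  push Not at hno
  have hnd : ¬ p ∣ C.relIndex K * deg φ := fun hh => (hp.out.dvd_mul.1 hh).elim h.idxKC hd
  refine hnd ((hsum.dvd_iff dvd_rfl).2 (Finset.dvd_sum fun χ hχ => ?_))
  by_cases h1 : p ∣ mu C (E χ) (E φ)
  · exact dvd_mul_of_dvd_left h1 _
  · exact dvd_mul_of_dvd_right (hno χ (Finset.mem_filter.1 hχ).2 h1) _

/-- The elements of `K` fixed by `s` modulo `L`. -/
def fixMod (L K : Subgroup G) {s : G} (hs : s ∈ Subgroup.normalizer (L : Set G)) : Subgroup G :=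
  K ⊓ ((Subgroup.centralizer {modL L ⟨s, hs⟩}).comap (modL L)).map (Subgroup.normalizer (L : Set G)).subtype

theorem mem_fixMod {L K : Subgroup G} (hKL : K ≤ Subgroup.normalizer (L : Set G)) {s : G}
    (hs : s ∈ Subgroup.normalizer (L : Set G)) {k : G} :
    k ∈ fixMod L K hs ↔ k ∈ K ∧ s * k * s⁻¹ * k⁻¹ ∈ L := by
  constructor
  · rintro ⟨hk, ⟨x, hx⟩, hx', rfl⟩
    refine ⟨hk, (modL_comm_iff ⟨s, hs⟩ ⟨x, hx⟩).1 ?_⟩
    exact Subgroup.mem_centralizer_iff.1 hx' _ rfl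
  · rintro ⟨hk, hkL⟩
    refine ⟨hk, ⟨k, hKL hk⟩, Subgroup.mem_centralizer_iff.2 ?_, rfl⟩
    rintro y rfl
    exact (modL_comm_iff ⟨s, hs⟩ ⟨k, hKL hk⟩).2 hkL

/-- An element to split off: central modulo the kernel, outside it. -/
theorem Setting.exists_split (h : Setting p K L R C) (hne : C ≠ K) :
    ∃ (s : G) (_ : s ∈ R) (C₁ : Subgroup G), StepData p K L C₁ s ∧ Setting p C₁ L R C ∧
      Nat.card ↥C₁ < Nat.card ↥K := by
  let ι : ↥R →* ↥(Subgroup.normalizer (L : Set G)) := Subgroup.inclusion h.RL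
  let Kb := (K.subgroupOf (Subgroup.normalizer (L : Set G))).map (modL L)
  let R₀ : Subgroup ↥R := (Subgroup.centralizer (Kb : Set _)).comap ((modL L).comp ι)
  have hmem : ∀ r : ↥R, r ∈ R₀ ↔ ∀ k ∈ K, (r : G) * k * (r : G)⁻¹ * k⁻¹ ∈ L := by
    intro r
    constructor
    · intro hr k hk
      exact (modL_comm_iff (ι r) ⟨k, h.KL hk⟩).1
        (Subgroup.mem_centralizer_iff.1 hr _ ⟨⟨k, h.KL hk⟩, hk, rfl⟩).symm
    · intro hr
      refine Subgroup.mem_centralizer_iff.2 ?_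
      rintro _ ⟨x, hx, rfl⟩
      exact ((modL_comm_iff (ι r) x).2 (hr x hx)).symm
  haveI : R₀.Normal := by
    refine ⟨fun r hr g => (hmem _).2 fun k hk => ?_⟩
    have hk' : (g : G)⁻¹ * k * g ∈ K := by
      simpa using (Subgroup.mem_normalizer_iff.1 (inv_mem (h.RK g.2)) k).1 hk
    have h1 := (Subgroup.mem_normalizer_iff.1 (h.RL g.2) _).1 ((hmem r).1 hr _ hk')
    convert h1 using 1
    push_cast; group
  have hpg : IsPGroup p (↥R ⧸ R₀) := fun x => by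
    induction x using QuotientGroup.induction_on with
    | H r =>
      obtain ⟨n, hn⟩ := h.pR r r.2
      refine ⟨n, ?_⟩
      rw [← QuotientGroup.mk_pow, QuotientGroup.eq_one_iff, hmem]
      intro k hk
      push_cast
      rw [show (r : G) ^ p ^ n * k * ((r : G) ^ p ^ n)⁻¹ * k⁻¹ =
        (r : G) ^ p ^ n * (k * ((r : G) ^ p ^ n)⁻¹ * k⁻¹) by group]
      exact L.mul_mem hn ((Subgroup.mem_normalizer_iff.1 (h.KL hk) _).1 (L.inv_mem hn))
  haveI : Nontrivial (↥R ⧸ R₀) := by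
    rcases subsingleton_or_nontrivial (↥R ⧸ R₀) with hs | hs
    · refine absurd (le_antisymm h.le fun k hk => (h.mem k).2 ⟨hk, fun r hr => ?_⟩) hne
      exact (hmem ⟨r, hr⟩).1 ((QuotientGroup.eq_one_iff _).1 (Subsingleton.elim _ _)) k hk
    · exact hs
  haveI := hpg.center_nontrivial
  obtain ⟨⟨z, hz⟩, hz1⟩ := exists_ne (1 : Subgroup.center (↥R ⧸ R₀))
  obtain ⟨⟨s, hsR⟩, rfl⟩ := QuotientGroup.mk_surjective z
  have hs0 : (⟨s, hsR⟩ : ↥R) ∉ R₀ := fun e => hz1 (Subtype.ext ((QuotientGroup.eq_one_iff _).2 e))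
  let C₁ := fixMod L K (h.RL hsR)
  have hC₁ : ∀ k, k ∈ C₁ ↔ k ∈ K ∧ s * k * s⁻¹ * k⁻¹ ∈ L := fun k => mem_fixMod h.KL _
  refine ⟨s, hsR, C₁,
    { LK := h.LK, KL := h.KL, sL := h.RL hsR, sK := h.RK hsR, idx := h.idx, ps := h.pR s hsR
      mem := hC₁, nsK := fun hsK => hs0 ((hmem _).2 fun k hk => ?_) }, ?_, ?_⟩
  · obtain ⟨n, hn⟩ := h.pR s hsR
    haveI : (L.subgroupOf K).Normal := (Subgroup.normal_subgroupOf_iff_le_normalizer h.LK).2 h.KL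
    have h2 := Subgroup.pow_index_mem (L.subgroupOf K) ⟨s, hsK⟩
    rw [Subgroup.mem_subgroupOf] at h2
    have hsL : s ∈ L := by
      have hco : Nat.Coprime (L.relIndex K) (p ^ n) := (hp.out.coprime_iff_not_dvd.2 h.idx).symm.pow_right n
      have h3 := Nat.gcd_eq_gcd_ab (L.relIndex K) (p ^ n)
      rw [hco.gcd_eq_one, Nat.cast_one] at h3
      rw [← zpow_one s, h3, zpow_add, zpow_mul, zpow_mul, zpow_natCast, zpow_natCast]
      exact L.mul_mem (L.zpow_mem (by simp only [Subgroup.coe_pow] at h2; exact h2) _) (L.zpow_mem hn _)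
    show s * k * s⁻¹ * k⁻¹ ∈ L
    rw [show s * k * s⁻¹ * k⁻¹ = s * (k * s⁻¹ * k⁻¹) by group]
    exact L.mul_mem hsL ((Subgroup.mem_normalizer_iff.1 (h.KL hk) _).1 (L.inv_mem hsL))
  · have hsub : C₁ ≤ K := fun k hk => ((hC₁ k).1 hk).1
    have hLC : L ≤ C₁ := fun l hl => (hC₁ l).2 ⟨h.LK hl,
      L.mul_mem ((Subgroup.mem_normalizer_iff.1 (h.RL hsR) l).1 hl) (L.inv_mem hl)⟩
    refine
      { LK := hLC, LR := h.LR, KL := hsub.trans h.KL, RL := h.RL, pR := h.pR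
        idx := fun hd => h.idx (hd.trans (Dvd.intro (C₁.relIndex K) (Subgroup.relIndex_mul_relIndex L C₁ K hLC hsub)))
        RK := fun r hr => Coprime.mem_normalizer_of_forall fun k hk => ?_
        mem := fun k => ⟨fun hk => ⟨(hC₁ k).2 ⟨h.le hk, h.comm hsR hk⟩, ((h.mem k).1 hk).2⟩,
          fun hk => (h.mem k).2 ⟨hsub hk.1, hk.2⟩⟩ }
    obtain ⟨hkK, hks⟩ := (hC₁ k).1 hk
    refine (hC₁ _).2 ⟨(Subgroup.mem_normalizer_iff.1 (h.RK hr) k).1 hkK, ?_⟩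
    have hcm : ((⟨r, hr⟩ : ↥R)⁻¹ * ⟨s, hsR⟩ * ⟨r, hr⟩ * (⟨s, hsR⟩ : ↥R)⁻¹) ∈ R₀ := by
      rw [← QuotientGroup.eq_one_iff]
      simp only [QuotientGroup.mk_mul, QuotientGroup.mk_inv]
      rw [mul_assoc (((⟨r, hr⟩ : ↥R) : ↥R ⧸ R₀))⁻¹, ← Subgroup.mem_center_iff.1 hz, inv_mul_cancel_left,
        mul_inv_cancel]
    have h1 := (hmem _).1 hcm k hkK
    push_cast at h1
    -- `r⁻¹ s r` and `s` act alike
    have hcomm2 : modL L ⟨r⁻¹ * s * r, mul_mem (mul_mem (inv_mem (h.RL hr)) (h.RL hsR)) (h.RL hr)⟩ *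
        modL L ⟨k, h.KL hkK⟩ = modL L ⟨k, h.KL hkK⟩ * modL L ⟨r⁻¹ * s * r,
          mul_mem (mul_mem (inv_mem (h.RL hr)) (h.RL hsR)) (h.RL hr)⟩ := by
      have e1 := (modL_comm_iff ⟨r⁻¹ * s * r * s⁻¹, mul_mem (mul_mem (mul_mem (inv_mem (h.RL hr))
        (h.RL hsR)) (h.RL hr)) (inv_mem (h.RL hsR))⟩ ⟨k, h.KL hkK⟩).2 h1
      have e2 := (modL_comm_iff ⟨s, h.RL hsR⟩ ⟨k, h.KL hkK⟩).2 hks
      have e3 := Commute.mul_left e1 e2
      rw [← map_mul] at e3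
      have e4 : (⟨r⁻¹ * s * r * s⁻¹, mul_mem (mul_mem (mul_mem (inv_mem (h.RL hr)) (h.RL hsR)) (h.RL hr))
          (inv_mem (h.RL hsR))⟩ * ⟨s, h.RL hsR⟩ : ↥(Subgroup.normalizer (L : Set G))) =
          ⟨r⁻¹ * s * r, mul_mem (mul_mem (inv_mem (h.RL hr)) (h.RL hsR)) (h.RL hr)⟩ :=
        Subtype.ext (inv_mul_cancel_right _ _)
      rwa [e4] at e3
    have h2 := (Subgroup.mem_normalizer_iff.1 (h.RL hr) _).1 ((modL_comm_iff _ _).1 hcomm2)
    convert h2 using 1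
    group
  · refine lt_of_le_of_ne (Subgroup.card_le_of_le fun k hk => ((hC₁ k).1 hk).1) fun e => hs0 ((hmem _).2 ?_)
    intro k hk
    have : k ∈ C₁ := by
      rw [Subgroup.eq_of_le_of_card_ge (fun k hk => ((hC₁ k).1 hk).1) e.ge]; exact hk
    exact ((hC₁ k).1 this).2

theorem Setting.unique_down_up {K L R C : Subgroup G} (h : Setting p K L R C) :
    (∀ (χ : IrrCharacter ↥K) (φ φ' : IrrCharacter ↥C), Fix R K (E χ) → Fix R C (E φ) → Fix R C (E φ') →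
      ¬ p ∣ mu C (E χ) (E φ) → ¬ p ∣ mu C (E χ) (E φ') → φ = φ') ∧
    ∀ (χ χ' : IrrCharacter ↥K) (φ : IrrCharacter ↥C), Fix R K (E χ) → Fix R K (E χ') → Fix R C (E φ) →
      ¬ p ∣ mu C (E χ) (E φ) → ¬ p ∣ mu C (E χ') (E φ) → χ = χ' := by
  classical
  by_cases hCK : C = K
  · subst hCK
    have key : ∀ χ φ : IrrCharacter ↥C, ¬ p ∣ mu C (E χ) (E φ) → χ = φ := by
      intro χ φ hd
      by_contra hne
      rw [mu_E, if_neg hne] at hd
      exact hd (dvd_zero p)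
    exact ⟨fun χ φ φ' _ _ _ h1 h2 => (key χ φ h1).symm.trans (key χ φ' h2),
      fun χ χ' φ _ _ _ h1 h2 => (key χ φ h1).trans (key χ' φ h2).symm⟩
  obtain ⟨s, hsR, C₁, hS, h₁, hlt⟩ := h.exists_split hCK
  obtain ⟨ihd, ihu⟩ := h₁.unique_down_up
  obtain ⟨k, hk⟩ := h.relIndex_R
  have hz : Subgroup.zpowers s ≤ R := Subgroup.zpowers_le.2 hsR
  have mid := fun χ hχ φ hφ hd => exists_fixed_between h₁.le hS.le h.RC h₁.RK h.RK h₁.LK h.LR hk χ hχ φ hφ hd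
  refine ⟨fun χ φ φ' hχ hφ hφ' h1 h2 => ?_, fun χ χ' φ hχ hχ' hφ h1 h2 => ?_⟩
  · obtain ⟨η, hη, e1, e2⟩ := mid χ hχ φ hφ h1
    obtain ⟨η', hη', e1', e2'⟩ := mid χ hχ φ' hφ' h2
    obtain rfl := hS.unique_down χ (hχ.mono hz) η η' (hη.mono hz) (hη'.mono hz) e1 e1'
    exact ihd η φ φ' hη hφ hφ' e2 e2'
  · obtain ⟨η, hη, e1, e2⟩ := mid χ hχ φ hφ h1
    obtain ⟨η', hη', e1', e2'⟩ := mid χ' hχ' φ hφ h2
    obtain rfl := ihu η η' φ hη hη' hφ e2 e2'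
    exact hS.unique_up χ χ' (hχ.mono hz) (hχ'.mono hz) η (hη.mono hz) e1 e1'
termination_by Nat.card ↥K
decreasing_by exact hlt

theorem Setting.unique_down (h : Setting p K L R C) {χ : IrrCharacter ↥K} {φ φ' : IrrCharacter ↥C}
    (hχ : Fix R K (E χ)) (hφ : Fix R C (E φ)) (hφ' : Fix R C (E φ'))
    (h1 : ¬ p ∣ mu C (E χ) (E φ)) (h2 : ¬ p ∣ mu C (E χ) (E φ')) : φ = φ' :=
  h.unique_down_up.1 χ φ φ' hχ hφ hφ' h1 h2

theorem Setting.unique_up (h : Setting p K L R C) {χ χ' : IrrCharacter ↥K} {φ : IrrCharacter ↥C}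
    (hχ : Fix R K (E χ)) (hχ' : Fix R K (E χ')) (hφ : Fix R C (E φ))
    (h1 : ¬ p ∣ mu C (E χ) (E φ)) (h2 : ¬ p ∣ mu C (E χ') (E φ)) : χ = χ' :=
  h.unique_down_up.2 χ χ' φ hχ hχ' hφ h1 h2

/-- The correspondents have the same conjugates. -/
theorem Setting.cjI_down (h : Setting p K L R C) {x : G} (hK : x ∈ Subgroup.normalizer (K : Set G))
    (hC : x ∈ Subgroup.normalizer (C : Set G)) (hR : x ∈ Subgroup.normalizer (R : Set G))
    {χ : IrrCharacter ↥K} {φ : IrrCharacter ↥C} (hχ : Fix R K (E χ)) (hφ : Fix R C (E φ))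
    (h1 : ¬ p ∣ mu C (E χ) (E φ)) : cjI hK χ = χ ↔ cjI hC φ = φ := by
  have hfix : ∀ {H : Subgroup G} (hH : x ∈ Subgroup.normalizer (H : Set G)) (ψ : IrrCharacter ↥H),
      Fix R H (E ψ) → Fix R H (E (cjI hH ψ)) := by
    intro H hH ψ hψ r hr g hg
    rw [E_cjI, E_cjI]
    have hr' : x⁻¹ * r * x ∈ R := by
      simpa using (Subgroup.mem_normalizer_iff.1 (inv_mem hR) r).1 hr
    have hg' : x⁻¹ * g * x ∈ H := by
      simpa using (Subgroup.mem_normalizer_iff.1 (inv_mem hH) g).1 hg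
    rw [← hψ _ hr' _ hg']
    congr 1; group
  have h2 : ¬ p ∣ mu C (E (cjI hK χ)) (E (cjI hC φ)) := by rwa [mu_cjI hC hK]
  constructor
  · intro e
    rw [e] at h2
    exact h.unique_down hχ (hfix hC φ hφ) hφ h2 h1
  · intro e
    rw [e] at h2
    exact h.unique_up (hfix hK χ hχ) hχ hφ h2 h1

end Cfsg.Agent.OW
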