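import Cfsg.Agent.Lib.OW.ExtBasic

/-!
Counting the characters over an invariant character by good pairs.

* `Good`, `GoodIn`, `cnt`
* `card_mul_cnt`: `|D| |K| cnt = ∑_{g good} |C_D(g mod K)|`
* `good_iff_extends`, `cnt_eq`
-/

set_option autoImplicit false
set_option linter.unusedSectionVars false

namespace Cfsg.Agent.OW

open Cfsg Cfsg.Agent.Char
open scoped ComplexConjugate

attribute [local instance 2000] Fintype.ofFinite

variable {G : Type*} [Group G] [Finite G]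

/-- `w` fixes the extensions of `θ` to `M`. -/
def Good {K : Subgroup G} (θ : IrrCharacter ↥K) (M : Subgroup G) (w : G) : Prop :=
  ∀ lam : IrrCharacter ↥M, (∀ k ∈ K, E lam k = E θ k) → ∀ m ∈ M, E lam (w * m * w⁻¹) = E lam m

/-- `g` is good in `D`. -/
def GoodIn {K : Subgroup G} (θ : IrrCharacter ↥K) (D : Subgroup G) (g : G) : Prop :=
  ∀ w ∈ D, w * g * w⁻¹ * g⁻¹ ∈ K → Good θ (K ⊔ Subgroup.zpowers g) w

/-- The characters of `D` over `θ`. -/
noncomputable def cnt {K : Subgroup G} (θ : IrrCharacter ↥K) (D : Subgroup G) : ℕ :=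
  Nat.card {χ : IrrCharacter ↥D // mu K (E χ) (E θ) ≠ 0}

variable {K D : Subgroup G} (hKD : K ≤ D) (hnorm : D ≤ Subgroup.normalizer (K : Set G))
  (θ : IrrCharacter ↥K) (hθ : Fix D K (E θ))

include hnorm in
theorem conj_mem_cyc {g w : G} (hg : g ∈ D) (hw : w ∈ D) (hc : w * g * w⁻¹ * g⁻¹ ∈ K) :
    w ∈ Subgroup.normalizer ((K ⊔ Subgroup.zpowers g : Subgroup G) : Set G) := by
  refine Coprime.mem_normalizer_of_forall fun m hm => ?_
  obtain ⟨k, hk, z, ⟨i, rfl⟩, rfl⟩ := (Coprime.mem_sup_iff (Subgroup.zpowers_le.2 (hnorm hg))).1 hm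
  rw [show w * (k * g ^ i) * w⁻¹ = w * k * w⁻¹ * (w * g * w⁻¹) ^ i by rw [conj_zpow]; group]
  refine mul_mem (Subgroup.mem_sup_left ((Subgroup.mem_normalizer_iff.1 (hnorm hw) k).1 hk)) (zpow_mem ?_ i)
  have h2 : w * g * w⁻¹ * g⁻¹ * g ∈ K ⊔ Subgroup.zpowers g :=
    mul_mem (Subgroup.mem_sup_left hc) (Subgroup.mem_sup_right (Subgroup.mem_zpowers g))
  rwa [inv_mul_cancel_right] at h2

include hnorm hθ in
theorem exists_ext_cyc {g : G} (hg : g ∈ D) :
    ∃ lam : IrrCharacter ↥(K ⊔ Subgroup.zpowers g), ∀ k ∈ K, E lam k = E θ k := by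
  obtain ⟨q, hq⟩ := exists_cyc (hnorm hg)
  exact exists_ext hq.le hq.norm hq.mem hq.gen θ
    ((fix_of_le θ le_rfl).sup Subgroup.le_normalizer (Subgroup.zpowers_le.2 (hnorm hg))
      (hθ.mono (Subgroup.zpowers_le.2 hg)))

include hKD hθ in
theorem mu_over_only {χ : IrrCharacter ↥D} (hχ : mu K (E χ) (E θ) ≠ 0)
    (hnorm : D ≤ Subgroup.normalizer (K : Set G)) {η : IrrCharacter ↥K} (hη : mu K (E χ) (E η) ≠ 0) :
    η = θ := by
  classical
  haveI : (K.subgroupOf D).Normal := (Subgroup.normal_subgroupOf_iff_le_normalizer hKD).2 hnorm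
  let e := Subgroup.subgroupOfEquivOfLe hKD
  have hne : ∀ η : IrrCharacter ↥K, mu K (E χ) (E η) ≠ 0 →
      classInner (fun n : ↥(K.subgroupOf D) => (χ : ↥D → ℂ) n) (fun n => (η : ↥K → ℂ) (e n)) ≠ 0 := by
    intro η hη h0
    apply hη
    rw [mu, ← ip_subgroupOf hKD,
      show (fun a : ↥(K.subgroupOf D) => rs D (E χ) a) = fun a : ↥(K.subgroupOf D) => (χ : ↥D → ℂ) a from
        funext fun a => congrFun (rs_E χ) a,
      show (fun a : ↥(K.subgroupOf D) => rs D (E η) a) = fun a : ↥(K.subgroupOf D) => (η : ↥K → ℂ) (e a) from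
        funext fun a => E_coe η (e a), h0]
    simp
  obtain ⟨g, hg⟩ := CliffordChar.constituents_conjugate (K.subgroupOf D) χ.2
    (IsIrrCharacter.comp_equiv θ.2 e) (IsIrrCharacter.comp_equiv η.2 e) (hne θ hχ) (hne η hη)
  refine irr_ext fun k hk => ?_
  have h1 := congrFun hg ⟨⟨k, hKD hk⟩, hk⟩
  rw [E_of_mem η hk]
  refine (Eq.trans (Eq.symm h1) ?_).trans (hθ _ (inv_mem g.2) k hk)
  exact (E_coe θ _).symm

include hKD hnorm hθ in
theorem sum_csum {g : G} (hg : g ∈ D) [DecidablePred fun χ : IrrCharacter ↥D => mu K (E χ) (E θ) ≠ 0]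
    [Decidable (GoodIn θ D g)] :
    ∑ χ ∈ Finset.univ.filter (fun χ : IrrCharacter ↥D => mu K (E χ) (E θ) ≠ 0), csum K g (E χ) (E χ) =
      if GoodIn θ D g then (Nat.card {w : ↥D // (w : G) * g * (w : G)⁻¹ * g⁻¹ ∈ K} : ℂ) else 0 := by
  classical
  obtain ⟨q, hq⟩ := exists_cyc (hnorm hg)
  set M := K ⊔ Subgroup.zpowers g with hM
  have hMD : M ≤ D := sup_le hKD (Subgroup.zpowers_le.2 hg)
  have hgM : g ∈ M := hq.mem
  -- a class function supported by the conjugates of the coset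
  obtain ⟨lam, hlam, hbad⟩ : ∃ lam : IrrCharacter ↥M, (∀ k ∈ K, E lam k = E θ k) ∧
      (¬ GoodIn θ D g → ∃ w ∈ D, w * g * w⁻¹ * g⁻¹ ∈ K ∧ ∃ m ∈ M, E lam (w * m * w⁻¹) ≠ E lam m) := by
    by_cases hgood : GoodIn θ D g
    · obtain ⟨lam, hlam⟩ := exists_ext_cyc hnorm θ hθ hg
      exact ⟨lam, hlam, fun h => absurd hgood h⟩
    · have := hgood
      simp only [GoodIn, Good, not_forall] at this
      obtain ⟨w, hw, hc, lam, hlam, m, hm, hne⟩ := this
      exact ⟨lam, hlam, fun _ => ⟨w, hw, hc, m, hm, hne⟩⟩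
  let h : G → ℂ := fun x => if x * g⁻¹ ∈ K then E lam x else 0
  let F : ↥D → ℂ := fun x => ∑ y : ↥D, h ((y : G) * x * (y : G)⁻¹)
  have hF : IsClassFunction ↥D F := by
    intro u x
    show ∑ y : ↥D, _ = ∑ y : ↥D, _
    refine Fintype.sum_equiv (Equiv.mulRight x) _ _ fun y => ?_
    show h _ = h _
    congr 1
    simp only [Equiv.coe_mulRight, Subgroup.coe_mul, Subgroup.coe_inv]
    group
  have hinner : ∀ f : ↥D → ℂ, IsClassFunction ↥D f →
      classInner F f = ∑ k : ↥K, E lam ((k : G) * g) * conj (f ⟨k * g, mul_mem (hKD k.2) hg⟩) := by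
    intro f hf
    have hy : ∀ y : ↥D, ∑ x : ↥D, h ((y : G) * x * (y : G)⁻¹) * conj (f x) = ∑ x : ↥D, h x * conj (f x) := by
      intro y
      refine Fintype.sum_equiv (MulAut.conj y).toEquiv _ _ fun x => ?_
      show _ = h ((y * x * y⁻¹ : ↥D) : G) * conj (f (y * x * y⁻¹))
      rw [hf x y]
      rfl
    have hsup : ∑ x : ↥D, h x * conj (f x) =
        ∑ k : ↥K, E lam ((k : G) * g) * conj (f ⟨k * g, mul_mem (hKD k.2) hg⟩) := by
      simp only [h, ite_mul, zero_mul]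
      rw [← Finset.sum_filter]
      symm
      refine Finset.sum_bij (fun k _ => (⟨k * g, mul_mem (hKD k.2) hg⟩ : ↥D)) (fun k _ => ?_)
        (fun a _ b _ e => Subtype.ext (mul_right_cancel (congrArg Subtype.val e))) (fun x hx => ?_)
        fun k _ => rfl
      · simp
      · rw [Finset.mem_filter] at hx
        exact ⟨⟨_, hx.2⟩, Finset.mem_univ _, Subtype.ext (inv_mul_cancel_right _ _)⟩
    rw [classInner]
    simp only [F, Finset.sum_mul]
    rw [Finset.sum_comm, Finset.sum_congr rfl fun y _ => hy y, Finset.sum_const, Finset.card_univ, nsmul_eq_mul,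
      hsup, ← Nat.card_eq_fintype_card, ← mul_assoc,
      inv_mul_cancel₀ (Nat.cast_ne_zero.2 Nat.card_pos.ne'), one_mul]
  have hFF : classInner F F =
      (if GoodIn θ D g then (Nat.card {w : ↥D // (w : G) * g * (w : G)⁻¹ * g⁻¹ ∈ K} : ℂ) else 0) *
        Nat.card ↥K := by
    rw [hinner F hF]
    simp only [F, map_sum, Finset.mul_sum]
    rw [Finset.sum_comm]
    have hmemh : ∀ (y : ↥D) (k : ↥K), (y : G) * ((k : G) * g) * (y : G)⁻¹ * g⁻¹ ∈ K ↔
        (y : G) * g * (y : G)⁻¹ * g⁻¹ ∈ K := fun y k => by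
      rw [show (y : G) * ((k : G) * g) * (y : G)⁻¹ * g⁻¹ =
        (y : G) * k * (y : G)⁻¹ * ((y : G) * g * (y : G)⁻¹ * g⁻¹) by group,
        K.mul_mem_cancel_left ((Subgroup.mem_normalizer_iff.1 (hnorm y.2) _).1 k.2)]
    let c : ↥D → ℂ := fun y => ∑ k : ↥K, E lam ((k : G) * g) * conj (E lam ((y : G) * (k * g) * (y : G)⁻¹))
    have hsplit : ∀ y : ↥D, ∑ k : ↥K, E lam ((k : G) * g) * conj (h ((y : G) * ((k : G) * g) * (y : G)⁻¹)) =
        if (y : G) * g * (y : G)⁻¹ * g⁻¹ ∈ K then c y else 0 := by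
      intro y
      simp only [h, hmemh, c]
      split_ifs with hy
      · rfl
      · simp
    rw [Finset.sum_congr rfl fun y _ => hsplit y, ← Finset.sum_filter]
    split_ifs with hgood
    · rw [Finset.sum_congr rfl fun y hy => show c y = Nat.card ↥K by
        rw [← hq.csum_ext_self hlam hgM]
        refine Finset.sum_congr rfl fun k _ => ?_
        rw [hgood y y.2 (Finset.mem_filter.1 hy).2 lam hlam _ (mul_mem (hq.le k.2) hgM)]]
      rw [Finset.sum_const, nsmul_eq_mul]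
      congr 1
      rw [Nat.card_eq_fintype_card, Fintype.card_subtype]
    · obtain ⟨w, hw, hwc, m, hm, hne⟩ := hbad hgood
      have hwM := conj_mem_cyc hnorm hg hw hwc
      have hwfix : ∀ k ∈ K, E (cjI (inv_mem hwM) lam) k = E θ k := fun k hk => by
        rw [E_cjI, inv_inv, hlam _ ((Subgroup.mem_normalizer_iff.1 (hnorm hw) k).1 hk), hθ w hw k hk]
      obtain ⟨j, hj⟩ := hq.exists_twist hlam (η := cjI (inv_mem hwM) lam)
        (by rw [mu_of_ext hwfix]; exact one_ne_zero)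
      have htw : ∀ x ∈ M, E lam x = E lam (w * x * w⁻¹) * hq.ch j x := fun x hx => by
        have h1 := hq.E_twI j (cjI (inv_mem hwM) lam) hx
        rwa [hj, Cyc.tw, E_cjI, inv_inv] at h1
      have hne1 : hq.ch j g ≠ 1 := fun e => by
        refine hne (Eq.symm ((htw m hm).trans ?_))
        obtain ⟨i, hi⟩ := hq.gen m hm
        rw [show m = m * (g ^ i)⁻¹ * g ^ i from (inv_mul_cancel_right _ _).symm,
          hq.ch_mul j (hq.le hi) (pow_mem hgM i), hq.ch_of_mem j hi, one_mul, hq.ch_pow j i]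
        have h1 := hq.ch_pow j 1
        rw [pow_one, one_mul] at h1
        rw [h1] at e
        rw [mul_comm i, pow_mul, e, one_pow, mul_one]
      set S := ∑ y ∈ Finset.univ.filter (fun y : ↥D => (y : G) * g * (y : G)⁻¹ * g⁻¹ ∈ K), c y with hS
      have hshift : conj (hq.ch j g) * S = ∑ y ∈ Finset.univ.filter
          (fun y : ↥D => (y : G) * g * (y : G)⁻¹ * g⁻¹ ∈ K), conj (hq.ch j g) * c (⟨w, hw⟩ * y) := by
        rw [← Finset.mul_sum]
        congr 1
        refine Finset.sum_equiv (Equiv.mulLeft (⟨w, hw⟩⁻¹ : ↥D)) (fun y => ?_) fun y _ => by simp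
        simp only [Finset.mem_filter, Finset.mem_univ, true_and, Equiv.coe_mulLeft, Subgroup.coe_mul,
          Subgroup.coe_inv]
        rw [show w⁻¹ * (y : G) * g * (w⁻¹ * (y : G))⁻¹ * g⁻¹ =
          w⁻¹ * ((y : G) * g * (y : G)⁻¹ * g⁻¹) * w⁻¹⁻¹ * (w⁻¹ * (w * g * w⁻¹ * g⁻¹)⁻¹ * w⁻¹⁻¹) by group,
          K.mul_mem_cancel_right
            ((Subgroup.mem_normalizer_iff.1 (inv_mem (hnorm hw)) _).1 (K.inv_mem hwc))]
        exact Subgroup.mem_normalizer_iff.1 (inv_mem (hnorm hw)) _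
      have hval : ∀ y ∈ Finset.univ.filter (fun y : ↥D => (y : G) * g * (y : G)⁻¹ * g⁻¹ ∈ K),
          conj (hq.ch j g) * c (⟨w, hw⟩ * y) = c y := by
        intro y hy
        have hy' := (Finset.mem_filter.1 hy).2
        rw [Finset.mul_sum]
        refine Finset.sum_congr rfl fun k _ => ?_
        set x := (y : G) * ((k : G) * g) * (y : G)⁻¹ with hx
        have hxg : x * g⁻¹ ∈ K := (hmemh y k).2 hy'
        have hxM : x ∈ M := by
          have := M.mul_mem (hq.le hxg) hgM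
          simpa using this
        have hch : hq.ch j x = hq.ch j g := by
          rw [show x = x * g⁻¹ * g from (inv_mul_cancel_right _ _).symm, hq.ch_mul j (hq.le hxg) hgM,
            hq.ch_of_mem j hxg, one_mul]
        rw [show ((⟨w, hw⟩ * y : ↥D) : G) * ((k : G) * g) * ((⟨w, hw⟩ * y : ↥D) : G)⁻¹ = w * x * w⁻¹ by
          rw [hx]; push_cast; group]
        show conj (hq.ch j g) * (E lam ((k : G) * g) * conj (E lam (w * x * w⁻¹))) =
          E lam ((k : G) * g) * conj (E lam x)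
        rw [htw x hxM, map_mul, hch]
        ring
      rw [Finset.sum_congr rfl hval, ← hS] at hshift
      have h0 : (conj (hq.ch j g) - 1) * S = 0 := by rw [sub_mul, one_mul, hshift, sub_self]
      rw [(mul_eq_zero.1 h0).resolve_left fun e => hne1 ?_, zero_mul]
      have := congrArg (starRingEnd ℂ) (sub_eq_zero.1 e)
      rwa [Complex.conj_conj, map_one] at this
  -- Parseval
  have hpars := classInner_eq_sum hF F
  rw [hFF] at hpars
  have hterm : ∀ χ : IrrCharacter ↥D, classInner F (χ : ↥D → ℂ) * conj (classInner F (χ : ↥D → ℂ)) =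
      if mu K (E χ) (E θ) ≠ 0 then (Nat.card ↥K : ℂ) * csum K g (E χ) (E χ) else 0 := by
    intro χ
    have hA : classInner F (χ : ↥D → ℂ) = csum K g (E lam) (E χ) := by
      rw [hinner _ (IsIrrCharacter.isClassFunction χ.2)]
      exact Finset.sum_congr rfl fun k _ => by rw [E_of_mem χ (mul_mem (hKD k.2) hg)]
    split_ifs with hχ
    · have honly : ∀ η : IrrCharacter ↥M, mu M (E χ) (E η) ≠ 0 → mu K (E η) (E θ) ≠ 0 := by
        intro η hη h0
        obtain ⟨η', hη'⟩ : ∃ η' : IrrCharacter ↥K, mu K (E η) (E η') ≠ 0 := by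
          by_contra hno
          push Not at hno
          have h1 := deg_eq_sum hq.le η
          rw [Finset.sum_eq_zero fun η' _ => by rw [hno η', zero_mul]] at h1
          exact (deg_pos η).ne' h1
        have h2 : mu K (E χ) (E η') ≠ 0 := by
          rw [mu_trans hq.le ((isCh_E χ).mono hMD) η']
          refine fun e => ?_
          have := (Finset.sum_eq_zero_iff.1 e) η (Finset.mem_univ η)
          exact (mul_ne_zero hη hη') this
        rw [mu_over_only hKD θ hθ hχ hnorm h2] at hη'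
        exact hη' h0
      obtain ⟨α, hα⟩ := hq.exists_alpha hlam ((isCh_E χ).mono hMD) honly hgM
      have e1 : csum K g (E lam) (E χ) = conj α * Nat.card ↥K := by
        rw [← hq.csum_ext_self hlam hgM, csum, csum, Finset.mul_sum]
        exact Finset.sum_congr rfl fun k _ => by rw [hα k k.2, map_mul]; ring
      have e2 : csum K g (E χ) (E χ) = α * conj α * Nat.card ↥K := by
        rw [← hq.csum_ext_self hlam hgM, csum, csum, Finset.mul_sum]
        exact Finset.sum_congr rfl fun k _ => by rw [hα k k.2, map_mul]; ring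
      rw [hA, e1, e2, map_mul, Complex.conj_conj, Complex.conj_natCast]
      ring
    · rw [hA, hq.csum_eq_zero (isCh_E lam) ((isCh_E χ).mono hMD) ?_ hgM, zero_mul]
      rw [mu, ip_congr (f' := E θ) (g' := E χ) hlam (fun _ _ => rfl), ip_comm (isCh_E θ) ((isCh_E χ).mono hKD)]
      exact not_not.1 hχ
  rw [Finset.sum_congr rfl fun χ _ => hterm χ, ← Finset.sum_filter, ← Finset.mul_sum, mul_comm] at hpars
  exact (mul_left_cancel₀ (Nat.cast_ne_zero.2 Nat.card_pos.ne') hpars).symm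

include hKD hnorm hθ in
/-- The count by good elements. -/
theorem card_mul_cnt [DecidablePred (GoodIn θ D)] :
    Nat.card ↥D * Nat.card ↥K * cnt θ D = ∑ g : ↥D,
      if GoodIn θ D g then Nat.card {w : ↥D // (w : G) * g * (w : G)⁻¹ * (g : G)⁻¹ ∈ K} else 0 := by
  classical
  apply Nat.cast_injective (R := ℂ)
  push_cast
  rw [Finset.sum_congr rfl fun (g : ↥D) _ =>
    (sum_csum hKD hnorm θ hθ g.2).symm.trans rfl, Finset.sum_comm]
  have hone : ∀ χ : IrrCharacter ↥D,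
      ∑ g : ↥D, csum K g (E χ) (E χ) = (Nat.card ↥D : ℂ) * Nat.card ↥K := by
    intro χ
    simp only [csum]
    rw [Finset.sum_comm]
    have : ∀ k : ↥K, ∑ g : ↥D, E χ ((k : G) * g) * conj (E χ ((k : G) * g)) = Nat.card ↥D := by
      intro k
      rw [Fintype.sum_equiv (Equiv.mulLeft (⟨k, hKD k.2⟩ : ↥D))
        (fun g : ↥D => E χ ((k : G) * g) * conj (E χ ((k : G) * g)))
        (fun g : ↥D => E χ g * conj (E χ g)) fun g => rfl]
      have h1 := card_mul_classInner (χ : ↥D → ℂ) (χ : ↥D → ℂ)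
      rw [classInner_irr_self χ.2, mul_one] at h1
      rw [h1]
      exact Finset.sum_congr rfl fun g _ => by rw [E_coe]
    rw [Finset.sum_congr rfl fun k _ => this k, Finset.sum_const, nsmul_eq_mul, Finset.card_univ,
      ← Nat.card_eq_fintype_card, mul_comm]
  rw [Finset.sum_congr rfl fun χ _ => hone χ, Finset.sum_const, nsmul_eq_mul, cnt,
    Nat.card_eq_fintype_card (α := {χ : IrrCharacter ↥D // mu K (E χ) (E θ) ≠ 0}),
    Fintype.card_subtype (fun χ : IrrCharacter ↥D => mu K (E χ) (E θ) ≠ 0)]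
  ring

include hnorm hθ in
/-- Goodness is extendibility. -/
theorem good_iff_extends {g w : G} (hg : g ∈ D) (hw : w ∈ D) (hc : w * g * w⁻¹ * g⁻¹ ∈ K) :
    Good θ (K ⊔ Subgroup.zpowers g) w ↔ Extends θ (K ⊔ Subgroup.zpowers g ⊔ Subgroup.zpowers w) := by
  have hwM := conj_mem_cyc hnorm hg hw hc
  obtain ⟨q, hq⟩ := exists_cyc (hnorm hg)
  constructor
  · intro hgood
    obtain ⟨lam, hlam⟩ := exists_ext_cyc hnorm θ hθ hg
    obtain ⟨q', hq'⟩ := exists_cyc hwM
    have hfw : Fix (Subgroup.zpowers w) (K ⊔ Subgroup.zpowers g) (E lam) := by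
      let S : Subgroup G :=
        { carrier := {x | x ∈ Subgroup.normalizer ((K ⊔ Subgroup.zpowers g : Subgroup G) : Set G) ∧
            ∀ m ∈ K ⊔ Subgroup.zpowers g, E lam (x * m * x⁻¹) = E lam m}
          one_mem' := ⟨one_mem _, fun m _ => by simp⟩
          mul_mem' := fun {a b} ha hb => ⟨mul_mem ha.1 hb.1, fun m hm => by
            rw [show a * b * m * (a * b)⁻¹ = a * (b * m * b⁻¹) * a⁻¹ by group,
              ha.2 _ ((Subgroup.mem_normalizer_iff.1 hb.1 m).1 hm), hb.2 m hm]⟩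
          inv_mem' := fun {a} ha => ⟨inv_mem ha.1, fun m hm => by
            have hm' : a⁻¹ * m * a⁻¹⁻¹ ∈ K ⊔ Subgroup.zpowers g :=
              (Subgroup.mem_normalizer_iff.1 (inv_mem ha.1) m).1 hm
            rw [← ha.2 _ hm']; congr 1; group⟩ }
      exact fun r hr => ((Subgroup.zpowers_le.2 (show w ∈ S from ⟨hwM, hgood lam hlam⟩)) hr).2
    obtain ⟨Lam, hLam⟩ := exists_ext hq'.le hq'.norm hq'.mem hq'.gen lam
      ((fix_of_le lam le_rfl).sup Subgroup.le_normalizer (Subgroup.zpowers_le.2 hwM) hfw)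
    exact ⟨Lam, fun k hk => (hLam k (hq.le hk)).trans (hlam k hk)⟩
  · rintro ⟨Lam, hLam⟩ lam hlam m hm
    obtain ⟨l0, hl0⟩ := restrI le_sup_left le_sup_left θ Lam hLam
    have hl0θ : ∀ k ∈ K, E l0 k = E θ k := fun k hk => (hl0 k (hq.le hk)).trans (hLam k hk)
    obtain ⟨j, hj⟩ := hq.exists_twist hlam (η := l0) (by rw [mu_of_ext hl0θ]; exact one_ne_zero)
    have hm' : w * m * w⁻¹ ∈ K ⊔ Subgroup.zpowers g := (Subgroup.mem_normalizer_iff.1 hwM m).1 hm
    have hl : ∀ x ∈ K ⊔ Subgroup.zpowers g, E lam x = E Lam x * hq.ch j x := fun x hx => by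
      have h1 := hq.E_twI j l0 hx
      rwa [hj, Cyc.tw, hl0 x hx] at h1
    have hwg : hq.ch j (w * m * w⁻¹) = hq.ch j m := by
      obtain ⟨i, hi⟩ := hq.gen m hm
      have hwgM : w * g * w⁻¹ * g⁻¹ * g ∈ K ⊔ Subgroup.zpowers g := mul_mem (hq.le hc) hq.mem
      have hwg1 : hq.ch j (w * g * w⁻¹) = hq.ch j g := by
        rw [show w * g * w⁻¹ = w * g * w⁻¹ * g⁻¹ * g from (inv_mul_cancel_right _ _).symm,
          hq.ch_mul j (hq.le hc) hq.mem, hq.ch_of_mem j hc, one_mul]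
      have hpow : ∀ {x : G}, x ∈ K ⊔ Subgroup.zpowers g → ∀ i : ℕ, hq.ch j (x ^ i) = hq.ch j x ^ i := by
        intro x hx i
        exact map_pow (hq.hom j) ⟨x, hx⟩ i
      have hwgm : w * g * w⁻¹ ∈ K ⊔ Subgroup.zpowers g := by rwa [inv_mul_cancel_right] at hwgM
      conv_rhs => rw [show m = m * (g ^ i)⁻¹ * g ^ i from (inv_mul_cancel_right _ _).symm]
      rw [show w * m * w⁻¹ = w * (m * (g ^ i)⁻¹) * w⁻¹ * (w * g * w⁻¹) ^ i by rw [conj_pow]; group]
      have hk' : w * (m * (g ^ i)⁻¹) * w⁻¹ ∈ K := (Subgroup.mem_normalizer_iff.1 (hnorm hw) _).1 hi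
      rw [hq.ch_mul j (hq.le hk') (pow_mem hwgm i), hq.ch_mul j (hq.le hi) (pow_mem hq.mem i),
        hq.ch_of_mem j hk', hq.ch_of_mem j hi, hpow hwgm, hpow hq.mem, hwg1]
    rw [hl _ hm', hl m hm, hwg,
      E_conj Lam (Subgroup.mem_sup_right (Subgroup.mem_zpowers w)) (Subgroup.mem_sup_left hm)]

theorem zpowers_sup_congr {l g : G} (hl : l ∈ K) :
    K ⊔ Subgroup.zpowers (l * g) = K ⊔ Subgroup.zpowers g := by
  refine le_antisymm (sup_le le_sup_left (Subgroup.zpowers_le.2 (mul_mem (Subgroup.mem_sup_left hl)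
    (Subgroup.mem_sup_right (Subgroup.mem_zpowers g))))) (sup_le le_sup_left (Subgroup.zpowers_le.2 ?_))
  have := mul_mem (Subgroup.mem_sup_left (K.inv_mem hl) : _ ∈ K ⊔ Subgroup.zpowers (l * g))
    (Subgroup.mem_sup_right (Subgroup.mem_zpowers (l * g)))
  simpa using this

theorem sum_cosets {C D' : Subgroup G} (hKD : K ≤ D) (hD'D : D' ≤ D) (hC : K ⊓ D' = C)
    (hcov : ∀ d ∈ D, ∃ k ∈ K, ∃ x ∈ D', k * x = d) (f : G → ℕ) (hf : ∀ k ∈ K, ∀ x ∈ D', f (k * x) = f x) :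
    Nat.card ↥C * ∑ d : ↥D, f d = Nat.card ↥K * ∑ x : ↥D', f x := by
  classical
  choose kf hkf xf hxf hkx using hcov
  have hCK : C ≤ K := hC ▸ inf_le_left
  have hCD : C ≤ D' := hC ▸ inf_le_right
  let e : ↥D × ↥C ≃ ↥K × ↥D' :=
    { toFun := fun z => (⟨kf z.1 z.1.2 * (z.2 : G)⁻¹, mul_mem (hkf _ _) (inv_mem (hCK z.2.2))⟩,
        ⟨z.2 * xf z.1 z.1.2, mul_mem (hCD z.2.2) (hxf _ _)⟩)
      invFun := fun z => (⟨z.1 * z.2, mul_mem (hKD z.1.2) (hD'D z.2.2)⟩,
        ⟨z.2 * (xf ((z.1 : G) * z.2) (mul_mem (hKD z.1.2) (hD'D z.2.2)))⁻¹, by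
          rw [← hC]
          refine ⟨?_, D'.mul_mem z.2.2 (D'.inv_mem (hxf _ _))⟩
          have h1 := hkx ((z.1 : G) * z.2) (mul_mem (hKD z.1.2) (hD'D z.2.2))
          generalize kf ((z.1 : G) * z.2) _ = k, hkf ((z.1 : G) * z.2) (mul_mem (hKD z.1.2) (hD'D z.2.2)) = hk at h1
          generalize xf ((z.1 : G) * z.2) _ = x at h1 ⊢
          rw [show (z.2 : G) * x⁻¹ = (z.1 : G)⁻¹ * k by
            rw [eq_inv_mul_iff_mul_eq, ← mul_assoc, ← h1, mul_inv_cancel_right]]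
          exact K.mul_mem (K.inv_mem z.1.2) hk⟩)
      left_inv := fun z => by
        obtain ⟨⟨d, hd⟩, ⟨c, hc⟩⟩ := z
        have h1 : kf d hd * c⁻¹ * (c * xf d hd) = d := by rw [mul_assoc, inv_mul_cancel_left, hkx]
        simp only [h1]
        refine Prod.ext rfl (Subtype.ext ?_)
        show c * xf d hd * (xf d hd)⁻¹ = c
        rw [mul_inv_cancel_right]
      right_inv := fun z => by
        obtain ⟨⟨k, hk⟩, ⟨x, hx⟩⟩ := z
        have hm : k * x ∈ D := mul_mem (hKD hk) (hD'D hx)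
        refine Prod.ext (Subtype.ext ?_) (Subtype.ext (inv_mul_cancel_right _ _))
        show kf (k * x) hm * (x * (xf (k * x) hm)⁻¹)⁻¹ = k
        rw [mul_inv_rev, inv_inv, ← mul_assoc, hkx, mul_inv_cancel_right] }
  have h1 := Fintype.sum_equiv e (fun z => f z.1) (fun z => f z.2) fun z => by
    show f z.1 = f (z.2 * xf z.1 z.1.2)
    conv_lhs => rw [← hkx z.1 z.1.2, show kf (z.1 : G) z.1.2 = kf z.1 z.1.2 * (z.2 : G)⁻¹ * z.2 from
      (inv_mul_cancel_right _ _).symm, mul_assoc]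
    exact hf _ (mul_mem (hkf _ _) (inv_mem (hCK z.2.2))) _ (mul_mem (hCD z.2.2) (hxf _ _))
  rw [show (Finset.univ : Finset (↥D × ↥C)) = Finset.univ ×ˢ Finset.univ from
      (Finset.eq_univ_iff_forall.2 fun z => by simp).symm,
    show (Finset.univ : Finset (↥K × ↥D')) = Finset.univ ×ˢ Finset.univ from
      (Finset.eq_univ_iff_forall.2 fun z => by simp).symm, Finset.sum_product, Finset.sum_product] at h1
  simp only [Finset.sum_const, Finset.card_univ, smul_eq_mul, ← Finset.mul_sum] at h1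
  rw [Nat.card_eq_fintype_card, Nat.card_eq_fintype_card]
  exact h1

/-- Two counts agree when goodness agrees. -/
theorem cnt_eq {C D' : Subgroup G} (hKD : K ≤ D) (hnorm : D ≤ Subgroup.normalizer (K : Set G))
    (θ : IrrCharacter ↥K) (hθ : Fix D K (E θ)) (hD'D : D' ≤ D) (hC : K ⊓ D' = C)
    (hcov : ∀ d ∈ D, ∃ k ∈ K, ∃ x ∈ D', k * x = d) (φ : IrrCharacter ↥C) (hφ : Fix D' C (E φ))
    (hiff : ∀ g ∈ D', ∀ w ∈ D', w * g * w⁻¹ * g⁻¹ ∈ C →
      (Extends θ (K ⊔ Subgroup.zpowers g ⊔ Subgroup.zpowers w) ↔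
        Extends φ (C ⊔ Subgroup.zpowers g ⊔ Subgroup.zpowers w))) :
    cnt θ D = cnt φ D' := by
  classical
  have hCK : C ≤ K := hC ▸ inf_le_left
  have hCD' : C ≤ D' := hC ▸ inf_le_right
  have hnorm' : D' ≤ Subgroup.normalizer (C : Set G) := fun x hx =>
    Coprime.mem_normalizer_of_forall fun c hc => by
      rw [← hC]
      exact ⟨(Subgroup.mem_normalizer_iff.1 (hnorm (hD'D hx)) c).1 (hCK hc),
        D'.mul_mem (D'.mul_mem hx (hCD' hc)) (D'.inv_mem hx)⟩
  have hmemC : ∀ g ∈ D', ∀ w ∈ D', w * g * w⁻¹ * g⁻¹ ∈ K ↔ w * g * w⁻¹ * g⁻¹ ∈ C := fun g hg w hw =>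
    ⟨fun h => hC ▸ ⟨h, D'.mul_mem (D'.mul_mem (D'.mul_mem hw hg) (D'.inv_mem hw)) (D'.inv_mem hg)⟩, fun h => hCK h⟩
  have hleft : ∀ k ∈ K, ∀ w ∈ D, ∀ g ∈ D, (k * w) * g * (k * w)⁻¹ * g⁻¹ ∈ K ↔ w * g * w⁻¹ * g⁻¹ ∈ K := by
    intro k hk w _ g hg
    rw [show (k * w) * g * (k * w)⁻¹ * g⁻¹ = k * (w * g * w⁻¹ * g⁻¹) * (g * k⁻¹ * g⁻¹) by group,
      K.mul_mem_cancel_right ((Subgroup.mem_normalizer_iff.1 (hnorm hg) _).1 (K.inv_mem hk)),
      K.mul_mem_cancel_left hk]
  have hright : ∀ l ∈ K, ∀ w ∈ D, ∀ g, w * (l * g) * w⁻¹ * (l * g)⁻¹ ∈ K ↔ w * g * w⁻¹ * g⁻¹ ∈ K := by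
    intro l hl w hw g
    rw [show w * (l * g) * w⁻¹ * (l * g)⁻¹ = w * l * w⁻¹ * (w * g * w⁻¹ * g⁻¹) * l⁻¹ by group,
      K.mul_mem_cancel_right (K.inv_mem hl),
      K.mul_mem_cancel_left ((Subgroup.mem_normalizer_iff.1 (hnorm hw) _).1 hl)]
  have hgood : ∀ g ∈ D', GoodIn θ D g ↔ GoodIn φ D' g := by
    intro g hg
    constructor
    · intro h w hw hc
      rw [good_iff_extends hnorm' φ hφ hg hw hc, ← hiff g hg w hw hc,
        ← good_iff_extends hnorm θ hθ (hD'D hg) (hD'D hw) (hCK hc)]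
      exact h w (hD'D hw) (hCK hc)
    · intro h d hd hc lam hlam m hm
      obtain ⟨k, hk, w, hw, rfl⟩ := hcov d hd
      rw [hleft k hk w (hD'D hw) g (hD'D hg)] at hc
      have hgw : Good θ (K ⊔ Subgroup.zpowers g) w := by
        rw [good_iff_extends hnorm θ hθ (hD'D hg) (hD'D hw) hc, hiff g hg w hw ((hmemC g hg w hw).1 hc),
          ← good_iff_extends hnorm' φ hφ hg hw ((hmemC g hg w hw).1 hc)]
        exact h w hw ((hmemC g hg w hw).1 hc)
      rw [show k * w * m * (k * w)⁻¹ = k * (w * m * w⁻¹) * k⁻¹ by group,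
        E_conj lam (Subgroup.mem_sup_left hk)
          ((Subgroup.mem_normalizer_iff.1 (conj_mem_cyc hnorm (hD'D hg) (hD'D hw) hc) m).1 hm)]
      exact hgw lam hlam m hm
  have hinv : ∀ l ∈ K, ∀ g : G, GoodIn θ D (l * g) ↔ GoodIn θ D g := by
    intro l hl g
    unfold GoodIn
    rw [zpowers_sup_congr hl]
    exact forall_congr' fun w => forall_congr' fun hw => by rw [hright l hl w hw g]
  let N : G → ℕ := fun g => ∑ w : ↥D, if (w : G) * g * (w : G)⁻¹ * g⁻¹ ∈ K then 1 else 0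
  let N' : G → ℕ := fun g => ∑ w : ↥D', if (w : G) * g * (w : G)⁻¹ * g⁻¹ ∈ K then 1 else 0
  have hN : ∀ g ∈ D', Nat.card ↥C * N g = Nat.card ↥K * N' g := fun g hg =>
    sum_cosets hKD hD'D hC hcov (fun w => if w * g * w⁻¹ * g⁻¹ ∈ K then 1 else 0)
      fun k hk w hw => by simp only [hleft k hk w (hD'D hw) g (hD'D hg)]
  have h1 := card_mul_cnt hKD hnorm θ hθ
  have h2 := card_mul_cnt hCD' hnorm' φ hφ
  have hN1 : ∀ g : ↥D, Nat.card {w : ↥D // (w : G) * g * (w : G)⁻¹ * (g : G)⁻¹ ∈ K} = N g := fun g => by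
    rw [Nat.card_eq_fintype_card, Fintype.card_subtype, Finset.card_filter]
  have hN2 : ∀ g : ↥D', Nat.card {w : ↥D' // (w : G) * g * (w : G)⁻¹ * (g : G)⁻¹ ∈ C} = N' g := fun g => by
    rw [Nat.card_eq_fintype_card, Fintype.card_subtype, Finset.card_filter]
    exact Finset.sum_congr rfl fun w _ => by simp only [hmemC g g.2 w w.2]
  simp only [hN1] at h1
  simp only [hN2, ← fun g : ↥D' => propext (hgood g g.2)] at h2
  have h3 := sum_cosets hKD hD'D hC hcov (fun g => if GoodIn θ D g then N g else 0) fun l hl g _ => by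
    simp only [hinv l hl g, N]
    congr 1
    exact Finset.sum_congr rfl fun w _ => by simp only [hright l hl w w.2 g]
  have h4 := sum_cosets hKD hD'D hC hcov (fun _ => 1) fun _ _ _ _ => rfl
  simp only [Finset.sum_const, Finset.card_univ, smul_eq_mul, mul_one, ← Nat.card_eq_fintype_card] at h4
  have h5 : Nat.card ↥C * ∑ g : ↥D', (if GoodIn θ D g then N g else 0) =
      Nat.card ↥K * ∑ g : ↥D', (if GoodIn θ D g then N' g else 0) := by
    rw [Finset.mul_sum, Finset.mul_sum]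
    exact Finset.sum_congr rfl fun g _ => by
      split_ifs
      · exact hN g g.2
      · simp
  rw [← h2] at h5
  rw [← h1] at h3
  have e : (Nat.card ↥C * Nat.card ↥C * (Nat.card ↥D * Nat.card ↥K)) * cnt θ D =
      (Nat.card ↥C * Nat.card ↥C * (Nat.card ↥D * Nat.card ↥K)) * cnt φ D' :=
    calc _ = Nat.card ↥C * (Nat.card ↥C * (Nat.card ↥D * Nat.card ↥K * cnt θ D)) := by ring
      _ = Nat.card ↥K * (Nat.card ↥K * (Nat.card ↥D' * Nat.card ↥C * cnt φ D')) := by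
        rw [h3, mul_left_comm, h5]
      _ = Nat.card ↥K * (Nat.card ↥K * Nat.card ↥D') * Nat.card ↥C * cnt φ D' := by ring
      _ = _ := by rw [← h4]; ring
  exact Nat.eq_of_mul_eq_mul_left
    (Nat.mul_pos (Nat.mul_pos Nat.card_pos Nat.card_pos) (Nat.mul_pos Nat.card_pos Nat.card_pos)) e

end Cfsg.Agent.OW
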