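import Mathlib.RingTheory.RootsOfUnity.Complex
import Mathlib.Analysis.Complex.Basic
import Mathlib.Data.Nat.Totient

/-!
* `bessel`: Bessel's inequality for finite sums
* `totient_le_sum_norm`: the conjugates of a cyclotomic integer with coefficient sum prime to `p`
-/

set_option autoImplicit false

namespace Cfsg.Agent.OW

open scoped ComplexConjugate

theorem bessel {ι X : Type*} [Fintype ι] [Fintype X] [DecidableEq ι] (u : ι → X → ℂ) (v : X → ℂ) {c : ℝ}
    (hc : 0 < c) (horth : ∀ i l, ∑ x, u i x * conj (u l x) = if i = l then (c : ℂ) else 0) :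
    ∑ i, ‖∑ x, v x * conj (u i x)‖ ^ 2 ≤ c * ∑ x, ‖v x‖ ^ 2 := by
  let a : ι → ℂ := fun i => ∑ x, v x * conj (u i x)
  let w : X → ℂ := fun x => (c : ℂ) * v x - ∑ i, a i * u i x
  have h0 : (0 : ℝ) ≤ ∑ x, ‖w x‖ ^ 2 := Finset.sum_nonneg fun _ _ => sq_nonneg _
  have key : ((∑ x, ‖w x‖ ^ 2 : ℝ) : ℂ) =
      ((c * (c * ∑ x, ‖v x‖ ^ 2 - ∑ i, ‖a i‖ ^ 2) : ℝ) : ℂ) := by
    push_cast
    simp only [← Complex.mul_conj', w, map_sub, map_mul, Complex.conj_ofReal, map_sum]
    simp only [mul_sub, sub_mul, Finset.sum_sub_distrib, Finset.sum_mul, Finset.mul_sum]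
    have e1 : ∑ x, ∑ i, (c : ℂ) * v x * (conj (a i) * conj (u i x)) =
        (c : ℂ) * ∑ i, a i * conj (a i) := by
      rw [Finset.sum_comm, Finset.mul_sum]
      refine Finset.sum_congr rfl fun i _ => ?_
      simp only [a, Finset.sum_mul, Finset.mul_sum]
      exact Finset.sum_congr rfl fun x _ => by ring
    have e2 : ∑ x, ∑ i, a i * u i x * ((c : ℂ) * conj (v x)) =
        (c : ℂ) * ∑ i, a i * conj (a i) := by
      rw [Finset.sum_comm, Finset.mul_sum]
      refine Finset.sum_congr rfl fun i _ => ?_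
      simp only [a, map_sum, map_mul, Complex.conj_conj, Finset.mul_sum]
      exact Finset.sum_congr rfl fun x _ => by ring
    have e3 : ∑ x, ∑ l, ∑ i, a i * u i x * (conj (a l) * conj (u l x)) =
        (c : ℂ) * ∑ i, a i * conj (a i) := by
      rw [Finset.sum_comm, Finset.mul_sum]
      refine Finset.sum_congr rfl fun l _ => ?_
      rw [Finset.sum_comm]
      have : ∀ i, ∑ x, a i * u i x * (conj (a l) * conj (u l x)) =
          a i * conj (a l) * ∑ x, u i x * conj (u l x) := fun i => by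
        rw [Finset.mul_sum]; exact Finset.sum_congr rfl fun x _ => by ring
      simp only [this, horth, mul_ite, mul_zero, Finset.sum_ite_eq', Finset.mem_univ, if_true]
      ring
    simp only [Finset.mul_sum] at e1 e2 e3
    rw [e1, e2, e3]
    ring_nf
  have h1 := Complex.ofReal_inj.1 key
  rw [h1] at h0
  have := nonneg_of_mul_nonneg_right h0 hc
  linarith

variable {n : ℕ} {ω : ℂ}

theorem conj_root (hω : IsPrimitiveRoot ω n) (hn : n ≠ 0) (i : ℕ) : conj (ω ^ i) = (ω ^ i)⁻¹ := by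
  refine (Complex.inv_eq_conj ?_).symm
  rw [norm_pow, hω.norm'_eq_one hn, one_pow]

theorem dft (hω : IsPrimitiveRoot ω n) (hn : n ≠ 0) (b : ℕ → ℝ) :
    ∑ k ∈ Finset.range n, ‖∑ i ∈ Finset.range n, (b i : ℂ) * ω ^ (i * k)‖ ^ 2 =
      n * ∑ i ∈ Finset.range n, b i ^ 2 := by
  have h0 : ω ≠ 0 := hω.ne_zero hn
  apply Complex.ofReal_injective
  push_cast
  simp only [← Complex.mul_conj', map_sum, map_mul, Complex.conj_ofReal, conj_root hω hn,
    Finset.sum_mul, Finset.mul_sum]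
  rw [Finset.sum_comm]
  refine Finset.sum_congr rfl fun i hi => ?_
  rw [Finset.sum_comm, Finset.sum_eq_single i]
  · simp only [fun k : ℕ => show ω ^ (i * k) * (ω ^ (i * k))⁻¹ = 1 from
      mul_inv_cancel₀ (pow_ne_zero _ h0), mul_mul_mul_comm, mul_one, Finset.sum_const,
      Finset.card_range, nsmul_eq_mul, sq]
  · intro l hl hne
    have hw : ω ^ l * (ω ^ i)⁻¹ ≠ 1 := fun e => hne (hω.pow_inj (Finset.mem_range.1 hl)
      (Finset.mem_range.1 hi) ((mul_inv_eq_one₀ (pow_ne_zero _ h0)).1 e))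
    have hwn : (ω ^ l * (ω ^ i)⁻¹) ^ n = 1 := by
      rw [mul_pow, inv_pow, ← pow_mul, ← pow_mul, mul_comm i, mul_comm l, pow_mul, pow_mul,
        hω.pow_eq_one, one_pow, one_pow, inv_one, mul_one]
    have hs : ∑ k ∈ Finset.range n, (ω ^ l * (ω ^ i)⁻¹) ^ k = 0 := by
      rw [geom_sum_eq hw, hwn, sub_self, zero_div]
    rw [← mul_zero ((b i : ℂ) * b l), ← hs, Finset.mul_sum]
    exact Finset.sum_congr rfl fun k _ => by rw [mul_pow, inv_pow, ← pow_mul, ← pow_mul]; ring
  · exact fun h => absurd hi h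

theorem pmul_sq_sub_sq {p : ℕ} (hp : p.Prime) (a : ℕ → ℕ) (h : ¬ p ∣ ∑ t ∈ Finset.range p, a t) :
    (p : ℝ) - 1 ≤ p * ∑ t ∈ Finset.range p, (a t : ℝ) ^ 2 - (∑ t ∈ Finset.range p, (a t : ℝ)) ^ 2 := by
  classical
  set R := Finset.range p
  have e : 2 * ((p : ℝ) * ∑ t ∈ R, (a t : ℝ) ^ 2 - (∑ t ∈ R, (a t : ℝ)) ^ 2) =
      ∑ t ∈ R, ∑ u ∈ R, ((a t : ℝ) - a u) ^ 2 := by
    have hd : ∀ t u : ℕ, ((a t : ℝ) - a u) ^ 2 = (a t : ℝ) ^ 2 - 2 * (a t * a u) + (a u : ℝ) ^ 2 :=
      fun _ _ => by ring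
    simp only [hd, Finset.sum_add_distrib, Finset.sum_sub_distrib, Finset.sum_const, ← Finset.mul_sum,
      ← Finset.sum_mul, nsmul_eq_mul, R, Finset.card_range]
    ring
  let U := R.filter fun t => a t = a 0
  let W := R.filter fun t => ¬ a t = a 0
  have hUW : U.card + W.card = p := by
    rw [Finset.card_filter_add_card_filter_not, Finset.card_range]
  have hU : 1 ≤ U.card := Finset.card_pos.2 ⟨0, Finset.mem_filter.2 ⟨Finset.mem_range.2 hp.pos, rfl⟩⟩
  have hW : 1 ≤ W.card := by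
    by_contra hW
    have hW0 : W = ∅ := Finset.card_eq_zero.1 (by omega)
    refine h ?_
    rw [Finset.sum_congr rfl fun t ht => show a t = a 0 by
      by_contra hne
      exact (Finset.eq_empty_iff_forall_notMem.1 hW0) t (Finset.mem_filter.2 ⟨ht, hne⟩),
      Finset.sum_const, Finset.card_range, smul_eq_mul]
    exact dvd_mul_right _ _
  have hbound : ∀ t ∈ R, ((if a t = a 0 then W.card else U.card : ℕ) : ℝ) ≤
      ∑ u ∈ R, ((a t : ℝ) - a u) ^ 2 := by
    intro t _
    have hone : ∀ u : ℕ, a t ≠ a u → (1 : ℝ) ≤ ((a t : ℝ) - a u) ^ 2 := by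
      intro u hne
      have : (1 : ℤ) ≤ ((a t : ℤ) - a u) ^ 2 := by
        nlinarith [Int.one_le_abs (sub_ne_zero.2 (show (a t : ℤ) ≠ a u by exact_mod_cast hne)),
          sq_abs ((a t : ℤ) - a u)]
      exact_mod_cast this
    split_ifs with ht
    · rw [Finset.cast_card]
      refine (Finset.sum_le_sum (s := W) fun u hu => hone u fun e => (Finset.mem_filter.1 hu).2 (e.symm.trans ht)).trans ?_
      exact Finset.sum_le_sum_of_subset_of_nonneg (Finset.filter_subset _ _) fun _ _ _ => sq_nonneg _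
    · rw [Finset.cast_card]
      refine (Finset.sum_le_sum (s := U) fun u hu => hone u fun e => ht (e.trans (Finset.mem_filter.1 hu).2)).trans ?_
      exact Finset.sum_le_sum_of_subset_of_nonneg (Finset.filter_subset _ _) fun _ _ _ => sq_nonneg _
  have h2 := Finset.sum_le_sum hbound
  rw [← Nat.cast_sum, ← e, Finset.sum_ite, Finset.sum_const, Finset.sum_const, smul_eq_mul, smul_eq_mul] at h2
  have h3 : ((2 * (p - 1) : ℕ) : ℝ) ≤ ((U.card * W.card + W.card * U.card : ℕ) : ℝ) := by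
    refine Nat.cast_le.2 ?_
    have : p - 1 ≤ U.card * W.card := by
      have := Nat.le_mul_of_pos_left W.card (show 0 < U.card from hU)
      rcases Nat.exists_eq_add_of_le hU with ⟨u, hu⟩
      rcases Nat.exists_eq_add_of_le hW with ⟨w, hw⟩
      rw [← hUW, hu, hw]
      have : 1 + u + (1 + w) - 1 = 1 + u + w := by omega
      rw [this]; nlinarith
    rw [Nat.mul_comm W.card]; omega
  push_cast [Nat.cast_sub hp.pos] at h3 h2
  linarith

theorem totient_le_sum_norm {p b : ℕ} (hp : p.Prime) {ζ : ℂ} (hζ : IsPrimitiveRoot ζ (p ^ b)) (a : ℕ → ℕ)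
    (h : ¬ p ∣ ∑ j ∈ Finset.range (p ^ b), a j) :
    ((p ^ b).totient : ℝ) ≤ ∑ k ∈ (Finset.range (p ^ b)).filter (fun k => k.Coprime (p ^ b)),
      ‖∑ j ∈ Finset.range (p ^ b), (a j : ℂ) * ζ ^ (j * k)‖ ^ 2 := by
  obtain _ | c := b
  · simp only [pow_zero, Finset.range_one, Nat.totient_one]
    rw [Finset.filter_true_of_mem fun k hk => by simp, Finset.sum_singleton, Finset.sum_singleton]
    simp only [pow_zero, Finset.range_one, Finset.sum_singleton] at h
    have h0 : a 0 ≠ 0 := fun e => h (by rw [e]; exact dvd_zero p)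
    have : (1 : ℝ) ≤ a 0 := by exact_mod_cast Nat.one_le_iff_ne_zero.2 h0
    simp only [mul_zero, pow_zero, mul_one, Complex.norm_natCast, Nat.cast_one]
    nlinarith
  have hn : p ^ c ≠ 0 := pow_ne_zero _ hp.ne_zero
  set n := p ^ c with hn'
  have hq : p ^ (c + 1) = n * p := pow_succ p c
  rw [Nat.totient_prime_pow_succ hp, ← hn']
  simp only [hq] at h hζ ⊢
  have hfold : ∀ F : ℕ → ℂ, ∑ j ∈ Finset.range (n * p), F j =
      ∑ i ∈ Finset.range n, ∑ t ∈ Finset.range p, F (i + n * t) := by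
    intro F
    rw [← Finset.sum_product']
    refine Finset.sum_bij' (fun j _ => (j % n, j / n)) (fun x _ => x.1 + n * x.2) ?_ ?_ ?_ ?_ ?_
    · intro j hj
      rw [Finset.mem_range] at hj
      exact Finset.mem_product.2 ⟨Finset.mem_range.2 (Nat.mod_lt _ (Nat.pos_of_ne_zero hn)),
        Finset.mem_range.2 (Nat.div_lt_of_lt_mul hj)⟩
    · rintro ⟨i, t⟩ hx
      simp only [Finset.mem_product, Finset.mem_range] at hx ⊢
      calc i + n * t < n + n * t := by omega
        _ = n * (t + 1) := by ring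
        _ ≤ n * p := Nat.mul_le_mul_left n hx.2
    · intro j _; exact Nat.mod_add_div j n
    · rintro ⟨i, t⟩ hx
      simp only [Finset.mem_product, Finset.mem_range] at hx
      rw [Prod.mk.injEq, Nat.add_mul_mod_self_left, Nat.mod_eq_of_lt hx.1,
        Nat.add_mul_div_left _ _ (Nat.pos_of_ne_zero hn), Nat.div_eq_of_lt hx.1, zero_add]
      exact ⟨rfl, rfl⟩
    · intro j _
      rw [Nat.mod_add_div]
  let B : ℕ → ℕ := fun i => ∑ t ∈ Finset.range p, a (i + n * t)
  have hnp : n * p ≠ 0 := mul_ne_zero hn hp.ne_zero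
  have hω : IsPrimitiveRoot (ζ ^ p) n := hζ.pow hnp.bot_lt (mul_comm n p)
  have hall := dft hζ hnp (fun j => (a j : ℝ))
  have hsub := dft hω hn (fun i => (B i : ℝ))
  simp only [Complex.ofReal_natCast] at hall hsub
  set F : ℕ → ℝ := fun k => ‖∑ j ∈ Finset.range (n * p), (a j : ℂ) * ζ ^ (j * k)‖ ^ 2 with hF
  have hdvd : ∑ k ∈ (Finset.range (n * p)).filter (fun k => ¬ k.Coprime (n * p)), F k =
      (n : ℝ) * ∑ i ∈ Finset.range n, (B i : ℝ) ^ 2 := by
    rw [← hsub]
    symm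
    refine Finset.sum_bij (fun k _ => p * k) ?_ ?_ ?_ ?_
    · intro k hk
      rw [Finset.mem_range] at hk
      refine Finset.mem_filter.2 ⟨Finset.mem_range.2 ?_, Nat.not_coprime_of_dvd_of_dvd hp.one_lt
        (dvd_mul_right p k) (dvd_mul_left p n)⟩
      rw [mul_comm n p]; exact Nat.mul_lt_mul_of_pos_left hk hp.pos
    · intro k _ l _ e; exact Nat.eq_of_mul_eq_mul_left hp.pos e
    · intro k hk
      rw [Finset.mem_filter, Finset.mem_range] at hk
      have hpk : p ∣ k := by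
        by_contra hpk
        refine hk.2 (Nat.Coprime.mul_right (Nat.Coprime.pow_right _ ?_) ?_) <;>
          exact ((hp.coprime_iff_not_dvd).2 hpk).symm
      obtain ⟨l, rfl⟩ := hpk
      refine ⟨l, Finset.mem_range.2 ?_, rfl⟩
      rw [mul_comm n p] at hk
      exact Nat.lt_of_mul_lt_mul_left hk.1
    · intro k _
      simp only [hF]
      congr 2
      rw [hfold]
      refine Finset.sum_congr rfl fun i _ => ?_
      rw [Nat.cast_sum, Finset.sum_mul]
      refine Finset.sum_congr rfl fun t _ => ?_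
      rw [← pow_mul, show (i + n * t) * (p * k) = p * (i * k) + n * p * (t * k) by ring, pow_add,
        pow_mul ζ (n * p), hζ.pow_eq_one, one_pow, mul_one]
  have hsplit := Finset.sum_filter_add_sum_filter_not (Finset.range (n * p)) (fun k => k.Coprime (n * p)) F
  rw [hdvd, show ∑ k ∈ Finset.range (n * p), F k = _ from hall] at hsplit
  have hsq : ∑ j ∈ Finset.range (n * p), (a j : ℝ) ^ 2 =
      ∑ i ∈ Finset.range n, ∑ t ∈ Finset.range p, (a (i + n * t) : ℝ) ^ 2 := by
    have := hfold fun j => (((a j : ℝ) ^ 2 : ℝ) : ℂ)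
    exact_mod_cast this
  rw [hsq] at hsplit
  have hsumB : ∑ j ∈ Finset.range (n * p), a j = ∑ i ∈ Finset.range n, B i := by
    have := hfold fun j => (a j : ℂ)
    exact_mod_cast this
  obtain ⟨i, hi, hpB⟩ : ∃ i ∈ Finset.range n, ¬ p ∣ B i := by
    by_contra hno
    push Not at hno
    exact h (hsumB ▸ Finset.dvd_sum hno)
  have hterm : ∀ i, (0 : ℝ) ≤ p * ∑ t ∈ Finset.range p, (a (i + n * t) : ℝ) ^ 2 - (B i : ℝ) ^ 2 := by
    intro i
    rw [sub_nonneg]
    have := Finset.sum_mul_sq_le_sq_mul_sq (Finset.range p) (fun _ => (1 : ℝ))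
      (fun t => (a (i + n * t) : ℝ))
    simp only [one_mul, one_pow, Finset.sum_const, Finset.card_range, nsmul_eq_mul, mul_one] at this
    push_cast [B]
    exact this
  have hone : (p : ℝ) - 1 ≤ p * ∑ t ∈ Finset.range p, (a (i + n * t) : ℝ) ^ 2 - (B i : ℝ) ^ 2 := by
    have := pmul_sq_sub_sq hp (fun t => a (i + n * t)) hpB
    push_cast [B]
    exact this
  have htot := hone.trans (Finset.single_le_sum (fun i _ => hterm i) hi)
  rw [Finset.sum_sub_distrib, ← Finset.mul_sum] at htot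
  push_cast [Nat.cast_sub hp.pos] at hsplit ⊢
  have hnR : (0 : ℝ) ≤ n := Nat.cast_nonneg n
  have := mul_le_mul_of_nonneg_left htot hnR
  show (n : ℝ) * ((p : ℝ) - 1) ≤ ∑ k ∈ (Finset.range (n * p)).filter (fun k => k.Coprime (n * p)), F k
  linarith [hsplit]

end Cfsg.Agent.OW
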