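import Cfsg.Agent.Lib.OW.Basic
import Cfsg.Agent.Lib.OW.Numeric
import Cfsg.Agent.Lib.CharExtend.Basic
import Cfsg.Agent.Lib.Char.Linear

/-!
Cyclic overgroups `M = K ⟨s⟩`: twists, extensions, sums over cosets.

* `exists_ext`: an invariant character extends
* `Cyc.csum_eq`, `Cyc.csum_ext`, `Cyc.exists_alpha`
-/

set_option autoImplicit false
set_option linter.unusedSectionVars false

namespace Cfsg.Agent.OW

open Cfsg Cfsg.Agent.Char
open scoped ComplexConjugate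

attribute [local instance 2000] Fintype.ofFinite

variable {G : Type*} [Group G] [Finite G]

/-- Every invariant character extends to an overgroup with cyclic quotient. -/
theorem exists_ext {K M : Subgroup G} (hKM : K ≤ M) (hnorm : M ≤ Subgroup.normalizer (K : Set G)) {g : G}
    (hg : g ∈ M) (hgen : ∀ x ∈ M, ∃ i : ℕ, x * (g ^ i)⁻¹ ∈ K) (θ : IrrCharacter ↥K)
    (hθ : Fix M K (E θ)) : ∃ lam : IrrCharacter ↥M, ∀ k ∈ K, E lam k = E θ k := by
  classical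
  haveI hn : (K.subgroupOf M).Normal := (Subgroup.normal_subgroupOf_iff_le_normalizer hKM).2 hnorm
  have hcyc : IsCyclic (↥M ⧸ K.subgroupOf M) := by
    refine ⟨⟨QuotientGroup.mk ⟨g, hg⟩, fun x => ?_⟩⟩
    induction x using QuotientGroup.induction_on with
    | H x =>
      obtain ⟨i, hi⟩ := hgen x x.2
      refine ⟨(i : ℤ), ?_⟩
      show (QuotientGroup.mk ⟨g, hg⟩ : ↥M ⧸ K.subgroupOf M) ^ (i : ℤ) = _
      rw [zpow_natCast, ← QuotientGroup.mk_pow, QuotientGroup.eq, Subgroup.mem_subgroupOf]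
      have := (Subgroup.mem_normalizer_iff.1 (hnorm (inv_mem (pow_mem hg i))) _).1 hi
      simpa [mul_assoc] using this
  let e := Subgroup.subgroupOfEquivOfLe hKM
  have hθ' : IsIrrCharacter _ (fun x : ↥(K.subgroupOf M) => (θ : ↥K → ℂ) (e x)) :=
    IsIrrCharacter.comp_equiv θ.2 e
  obtain ⟨n, ρ, hirr, hρ⟩ := hθ'
  haveI := hirr
  have hval : ∀ x : ↥(K.subgroupOf M), ρ.character x = E θ ((x : ↥M) : G) := fun x => by
    rw [congrFun hρ x]; exact (E_coe θ (e x)).symm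
  obtain ⟨R, hR⟩ := CharExtend.hom_of_cyclic hcyc ρ fun y x => by
    rw [hval, hval]
    exact hθ y y.2 _ x.2
  obtain ⟨χ, hχ, hext⟩ := CharExtend.extends_of_hom ρ R hR
  refine ⟨⟨χ, hχ⟩, fun k hk => ?_⟩
  rw [E_of_mem _ (hKM hk)]
  exact (hext ⟨⟨k, hKM hk⟩, hk⟩).trans (hval _)

/-- `M = K ⟨s⟩` with `K` normal of index `q`. -/
structure Cyc (K M : Subgroup G) (s : G) (q : ℕ) : Prop where
  le : K ≤ M
  norm : M ≤ Subgroup.normalizer (K : Set G)
  mem : s ∈ M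
  gen : ∀ g ∈ M, ∃ i : ℕ, g * (s ^ i)⁻¹ ∈ K
  pow : ∀ i : ℕ, s ^ i ∈ K ↔ q ∣ i

variable {K M : Subgroup G} {s : G} {q : ℕ}

theorem Cyc.ne_zero (h : Cyc K M s q) : q ≠ 0 := by
  rintro rfl
  exact (orderOf_pos s).ne' (zero_dvd_iff.1 ((h.pow _).1 (by rw [pow_orderOf_eq_one]; exact K.one_mem)))

theorem Cyc.neZero (h : Cyc K M s q) : NeZero q := ⟨h.ne_zero⟩

theorem Cyc.conj_mem (h : Cyc K M s q) {g : G} (hg : g ∈ M) {k : G} (hk : k ∈ K) : g * k * g⁻¹ ∈ K :=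
  (Subgroup.mem_normalizer_iff.1 (h.norm hg) k).1 hk

theorem Cyc.modEq_iff (h : Cyc K M s q) (i j : ℕ) : s ^ i * (s ^ j)⁻¹ ∈ K ↔ i ≡ j [MOD q] := by
  rcases le_total j i with hle | hle
  · rw [Nat.ModEq.comm, Nat.modEq_iff_dvd' hle, ← h.pow, ← pow_sub s hle]
  · rw [Nat.modEq_iff_dvd' hle, ← h.pow, ← inv_mem_iff, mul_inv_rev, inv_inv, ← pow_sub s hle]

open Classical in
/-- The coset of `g`. -/
noncomputable def Cyc.idx (_h : Cyc K M s q) (g : G) : ℕ :=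
  if hg : ∃ i : ℕ, g * (s ^ i)⁻¹ ∈ K then hg.choose else 0

theorem Cyc.idx_spec (h : Cyc K M s q) {g : G} (hg : g ∈ M) : g * (s ^ h.idx g)⁻¹ ∈ K := by
  rw [Cyc.idx, dif_pos (h.gen g hg)]; exact (h.gen g hg).choose_spec

theorem Cyc.idx_unique (h : Cyc K M s q) {g : G} (hg : g ∈ M) {i : ℕ} (hi : g * (s ^ i)⁻¹ ∈ K) :
    h.idx g ≡ i [MOD q] := by
  rw [← h.modEq_iff]
  have := K.mul_mem (K.inv_mem (h.idx_spec hg)) hi
  simpa [mul_assoc] using this

theorem Cyc.idx_mul (h : Cyc K M s q) {a b : G} (ha : a ∈ M) (hb : b ∈ M) :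
    h.idx (a * b) ≡ h.idx a + h.idx b [MOD q] := by
  refine h.idx_unique (mul_mem ha hb) ?_
  rw [show a * b * (s ^ (h.idx a + h.idx b))⁻¹ =
    a * (b * (s ^ h.idx b)⁻¹) * a⁻¹ * (a * (s ^ h.idx a)⁻¹) by rw [pow_add]; group]
  exact mul_mem (h.conj_mem ha (h.idx_spec hb)) (h.idx_spec ha)

theorem Cyc.idx_pow (h : Cyc K M s q) (i : ℕ) : h.idx (s ^ i) ≡ i [MOD q] :=
  h.idx_unique (pow_mem h.mem i) (by rw [mul_inv_cancel]; exact K.one_mem)

theorem Cyc.idx_of_mem (h : Cyc K M s q) {g : G} (hg : g ∈ K) : h.idx g ≡ 0 [MOD q] :=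
  h.idx_unique (h.le hg) (by simpa using hg)

/-- A primitive `q`-th root of unity. -/
noncomputable def zeta (q : ℕ) : ℂ := Complex.exp (2 * Real.pi * Complex.I / q)

theorem zeta_prim {q : ℕ} (hq : q ≠ 0) : IsPrimitiveRoot (zeta q) q := Complex.isPrimitiveRoot_exp q hq

theorem zeta_congr {q : ℕ} (hq : q ≠ 0) {a b : ℕ} (h : a ≡ b [MOD q]) : zeta q ^ a = zeta q ^ b := by
  rw [← Nat.div_add_mod a q, ← Nat.div_add_mod b q, pow_add, pow_add, pow_mul, pow_mul,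
    (zeta_prim hq).pow_eq_one, one_pow, one_pow, show a % q = b % q from h]

/-- The linear characters of `M / K`. -/
noncomputable def Cyc.ch (h : Cyc K M s q) (j : ℕ) (g : G) : ℂ := zeta q ^ (h.idx g * j)

theorem Cyc.ch_mul (h : Cyc K M s q) (j : ℕ) {a b : G} (ha : a ∈ M) (hb : b ∈ M) :
    h.ch j (a * b) = h.ch j a * h.ch j b := by
  rw [Cyc.ch, Cyc.ch, Cyc.ch, ← pow_add, ← add_mul]
  exact zeta_congr h.ne_zero ((h.idx_mul ha hb).mul_right _)

theorem Cyc.ch_of_mem (h : Cyc K M s q) (j : ℕ) {g : G} (hg : g ∈ K) : h.ch j g = 1 := by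
  rw [Cyc.ch, zeta_congr h.ne_zero ((h.idx_of_mem hg).mul_right j), zero_mul, pow_zero]

theorem Cyc.ch_pow (h : Cyc K M s q) (j i : ℕ) : h.ch j (s ^ i) = zeta q ^ (i * j) :=
  zeta_congr h.ne_zero ((h.idx_pow i).mul_right j)

theorem Cyc.ch_zero (h : Cyc K M s q) (g : G) : h.ch 0 g = 1 := by rw [Cyc.ch, mul_zero, pow_zero]

theorem Cyc.ch_norm (h : Cyc K M s q) (j : ℕ) (g : G) : h.ch j g * conj (h.ch j g) = 1 := by
  rw [Complex.mul_conj', Cyc.ch, norm_pow, (zeta_prim h.ne_zero).norm'_eq_one h.ne_zero]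
  simp

/-- The linear character as a homomorphism. -/
noncomputable def Cyc.hom (h : Cyc K M s q) (j : ℕ) : ↥M →* ℂ where
  toFun g := h.ch j g
  map_one' := h.ch_of_mem j K.one_mem
  map_mul' a b := h.ch_mul j a.2 b.2

theorem Cyc.sum_ch (h : Cyc K M s q) {g t : G} (hg : g ∈ M) (ht : t ∈ M) [Decidable (g * t⁻¹ ∈ K)] :
    ∑ j ∈ Finset.range q, h.ch j g * conj (h.ch j t) = if g * t⁻¹ ∈ K then (q : ℂ) else 0 := by
  set ζ := zeta q
  have hζ : IsPrimitiveRoot ζ q := zeta_prim h.ne_zero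
  have h0 : ζ ≠ 0 := hζ.ne_zero h.ne_zero
  have hterm : ∀ j, h.ch j g * conj (h.ch j t) = (ζ ^ h.idx g * (ζ ^ h.idx t)⁻¹) ^ j := fun j => by
    rw [Cyc.ch, Cyc.ch, conj_root hζ h.ne_zero, mul_pow, inv_pow, ← pow_mul, ← pow_mul]
  simp only [hterm]
  have hiff : g * t⁻¹ ∈ K ↔ h.idx g ≡ h.idx t [MOD q] := by
    rw [← h.modEq_iff,
      show s ^ h.idx g * (s ^ h.idx t)⁻¹ =
        (g * (s ^ h.idx g)⁻¹)⁻¹ * (g * t⁻¹) * (t * (s ^ h.idx t)⁻¹) by group,
      K.mul_mem_cancel_right (h.idx_spec ht), K.mul_mem_cancel_left (K.inv_mem (h.idx_spec hg))]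
  split_ifs with hk
  · rw [zeta_congr h.ne_zero (hiff.1 hk), mul_inv_cancel₀ (pow_ne_zero _ h0)]
    simp
  · have hw : ζ ^ h.idx g * (ζ ^ h.idx t)⁻¹ ≠ 1 := by
      intro e
      have e' := (mul_inv_eq_one₀ (pow_ne_zero _ h0)).1 e
      rw [zeta_congr h.ne_zero (Nat.mod_modEq (h.idx g) q).symm,
        zeta_congr h.ne_zero (Nat.mod_modEq (h.idx t) q).symm] at e'
      exact hk (hiff.2 (hζ.pow_inj (Nat.mod_lt _ (Nat.pos_of_ne_zero h.ne_zero))
        (Nat.mod_lt _ (Nat.pos_of_ne_zero h.ne_zero)) e'))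
    rw [geom_sum_eq hw, mul_pow, inv_pow, ← pow_mul, ← pow_mul, mul_comm (h.idx g), mul_comm (h.idx t),
      pow_mul, pow_mul, hζ.pow_eq_one, one_pow, one_pow, inv_one, mul_one, sub_self, zero_div]

theorem Cyc.card_eq (h : Cyc K M s q) : Nat.card ↥M = q * Nat.card ↥K := by
  have hbij : Function.Bijective fun x : Fin q × ↥K =>
      (⟨x.2 * s ^ (x.1 : ℕ), mul_mem (h.le x.2.2) (pow_mem h.mem _)⟩ : ↥M) := by
    refine ⟨fun x y e => ?_, fun g => ?_⟩
    · have e' : (x.2 : G) * s ^ (x.1 : ℕ) = y.2 * s ^ (y.1 : ℕ) := congrArg Subtype.val e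
      have hm : (x.1 : ℕ) ≡ y.1 [MOD q] := by
        rw [← h.modEq_iff, show s ^ (x.1 : ℕ) * (s ^ (y.1 : ℕ))⁻¹ = (x.2 : G)⁻¹ * y.2 by
          rw [eq_inv_mul_iff_mul_eq, ← mul_assoc, e', mul_inv_cancel_right]]
        exact K.mul_mem (K.inv_mem x.2.2) y.2.2
      have h1 : x.1 = y.1 := Fin.ext (Nat.ModEq.eq_of_lt_of_lt hm x.1.2 y.1.2)
      rw [h1] at e'
      exact Prod.ext h1 (Subtype.ext (mul_right_cancel e'))
    · refine ⟨(⟨h.idx g % q, Nat.mod_lt _ (Nat.pos_of_ne_zero h.ne_zero)⟩,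
        ⟨(g : G) * (s ^ (h.idx g % q))⁻¹, ?_⟩), Subtype.ext (by simp)⟩
      have := K.mul_mem (h.idx_spec g.2) ((h.modEq_iff (h.idx g) (h.idx g % q)).2 (Nat.mod_modEq _ _).symm)
      simpa [mul_assoc] using this
  rw [← Nat.card_congr (Equiv.ofBijective _ hbij), Nat.card_prod, Nat.card_fin]

/-- Twist by a linear character of `M / K`. -/
noncomputable def Cyc.tw (h : Cyc K M s q) (j : ℕ) (f : G → ℂ) : G → ℂ := fun g => f g * h.ch j g

theorem Cyc.isCh_tw (h : Cyc K M s q) (j : ℕ) {f : G → ℂ} (hf : IsCh M f) : IsCh M (h.tw j f) :=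
  IsCharacter.mul (χ := rs M f) (ψ := ⇑(h.hom j)) hf (isCharacter_of_hom (h.hom j))

/-- The twisted irreducible character. -/
noncomputable def Cyc.twI (h : Cyc K M s q) (j : ℕ) (η : IrrCharacter ↥M) : IrrCharacter ↥M :=
  ⟨fun g => (η : ↥M → ℂ) g * h.hom j g, IsIrrCharacter.mul_linear η.2 (h.hom j)⟩

theorem Cyc.E_twI (h : Cyc K M s q) (j : ℕ) (η : IrrCharacter ↥M) {g : G} (hg : g ∈ M) :
    E (h.twI j η) g = h.tw j (E η) g := by
  rw [E_of_mem _ hg, Cyc.tw, E_of_mem _ hg]; rfl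

theorem Cyc.mu_tw (h : Cyc K M s q) [DecidableEq (IrrCharacter ↥M)] (j : ℕ) (η η' : IrrCharacter ↥M) :
    mu M (h.tw j (E η)) (E η') = if h.twI j η = η' then 1 else 0 := by
  rw [mu, ip_congr (f' := E (h.twI j η)) (g' := E η') (fun g hg => (h.E_twI j η hg).symm) fun _ _ => rfl]
  exact mu_E _ _

/-- The sum over the coset of `t`. -/
noncomputable def csum (K : Subgroup G) (t : G) (f g : G → ℂ) : ℂ :=
  ∑ k : ↥K, f (k * t) * conj (g (k * t))

theorem Cyc.csum_eq (h : Cyc K M s q) {t : G} (ht : t ∈ M) (f g : G → ℂ) :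
    csum K t f g = (Nat.card ↥K : ℂ) * ∑ j ∈ Finset.range q, conj (h.ch j t) * ip M (h.tw j f) g := by
  classical
  have hq : (q : ℂ) ≠ 0 := Nat.cast_ne_zero.2 h.ne_zero
  have hK : (Nat.card ↥K : ℂ) ≠ 0 := Nat.cast_ne_zero.2 Nat.card_pos.ne'
  have h1 : ∑ j ∈ Finset.range q, conj (h.ch j t) * ip M (h.tw j f) g =
      (Nat.card ↥M : ℂ)⁻¹ * ∑ x : ↥M, if (x : G) * t⁻¹ ∈ K then (q : ℂ) * (f x * conj (g x)) else 0 := by
    simp only [ip, classInner, rs, Cyc.tw, Finset.mul_sum]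
    rw [Finset.sum_comm]
    refine Finset.sum_congr rfl fun x _ => ?_
    have := h.sum_ch x.2 ht
    rw [show (if (x : G) * t⁻¹ ∈ K then (q : ℂ) * (f x * conj (g x)) else 0) =
      (if (x : G) * t⁻¹ ∈ K then (q : ℂ) else 0) * (f x * conj (g x)) by split_ifs <;> simp, ← this,
      Finset.sum_mul, Finset.mul_sum]
    exact Finset.sum_congr rfl fun j _ => by ring
  have h2 : ∑ x : ↥M, (if (x : G) * t⁻¹ ∈ K then (q : ℂ) * (f x * conj (g x)) else 0) =
      (q : ℂ) * csum K t f g := by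
    rw [← Finset.sum_filter, csum, Finset.mul_sum]
    symm
    refine Finset.sum_bij (fun k _ => (⟨k * t, mul_mem (h.le k.2) ht⟩ : ↥M)) (fun k _ => ?_)
      (fun a _ b _ e => Subtype.ext (mul_right_cancel (congrArg Subtype.val e))) (fun x hx => ?_)
      fun k _ => rfl
    · simp
    · rw [Finset.mem_filter] at hx
      exact ⟨⟨_, hx.2⟩, Finset.mem_univ _, Subtype.ext (inv_mul_cancel_right _ _)⟩
  rw [h1, h2, h.card_eq, Nat.cast_mul]
  field_simp

theorem csum_one (K : Subgroup G) (f g : G → ℂ) : csum K 1 f g = (Nat.card ↥K : ℂ) * ip K f g := by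
  rw [ip, card_mul_classInner]
  simp [csum, rs]

theorem Cyc.ip_eq_sum (h : Cyc K M s q) (f g : G → ℂ) :
    ip K f g = ∑ j ∈ Finset.range q, ip M (h.tw j f) g := by
  have h1 := h.csum_eq M.one_mem f g
  rw [csum_one] at h1
  have h2 := mul_left_cancel₀ (Nat.cast_ne_zero.2 Nat.card_pos.ne') h1
  rw [h2]
  exact Finset.sum_congr rfl fun j _ => by rw [h.ch_of_mem j K.one_mem, map_one, one_mul]

theorem Cyc.mu_eq_sum (h : Cyc K M s q) {π π' : G → ℂ} (hπ : IsCh M π) (hπ' : IsCh M π') :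
    mu K π π' = ∑ j ∈ Finset.range q, mu M (h.tw j π) π' := by
  have := h.ip_eq_sum π π'
  rw [mu_spec (hπ.mono h.le) (hπ'.mono h.le)] at this
  simp only [fun j => mu_spec (h.isCh_tw j hπ) hπ'] at this
  exact_mod_cast this

theorem Cyc.exists_twist (h : Cyc K M s q) {θ : IrrCharacter ↥K} {lam : IrrCharacter ↥M}
    (hlam : ∀ k ∈ K, E lam k = E θ k) {η : IrrCharacter ↥M} (hη : mu K (E η) (E θ) ≠ 0) :
    ∃ j, h.twI j η = lam := by
  classical
  have h1 : mu K (E η) (E θ) = mu K (E η) (E lam) := by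
    rw [mu, mu, ip_congr (f' := E η) (g' := E lam) (fun _ _ => rfl) fun k hk => (hlam k hk).symm]
  rw [h1, h.mu_eq_sum (isCh_E η) (isCh_E lam)] at hη
  obtain ⟨j, -, hj⟩ := Finset.exists_ne_zero_of_sum_ne_zero hη
  rw [h.mu_tw] at hj
  exact ⟨j, by by_contra hne; rw [if_neg hne] at hj; exact hj rfl⟩

theorem Cyc.csum_ext_self (h : Cyc K M s q) {θ : IrrCharacter ↥K} {lam : IrrCharacter ↥M}
    (hlam : ∀ k ∈ K, E lam k = E θ k) {t : G} (ht : t ∈ M) :
    csum K t (E lam) (E lam) = Nat.card ↥K := by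
  classical
  have hs : ∑ j ∈ Finset.range q, mu M (h.tw j (E lam)) (E lam) = 1 := by
    rw [← h.mu_eq_sum (isCh_E lam) (isCh_E lam), mu,
      ip_congr (f' := E θ) (g' := E θ) hlam hlam, ip_E]
    simp
  have h0 : mu M (h.tw 0 (E lam)) (E lam) = 1 := by
    rw [mu, show h.tw 0 (E lam) = E lam from funext fun g => by rw [Cyc.tw, h.ch_zero, mul_one], ip_E]
    simp
  rw [h.csum_eq ht, Finset.sum_eq_single 0]
  · rw [h.ch_zero, map_one, one_mul, mu_spec (h.isCh_tw 0 (isCh_E lam)) (isCh_E lam), h0]; simp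
  · intro j hj hne
    have hle : mu M (h.tw j (E lam)) (E lam) + mu M (h.tw 0 (E lam)) (E lam) ≤ 1 := by
      rw [← hs, ← Finset.sum_pair hne (f := fun j => mu M (h.tw j (E lam)) (E lam))]
      exact Finset.sum_le_sum_of_subset (Finset.insert_subset hj
        (Finset.singleton_subset_iff.2 (Finset.mem_range.2 (Nat.pos_of_ne_zero h.ne_zero))))
    rw [mu_spec (h.isCh_tw j (isCh_E lam)) (isCh_E lam), show mu M (h.tw j (E lam)) (E lam) = 0 by omega]
    simp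
  · exact fun hn => absurd (Finset.mem_range.2 (Nat.pos_of_ne_zero h.ne_zero)) hn

theorem Cyc.csum_eq_zero (h : Cyc K M s q) {π π' : G → ℂ} (hπ : IsCh M π) (hπ' : IsCh M π')
    (h0 : mu K π π' = 0) {t : G} (ht : t ∈ M) : csum K t π π' = 0 := by
  rw [h.mu_eq_sum hπ hπ', Finset.sum_eq_zero_iff] at h0
  rw [h.csum_eq ht, Finset.sum_eq_zero fun j hj => by
    rw [mu_spec (h.isCh_tw j hπ) hπ', h0 j hj, Nat.cast_zero, mul_zero], mul_zero]

theorem Cyc.csum_ext_ne (h : Cyc K M s q) {θ θ' : IrrCharacter ↥K} {lam lam' : IrrCharacter ↥M}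
    (hlam : ∀ k ∈ K, E lam k = E θ k) (hlam' : ∀ k ∈ K, E lam' k = E θ' k) (hne : θ ≠ θ') {t : G}
    (ht : t ∈ M) : csum K t (E lam) (E lam') = 0 := by
  classical
  refine h.csum_eq_zero (isCh_E lam) (isCh_E lam') ?_ ht
  rw [mu, ip_congr (f' := E θ) (g' := E θ') hlam hlam', ip_E, if_neg hne]
  simp

theorem Cyc.twI_ne (h : Cyc K M s q) {θ : IrrCharacter ↥K} {lam : IrrCharacter ↥M}
    (hlam : ∀ k ∈ K, E lam k = E θ k) {j : ℕ} (hj : j < q) (hne : j ≠ 0) : h.twI j lam ≠ lam := by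
  classical
  intro e
  have hs : ∑ j ∈ Finset.range q, mu M (h.tw j (E lam)) (E lam) = 1 := by
    rw [← h.mu_eq_sum (isCh_E lam) (isCh_E lam), mu,
      ip_congr (f' := E θ) (g' := E θ) hlam hlam, ip_E]
    simp
  have h0 : h.twI 0 lam = lam := irr_ext fun g hg => by rw [h.E_twI 0 lam hg, Cyc.tw, h.ch_zero, mul_one]
  simp only [h.mu_tw] at hs
  have hle : (if h.twI j lam = lam then 1 else 0) + (if h.twI 0 lam = lam then 1 else 0) ≤ 1 := by
    refine le_of_le_of_eq ?_ hs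
    rw [← Finset.sum_pair hne (f := fun j => if h.twI j lam = lam then 1 else 0)]
    exact Finset.sum_le_sum_of_subset (Finset.insert_subset (Finset.mem_range.2 hj)
      (Finset.singleton_subset_iff.2 (Finset.mem_range.2 (Nat.pos_of_ne_zero h.ne_zero))))
  rw [if_pos e, if_pos h0] at hle
  omega

/-- A character lying only over `θ` is proportional to the extension on each coset. -/
theorem Cyc.exists_alpha (h : Cyc K M s q) {θ : IrrCharacter ↥K} {lam : IrrCharacter ↥M}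
    (hlam : ∀ k ∈ K, E lam k = E θ k) {π : G → ℂ} (hπ : IsCh M π)
    (honly : ∀ η : IrrCharacter ↥M, mu M π (E η) ≠ 0 → mu K (E η) (E θ) ≠ 0) {t : G} (ht : t ∈ M) :
    ∃ α : ℂ, ∀ k ∈ K, π (k * t) = α * E lam (k * t) := by
  classical
  obtain ⟨c, hc, hcn⟩ := IsCharacter.decompose hπ
  choose! jf hjf using fun η (hη : mu K (E η) (E θ) ≠ 0) => h.exists_twist hlam hη
  refine ⟨∑ η : IrrCharacter ↥M, (c η : ℂ) * conj (h.ch (jf η) t), fun k hk => ?_⟩
  have hkt : k * t ∈ M := mul_mem (h.le hk) ht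
  have h1 := congrFun hc ⟨k * t, hkt⟩
  simp only [Finset.sum_apply, Pi.smul_apply, smul_eq_mul] at h1
  rw [show π (k * t) = rs M π ⟨k * t, hkt⟩ from rfl, h1, Finset.sum_mul]
  refine Finset.sum_congr rfl fun η _ => ?_
  by_cases h0 : c η = 0
  · simp [h0]
  have hmu : mu M π (E η) ≠ 0 := by
    have h2 : (mu M π (E η) : ℂ) = c η := by rw [← mu_spec hπ (isCh_E η), ip, rs_E, hcn]
    intro e; rw [e] at h2; exact h0 (by exact_mod_cast h2.symm)
  have hE := congrArg (fun x => E x (k * t)) (hjf η (honly η hmu))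
  simp only [h.E_twI _ η hkt, Cyc.tw] at hE
  rw [← hE, h.ch_mul _ (h.le hk) ht, h.ch_of_mem _ hk, one_mul, ← E_coe η ⟨k * t, hkt⟩, mul_assoc,
    mul_comm (conj _), mul_assoc, h.ch_norm, mul_one]

end Cfsg.Agent.OW
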