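import Cfsg.Agent.Lib.OW.Corr
import Cfsg.Agent.Lib.MGroup.Wreath
import Cfsg.Agent.Lib.CharApp.CoprimeFixed

/-!
Extensions to overgroups with abelian quotient of order prime to `p`.

* `Extends`, `restrI`, `abelian_over_ext`, `fix_ext`
* `cenMod L X`: what centralises `X` modulo `L`
* `step_iff`: one cyclic step of the extension criterion
-/

set_option autoImplicit false
set_option linter.unusedSectionVars false

namespace Cfsg.Agent.OW

open Cfsg Cfsg.Agent.Char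

attribute [local instance 2000] Fintype.ofFinite

variable {G : Type*} [Group G] [Finite G]

/-- `θ` extends to `M`. -/
def Extends {K : Subgroup G} (θ : IrrCharacter ↥K) (M : Subgroup G) : Prop :=
  ∃ lam : IrrCharacter ↥M, ∀ k ∈ K, E lam k = E θ k

theorem extends_self {K : Subgroup G} (θ : IrrCharacter ↥K) : Extends θ K := ⟨θ, fun _ _ => rfl⟩

/-- Restriction of an extension to an intermediate subgroup. -/
theorem restrI {K A M : Subgroup G} (hKA : K ≤ A) (hAM : A ≤ M) (θ : IrrCharacter ↥K)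
    (lam : IrrCharacter ↥M) (hlam : ∀ k ∈ K, E lam k = E θ k) :
    ∃ lam' : IrrCharacter ↥A, ∀ g ∈ A, E lam' g = E lam g := by
  let e := Subgroup.subgroupOfEquivOfLe hKA
  have hch : IsCharacter ↥A (rs A (E lam)) := (isCh_E lam).mono hAM
  have hirr : IsIrrCharacter ↥(K.subgroupOf A) fun n => rs A (E lam) n := by
    rw [show (fun n : ↥(K.subgroupOf A) => rs A (E lam) n) = fun n => (θ : ↥K → ℂ) (e n) from
      funext fun n => (hlam _ n.2).trans (E_coe θ (e n))]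
    exact IsIrrCharacter.comp_equiv θ.2 e
  exact ⟨⟨_, MGroup.isIrr_of_restrict (K.subgroupOf A) hch hirr⟩, fun g hg => E_of_mem _ hg⟩

theorem Extends.mono {K A M : Subgroup G} {θ : IrrCharacter ↥K} (h : Extends θ M) (hKA : K ≤ A)
    (hAM : A ≤ M) : Extends θ A := by
  obtain ⟨lam, hlam⟩ := h
  obtain ⟨lam', h'⟩ := restrI hKA hAM θ lam hlam
  exact ⟨lam', fun k hk => (h' k (hKA hk)).trans (hlam k hk)⟩

theorem mu_of_ext {K M : Subgroup G} {θ : IrrCharacter ↥K} {lam : IrrCharacter ↥M}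
    (hlam : ∀ k ∈ K, E lam k = E θ k) : mu K (E lam) (E θ) = 1 := by
  classical
  rw [mu, ip_congr (f' := E θ) (g' := E θ) hlam (fun _ _ => rfl), ip_E]
  simp

theorem deg_of_ext {K M : Subgroup G} {θ : IrrCharacter ↥K} {lam : IrrCharacter ↥M}
    (hlam : ∀ k ∈ K, E lam k = E θ k) : deg lam = deg θ := by
  have h := hlam 1 K.one_mem
  rw [E_one, E_one] at h
  exact_mod_cast h

/-- With an abelian quotient, one extension forces all characters above to be extensions. -/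
theorem abelian_over_ext {K M : Subgroup G} (hKM : K ≤ M) (hab : ∀ x ∈ M, ∀ y ∈ M, x * y * x⁻¹ * y⁻¹ ∈ K)
    {θ : IrrCharacter ↥K} (hext : Extends θ M) {η : IrrCharacter ↥M} (hη : mu K (E η) (E θ) ≠ 0) :
    ∀ k ∈ K, E η k = E θ k := by
  classical
  obtain ⟨lam, hlam⟩ := hext
  let e := Subgroup.subgroupOfEquivOfLe hKM
  haveI : (K.subgroupOf M).Normal := ⟨fun n hn g => by
    have := K.mul_mem (hab g g.2 n (hKM hn)) hn
    simpa [Subgroup.mem_subgroupOf, mul_assoc] using this⟩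
  have hθ' : IsIrrCharacter ↥(K.subgroupOf M) (fun n => (θ : ↥K → ℂ) (e n)) :=
    IsIrrCharacter.comp_equiv θ.2 e
  have hinner : ∀ χ : IrrCharacter ↥M, mu K (E χ) (E θ) ≠ 0 →
      classInner (fun n : ↥(K.subgroupOf M) => (χ : ↥M → ℂ) n) (fun n => (θ : ↥K → ℂ) (e n)) ≠ 0 := by
    intro χ hχ h0
    apply hχ
    rw [mu, ← ip_subgroupOf hKM,
      show (fun a : ↥(K.subgroupOf M) => rs M (E χ) a) = fun a : ↥(K.subgroupOf M) => (χ : ↥M → ℂ) a from
        funext fun a => congrFun (rs_E χ) a,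
      show (fun a : ↥(K.subgroupOf M) => rs M (E θ) a) = fun a : ↥(K.subgroupOf M) => (θ : ↥K → ℂ) (e a) from
        funext fun a => E_coe θ (e a), h0]
    simp
  obtain ⟨l, hl, he⟩ := CharApp.exists_linear_twist_of_abelian_quotient (K.subgroupOf M)
    (fun x y => hab x x.2 y y.2) hθ' lam.2 η.2 (hinner lam (by rw [mu_of_ext hlam]; exact one_ne_zero))
    (hinner η hη)
  intro k hk
  rw [E_of_mem η (hKM hk), he, Pi.mul_apply, hl ⟨⟨k, hKM hk⟩, hk⟩, mul_one, ← E_of_mem lam (hKM hk), hlam k hk]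

variable {p : ℕ} [hp : Fact p.Prime]

/-- An extension of a fixed character is fixed by `r` when `r` centralises `M / K`. -/
theorem fix_ext {K M : Subgroup G} (hKM : K ≤ M) (hnorm : M ≤ Subgroup.normalizer (K : Set G)) {r : G}
    (hrK : r ∈ Subgroup.normalizer (K : Set G)) (hcen : ∀ m ∈ M, r * m * r⁻¹ * m⁻¹ ∈ K)
    (hidx : ¬ p ∣ K.relIndex M) (hpow : ∃ n : ℕ, r ^ p ^ n ∈ K) {θ : IrrCharacter ↥K}
    (hθ : ∀ k ∈ K, E θ (r * k * r⁻¹) = E θ k) {lam : IrrCharacter ↥M}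
    (hlam : ∀ k ∈ K, E lam k = E θ k) {m : G} (hm : m ∈ M) : E lam (r * m * r⁻¹) = E lam m := by
  classical
  obtain ⟨q, hq⟩ := exists_cyc (hnorm hm)
  set A := K ⊔ Subgroup.zpowers m with hA
  have hAM : A ≤ M := sup_le hKM (Subgroup.zpowers_le.2 hm)
  obtain ⟨mu', hmu'⟩ := restrI le_sup_left hAM θ lam hlam
  have hext : ∀ k ∈ K, E mu' k = E θ k := fun k hk => (hmu' k (hq.le hk)).trans (hlam k hk)
  have hrconj : ∀ g ∈ A, r * g * r⁻¹ ∈ A := fun g hg => by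
    have := A.mul_mem (hq.le (hcen g (hAM hg))) hg
    simpa [mul_assoc] using this
  have hrA : r ∈ Subgroup.normalizer (A : Set G) := Coprime.mem_normalizer_of_forall hrconj
  have hq' : ¬ p ∣ q := fun hd => hidx (hd.trans (Dvd.intro (A.relIndex M) (by
    rw [← Subgroup.relIndex_mul_relIndex K A M hq.le hAM]
    congr 1
    have h1 := Subgroup.card_mul_index (K.subgroupOf A)
    rw [Nat.card_congr (Subgroup.subgroupOfEquivOfLe hq.le).toEquiv, hq.card_eq, mul_comm q] at h1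
    exact (Nat.eq_of_mul_eq_mul_left Nat.card_pos h1).symm)))
  have hcj : ∀ k ∈ K, E (cjI hrA mu') k = E θ k := fun k hk => by
    have hk' : r⁻¹ * k * r ∈ K := by
      simpa using (Subgroup.mem_normalizer_iff.1 (inv_mem hrK) k).1 hk
    rw [E_cjI, hext _ hk', ← hθ _ hk']
    congr 1; group
  obtain ⟨j, hj⟩ := hq.exists_twist hext (η := cjI hrA mu') (by rw [mu_of_ext hcj]; exact one_ne_zero)
  have hstep : ∀ g ∈ A, E mu' (r * g * r⁻¹) = E mu' g * hq.ch j g := by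
    intro g hg
    have hch : hq.ch j (r * g * r⁻¹) = hq.ch j g := by
      rw [show r * g * r⁻¹ = r * g * r⁻¹ * g⁻¹ * g by group, hq.ch_mul j (hq.le (hcen g (hAM hg))) hg,
        hq.ch_of_mem j (hcen g (hAM hg)), one_mul]
    have h1 := hq.E_twI j (cjI hrA mu') (hrconj g hg)
    rw [hj, Cyc.tw, E_cjI, hch] at h1
    rw [h1]; congr 2; group
  have hiter : ∀ i : ℕ, ∀ g ∈ A, E mu' (r ^ i * g * (r ^ i)⁻¹) = E mu' g * hq.ch j g ^ i := by
    intro i
    induction i with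
    | zero => intro g _; simp
    | succ i ih =>
      intro g hg
      have hmem : r ^ i * g * (r ^ i)⁻¹ ∈ A :=
        (Subgroup.mem_normalizer_iff.1 (pow_mem hrA i) g).1 hg
      have hc : hq.ch j (r ^ i * g * (r ^ i)⁻¹) = hq.ch j g := by
        clear ih
        induction i with
        | zero => simp
        | succ i ih =>
          have hmem' : r ^ i * g * (r ^ i)⁻¹ ∈ A := (Subgroup.mem_normalizer_iff.1 (pow_mem hrA i) g).1 hg
          rw [← ih hmem', show r ^ (i + 1) * g * (r ^ (i + 1))⁻¹ =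
            r * (r ^ i * g * (r ^ i)⁻¹) * r⁻¹ * (r ^ i * g * (r ^ i)⁻¹)⁻¹ * (r ^ i * g * (r ^ i)⁻¹) by
              rw [pow_succ']; group,
            hq.ch_mul j (hq.le (hcen _ (hAM hmem'))) hmem', hq.ch_of_mem j (hcen _ (hAM hmem')), one_mul]
      rw [show r ^ (i + 1) * g * (r ^ (i + 1))⁻¹ = r * (r ^ i * g * (r ^ i)⁻¹) * r⁻¹ by
        rw [pow_succ']; group, hstep _ hmem, hc, ih g hg, pow_succ, mul_assoc]
  obtain ⟨n, hn⟩ := hpow
  have hfix : hq.twI (j * p ^ n) mu' = mu' := by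
    refine irr_ext fun g hg => ?_
    rw [hq.E_twI _ _ hg, Cyc.tw]
    conv_rhs => rw [← E_conj mu' (hq.le hn) hg, hiter _ g hg]
    rw [Cyc.ch, Cyc.ch, ← pow_mul, mul_assoc]
  have hdiv : q ∣ j * p ^ n := by
    by_contra hne
    refine hq.twI_ne hext (Nat.mod_lt _ (Nat.pos_of_ne_zero hq.ne_zero))
      (fun e => hne (Nat.dvd_of_mod_eq_zero e)) ((irr_ext fun g hg => ?_).trans hfix)
    rw [hq.E_twI _ _ hg, hq.E_twI _ _ hg, Cyc.tw, Cyc.tw, Cyc.ch, Cyc.ch,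
      zeta_congr hq.ne_zero ((Nat.mod_modEq (j * p ^ n) q).mul_left _)]
  obtain ⟨d, rfl⟩ := (((hp.out.coprime_iff_not_dvd.2 hq').symm).pow_right n).dvd_of_dvd_mul_right hdiv
  have hmA : m ∈ A := Subgroup.mem_sup_right (Subgroup.mem_zpowers m)
  have h2 := hstep m hmA
  rw [Cyc.ch, zeta_congr hq.ne_zero (b := 0) (Nat.modEq_zero_iff_dvd.2 ⟨hq.idx m * d, by ring⟩),
    pow_zero, mul_one, hmu' _ (hrconj m hmA), hmu' m hmA] at h2
  exact h2

/-- What centralises `X` modulo `L`. -/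
def cenMod (L X : Subgroup G) : Subgroup G :=
  ((Subgroup.centralizer ((X.subgroupOf (Subgroup.normalizer (L : Set G))).map (modL L) : Set _)).comap
    (modL L)).map (Subgroup.normalizer (L : Set G)).subtype

theorem mem_cenMod {L X : Subgroup G} (hX : X ≤ Subgroup.normalizer (L : Set G)) {r : G} :
    r ∈ cenMod L X ↔ r ∈ Subgroup.normalizer (L : Set G) ∧ ∀ x ∈ X, r * x * r⁻¹ * x⁻¹ ∈ L := by
  constructor
  · rintro ⟨⟨y, hy⟩, hy', rfl⟩
    exact ⟨hy, fun x hx => (modL_comm_iff ⟨y, hy⟩ ⟨x, hX hx⟩).1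
      (Subgroup.mem_centralizer_iff.1 hy' _ ⟨⟨x, hX hx⟩, hx, rfl⟩).symm⟩
  · rintro ⟨hr, h⟩
    refine ⟨⟨r, hr⟩, Subgroup.mem_centralizer_iff.2 ?_, rfl⟩
    rintro _ ⟨⟨x, hxN⟩, hx, rfl⟩
    exact ((modL_comm_iff ⟨r, hr⟩ ⟨x, hxN⟩).2 (h x hx)).symm

theorem comm_symm {L : Subgroup G} {a b : G} (h : a * b * a⁻¹ * b⁻¹ ∈ L) : b * a * b⁻¹ * a⁻¹ ∈ L := by
  have := L.inv_mem h
  simpa [mul_assoc] using this

theorem inf_cenMod_normal {R L X : Subgroup G} (hX : X ≤ Subgroup.normalizer (L : Set G)) {g : G}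
    (hgR : g ∈ Subgroup.normalizer (R : Set G)) (hgL : g ∈ Subgroup.normalizer (L : Set G))
    (hgX : g ∈ Subgroup.normalizer (X : Set G)) :
    g ∈ Subgroup.normalizer ((R ⊓ cenMod L X : Subgroup G) : Set G) := by
  refine Coprime.mem_normalizer_of_forall fun r hr => ?_
  obtain ⟨hrL, hr'⟩ := (mem_cenMod hX).1 hr.2
  refine ⟨(Subgroup.mem_normalizer_iff.1 hgR r).1 hr.1, (mem_cenMod hX).2
    ⟨mul_mem (mul_mem hgL hrL) (inv_mem hgL), fun x hx => ?_⟩⟩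
  have hx' : g⁻¹ * x * g ∈ X := by
    simpa using (Subgroup.mem_normalizer_iff.1 (inv_mem hgX) x).1 hx
  have h1 := (Subgroup.mem_normalizer_iff.1 hgL _).1 (hr' _ hx')
  convert h1 using 1; group

theorem relIndex_sup_norm {K Y : Subgroup G} (hY : Y ≤ Subgroup.normalizer (K : Set G)) :
    K.relIndex (K ⊔ Y) = K.relIndex Y := by
  have hK : K ≤ Subgroup.normalizer (K : Set G) := Subgroup.le_normalizer
  haveI : (K.subgroupOf (Subgroup.normalizer (K : Set G))).Normal := Subgroup.normal_in_normalizer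
  rw [← Subgroup.relIndex_subgroupOf (sup_le hK hY), Subgroup.subgroupOf_sup hK hY,
    Subgroup.relIndex_sup_left, Subgroup.relIndex_subgroupOf hY]

theorem sup_comm_mem {K Y : Subgroup G} (hY : Y ≤ Subgroup.normalizer (K : Set G))
    (hc : ∀ a ∈ Y, ∀ b ∈ Y, a * b * a⁻¹ * b⁻¹ ∈ K) :
    ∀ x ∈ K ⊔ Y, ∀ y ∈ K ⊔ Y, x * y * x⁻¹ * y⁻¹ ∈ K := by
  intro x hx y hy
  obtain ⟨k, hk, a, ha, rfl⟩ := (Coprime.mem_sup_iff hY).1 hx
  obtain ⟨k', hk', b, hb, rfl⟩ := (Coprime.mem_sup_iff hY).1 hy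
  have e : ∀ {u v : G} (hu : u ∈ K) (hv : v ∈ Y),
      modL K ⟨u * v, mul_mem (Subgroup.le_normalizer hu) (hY hv)⟩ = modL K ⟨v, hY hv⟩ := by
    intro u v hu hv
    rw [show (⟨u * v, _⟩ : ↥(Subgroup.normalizer (K : Set G))) =
      ⟨u, Subgroup.le_normalizer hu⟩ * ⟨v, hY hv⟩ from rfl, map_mul, (modL_eq_one K _).2 hu, one_mul]
  refine (modL_comm_iff ⟨k * a, mul_mem (Subgroup.le_normalizer hk) (hY ha)⟩
    ⟨k' * b, mul_mem (Subgroup.le_normalizer hk') (hY hb)⟩).1 ?_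
  rw [e hk ha, e hk' hb]
  exact (modL_comm_iff ⟨a, hY ha⟩ ⟨b, hY hb⟩).2 (hc a ha b hb)

/-- One step: from `Y` to `Y ⟨g⟩`. -/
theorem step_iff {K L R C : Subgroup G} (h : Setting p K L R C) {θ : IrrCharacter ↥K} {φ : IrrCharacter ↥C}
    (hθR : Fix R K (E θ)) (hφR : Fix R C (E φ)) (hmu : ¬ p ∣ mu C (E θ) (E φ)) (hdeg : ¬ p ∣ deg φ)
    {Y : Subgroup G} (hYK : Y ≤ Subgroup.normalizer (K : Set G)) (hYC : Y ≤ Subgroup.normalizer (C : Set G))
    (hYL : Y ≤ Subgroup.normalizer (L : Set G)) (hYR : ∀ y ∈ Y, ∀ r ∈ R, r * y * r⁻¹ * y⁻¹ ∈ L)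
    (hYidx : ¬ p ∣ (K ⊓ Y).relIndex Y) (hYKC : K ⊓ Y ≤ C)
    (hYcomm : ∀ a ∈ Y, ∀ b ∈ Y, a * b * a⁻¹ * b⁻¹ ∈ C) {g : G}
    (hgK : g ∈ Subgroup.normalizer (K : Set G)) (hgC : g ∈ Subgroup.normalizer (C : Set G))
    (hgR : g ∈ Subgroup.normalizer (R : Set G)) (hgY : g ∈ Subgroup.normalizer (Y : Set G))
    (hP : Extends θ (K ⊔ Y) ↔ Extends φ (C ⊔ Y)) :
    Extends θ (K ⊔ (Y ⊔ Subgroup.zpowers g)) ↔ Extends φ (C ⊔ (Y ⊔ Subgroup.zpowers g)) := by
  classical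
  have hKYL : K ⊔ Y ≤ Subgroup.normalizer (L : Set G) := sup_le h.KL hYL
  have hmem : ∀ x, x ∈ C ⊔ Y ↔ x ∈ K ⊔ Y ∧ ∀ r ∈ R, r * x * r⁻¹ * x⁻¹ ∈ L := by
    intro x
    have hcen : ∀ {a b : G}, a ∈ Subgroup.normalizer (L : Set G) → b ∈ Y →
        ∀ r ∈ R, r * a * r⁻¹ * a⁻¹ ∈ L ↔ r * (a * b) * r⁻¹ * (a * b)⁻¹ ∈ L := by
      intro a b ha hb r hr
      have e : r * (a * b) * r⁻¹ * (a * b)⁻¹ = r * a * r⁻¹ * a⁻¹ * (a * (r * b * r⁻¹ * b⁻¹) * a⁻¹) := by group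
      rw [e, L.mul_mem_cancel_right ((Subgroup.mem_normalizer_iff.1 ha _).1 (hYR b hb r hr))]
    constructor
    · intro hx
      refine ⟨sup_le_sup_right h.le Y hx, ?_⟩
      obtain ⟨c, hc, y, hy, rfl⟩ := (Coprime.mem_sup_iff hYC).1 hx
      exact fun r hr => (hcen (h.CL hc) hy r hr).1 (h.comm hr hc)
    · rintro ⟨hx, hx'⟩
      obtain ⟨k, hk, y, hy, rfl⟩ := (Coprime.mem_sup_iff hYK).1 hx
      exact mul_mem (Subgroup.mem_sup_left ((h.mem k).2
        ⟨hk, fun r hr => (hcen (h.KL hk) hy r hr).2 (hx' r hr)⟩)) (Subgroup.mem_sup_right hy)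
  have hRKY : R ≤ Subgroup.normalizer ((K ⊔ Y : Subgroup G) : Set G) := fun r hr => by
    refine Coprime.mem_normalizer_of_forall fun x hx => ?_
    obtain ⟨k, hk, y, hy, rfl⟩ := (Coprime.mem_sup_iff hYK).1 hx
    rw [show r * (k * y) * r⁻¹ = r * k * r⁻¹ * (r * y * r⁻¹ * y⁻¹) * y by group]
    exact mul_mem (Subgroup.mem_sup_left (mul_mem ((Subgroup.mem_normalizer_iff.1 (h.RK hr) k).1 hk)
      (h.LK (hYR y hy r hr)))) (Subgroup.mem_sup_right hy)
  have hidxK : ¬ p ∣ K.relIndex (K ⊔ Y) := by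
    rw [relIndex_sup_norm hYK, ← Subgroup.inf_relIndex_right]; exact hYidx
  have h' : Setting p (K ⊔ Y) L R (C ⊔ Y) :=
    { LK := h.LK.trans le_sup_left, LR := h.LR, KL := hKYL, RL := h.RL, RK := hRKY
      idx := fun hd => by
        rw [← Subgroup.relIndex_mul_relIndex L K (K ⊔ Y) h.LK le_sup_left, hp.out.dvd_mul] at hd
        exact hd.elim h.idx hidxK
      pR := h.pR, mem := hmem }
  have hidxC : ¬ p ∣ C.relIndex (C ⊔ Y) := by
    rw [relIndex_sup_norm hYC, ← Subgroup.inf_relIndex_right,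
      show C ⊓ Y = K ⊓ Y from le_antisymm (inf_le_inf_right Y h.le) (le_inf hYKC inf_le_right)]
    exact hYidx
  have hfixK : ∀ lam : IrrCharacter ↥(K ⊔ Y), (∀ k ∈ K, E lam k = E θ k) → Fix R (K ⊔ Y) (E lam) := by
    intro lam hlam r hr x hx
    refine fix_ext le_sup_left (sup_le Subgroup.le_normalizer hYK) (h.RK hr) (fun m hm => ?_) hidxK
      ((h.pR r hr).imp fun _ hn => h.LK hn) (hθR r hr) hlam hx
    obtain ⟨k, hk, y, hy, rfl⟩ := (Coprime.mem_sup_iff hYK).1 hm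
    rw [show r * (k * y) * r⁻¹ * (k * y)⁻¹ = r * k * r⁻¹ * (r * y * r⁻¹ * y⁻¹) * k⁻¹ by group]
    exact K.mul_mem (K.mul_mem ((Subgroup.mem_normalizer_iff.1 (h.RK hr) k).1 hk)
      (h.LK (hYR y hy r hr))) (K.inv_mem hk)
  have hfixC : ∀ psi : IrrCharacter ↥(C ⊔ Y), (∀ c ∈ C, E psi c = E φ c) → Fix R (C ⊔ Y) (E psi) := by
    intro psi hpsi r hr x hx
    exact fix_ext le_sup_left (sup_le Subgroup.le_normalizer hYC) (h.RC hr)
      (fun m hm => h.LC (((hmem m).1 hm).2 r hr)) hidxC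
      ((h.pR r hr).imp fun _ hn => h.LC hn) (hφR r hr) hpsi hx
  have hgKY : g ∈ Subgroup.normalizer ((K ⊔ Y : Subgroup G) : Set G) :=
    Subgroup.normalizer_inf_normalizer_le_normalizer_sup K Y ⟨hgK, hgY⟩
  have hgCY : g ∈ Subgroup.normalizer ((C ⊔ Y : Subgroup G) : Set G) :=
    Subgroup.normalizer_inf_normalizer_le_normalizer_sup C Y ⟨hgC, hgY⟩
  obtain ⟨k, hk⟩ := h.relIndex_R
  have hYcommK : ∀ a ∈ Y, ∀ b ∈ Y, a * b * a⁻¹ * b⁻¹ ∈ K := fun a ha b hb => h.le (hYcomm a ha b hb)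
  -- a fixed extension to `X` extends one step further
  have up : ∀ {X A : Subgroup G} {χ : IrrCharacter ↥A} (_ : A ≤ X) (hgX : g ∈ Subgroup.normalizer (X : Set G))
      {ξ : IrrCharacter ↥X}, (∀ a ∈ A, E ξ a = E χ a) → cjI hgX ξ = ξ →
      Extends χ (X ⊔ Subgroup.zpowers g) := by
    intro X A χ hAX hgX ξ hξ hfix
    obtain ⟨q, hq⟩ := exists_cyc hgX
    obtain ⟨Ξ, hΞ⟩ := exists_ext hq.le hq.norm hq.mem hq.gen ξ
      ((fix_of_le ξ le_rfl).sup Subgroup.le_normalizer (Subgroup.zpowers_le.2 hgX) (by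
        rintro _ ⟨i, rfl⟩ x hx
        exact (cjI_eq_iff (zpow_mem hgX i) ξ).1 (by
          induction i using Int.induction_on with
          | zero => exact irr_ext fun y _ => by rw [E_cjI]; simp
          | succ i ih =>
            refine irr_ext fun y hy => ?_
            rw [E_cjI, show (g ^ ((i : ℤ) + 1))⁻¹ * y * g ^ ((i : ℤ) + 1) =
              g⁻¹ * ((g ^ (i : ℤ))⁻¹ * y * g ^ (i : ℤ)) * g by rw [zpow_add_one]; group,
              ← E_cjI hgX, hfix, ← E_cjI (zpow_mem hgX _), ih]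
          | pred i ih =>
            refine irr_ext fun y hy => ?_
            rw [E_cjI, ← congrArg (fun χ => E χ _) hfix, E_cjI,
              show g⁻¹ * ((g ^ (-(i : ℤ) - 1))⁻¹ * y * g ^ (-(i : ℤ) - 1)) * g =
                (g ^ (-(i : ℤ)))⁻¹ * y * g ^ (-(i : ℤ)) by rw [zpow_sub_one]; group,
              ← E_cjI (zpow_mem hgX _), ih]) x hx))
    exact ⟨Ξ, fun a ha => (hΞ a (hAX ha)).trans (hξ a ha)⟩
  have down : ∀ {X A M : Subgroup G} {χ : IrrCharacter ↥A} (_ : A ≤ X) (_ : X ≤ M) (_ : g ∈ M)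
      (hgX : g ∈ Subgroup.normalizer (X : Set G)), Extends χ M →
      ∃ ξ : IrrCharacter ↥X, (∀ a ∈ A, E ξ a = E χ a) ∧ cjI hgX ξ = ξ := by
    intro X A M χ hAX hXM hgM hgX ⟨Ξ, hΞ⟩
    obtain ⟨ξ, hξ⟩ := restrI hAX hXM χ Ξ hΞ
    refine ⟨ξ, fun a ha => (hξ a (hAX ha)).trans (hΞ a ha), (cjI_eq_iff hgX ξ).2 fun x hx => ?_⟩
    rw [hξ x hx, hξ _ ((Subgroup.mem_normalizer_iff.1 hgX x).1 hx), E_conj Ξ hgM (hXM hx)]
  simp only [← sup_assoc]
  constructor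
  · intro hext
    obtain ⟨lam, hlam, hglam⟩ := down le_sup_left le_sup_left
      (Subgroup.mem_sup_right (Subgroup.mem_zpowers g)) hgKY hext
    have hlamR := hfixK lam hlam
    obtain ⟨η, hηR, h1, h2⟩ := exists_fixed_between (le_sup_left : C ≤ C ⊔ Y) (sup_le_sup_right h.le Y)
      h.RC h'.RC hRKY (h.LC.trans le_sup_left) h.LR hk lam hlamR φ hφR (by
        rwa [mu, ip_congr (g' := E φ) (fun x hx => hlam x (h.le hx)) fun _ _ => rfl])
    have hη := abelian_over_ext le_sup_left (sup_comm_mem hYC hYcomm) (hP.1 ⟨lam, hlam⟩)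
      (fun e => h2 (e ▸ dvd_zero p))
    exact up le_sup_left hgCY hη ((h'.cjI_down hgKY hgCY hgR hlamR hηR h1).1 hglam)
  · intro hext
    obtain ⟨psi, hpsi, hgpsi⟩ := down le_sup_left le_sup_left
      (Subgroup.mem_sup_right (Subgroup.mem_zpowers g)) hgCY hext
    have hpsiR := hfixC psi hpsi
    obtain ⟨lam, hlamR, h1, -⟩ := h'.exists_up psi hpsiR (by rwa [deg_of_ext hpsi])
    have hcon : ¬ p ∣ mu C (E lam) (E φ) := by
      intro hd
      have hs := (mu_modEq_fixed (le_sup_left : C ≤ C ⊔ Y) (sup_le_sup_right h.le Y) h.RC h'.RC hRKY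
        (h.LC.trans le_sup_left) h.LR hk lam hlamR φ hφR).dvd_iff dvd_rfl |>.1 hd
      rw [← Finset.add_sum_erase _ _ (Finset.mem_filter.2 ⟨Finset.mem_univ psi, hpsiR⟩),
        mu_of_ext hpsi, mul_one, Nat.dvd_add_left (Finset.dvd_sum fun η hη => ?_)] at hs
      · exact h1 hs
      · obtain ⟨hne, hη⟩ := Finset.mem_erase.1 hη
        refine dvd_mul_of_dvd_left ?_ _
        by_contra hnd
        exact hne (h'.unique_down hlamR (Finset.mem_filter.1 hη).2 hpsiR hnd h1)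
    obtain ⟨η, hηR, h2, h3⟩ := exists_fixed_between h.le (le_sup_left : K ≤ K ⊔ Y) h.RC h.RK hRKY h.LK h.LR hk
      lam hlamR φ hφR hcon
    obtain rfl := h.unique_up hηR hθR hφR h3 hmu
    have hlam := abelian_over_ext le_sup_left (sup_comm_mem hYK hYcommK) (hP.2 ⟨psi, hpsi⟩)
      (fun e => h2 (e ▸ dvd_zero p))
    exact up le_sup_left hgKY hlam ((h'.cjI_down hgKY hgCY hgR hlamR hpsiR h1).2 hgpsi)

end Cfsg.Agent.OW
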