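import Cfsg.Agent.Lib.OW.ExtBasic
import Mathlib.RingTheory.IntegralDomain

/-!
The extension criterion: `θ` extends to `K B` iff its correspondent extends to `B`.

* `exists_min`: a minimal section `R₁` of `R`
* `centralises`, `cyclic_mod_kernel`
* `ext_iff`
-/

set_option autoImplicit false
set_option linter.unusedSectionVars false

namespace Cfsg.Agent.OW

open Cfsg Cfsg.Agent.Char

attribute [local instance 2000] Fintype.ofFinite

variable {G : Type*} [Group G] [Finite G] {p : ℕ} [hp : Fact p.Prime]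

/-- `R₁` is minimal among the `B`-invariant groups between `L` and `R` not inside `R₀`, central modulo `R₀`. -/
structure MinSec (L R R₀ R₁ B : Subgroup G) : Prop where
  LR₁ : L ≤ R₁
  le : R₁ ≤ R
  nle : ¬ R₁ ≤ R₀
  central : ∀ x ∈ R₁, ∀ r ∈ R, x * r * x⁻¹ * r⁻¹ ∈ R₀
  BR₁ : B ≤ Subgroup.normalizer (R₁ : Set G)
  min : ∀ X : Subgroup G, L ≤ X → X ≤ R₁ → B ≤ Subgroup.normalizer (X : Set G) → X ≤ R₀ ∨ X = R₁

theorem exists_min {L R R₀ B : Subgroup G} (hLR : L ≤ R) (hR₀ : R ≤ Subgroup.normalizer (R₀ : Set G))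
    (hLR₀ : L ≤ R₀) (hne : ¬ R ≤ R₀) (hBR : B ≤ Subgroup.normalizer (R : Set G))
    (hBR₀ : B ≤ Subgroup.normalizer (R₀ : Set G)) (hpR : ∀ r ∈ R, ∃ n : ℕ, r ^ p ^ n ∈ L) :
    ∃ R₁, MinSec L R R₀ R₁ B := by
  classical
  let Z : Subgroup G := R ⊓ cenMod R₀ R
  have hmemZ : ∀ x, x ∈ Z ↔ x ∈ R ∧ ∀ r ∈ R, x * r * x⁻¹ * r⁻¹ ∈ R₀ := fun x =>
    ⟨fun hx => ⟨hx.1, ((mem_cenMod hR₀).1 hx.2).2⟩,
      fun hx => ⟨hx.1, (mem_cenMod hR₀).2 ⟨hR₀ hx.1, hx.2⟩⟩⟩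
  have hLZ : L ≤ Z := fun l hl => (hmemZ l).2 ⟨hLR hl, fun r hr => by
    rw [show l * r * l⁻¹ * r⁻¹ = l * (r * l⁻¹ * r⁻¹) by group]
    exact R₀.mul_mem (hLR₀ hl)
      ((Subgroup.mem_normalizer_iff.1 (hR₀ hr) _).1 (R₀.inv_mem (hLR₀ hl)))⟩
  have hBZ : B ≤ Subgroup.normalizer (Z : Set G) := fun b hb =>
    inf_cenMod_normal hR₀ (hBR hb) (hBR₀ hb) (hBR hb)
  haveI : (R₀.subgroupOf R).Normal :=
    ⟨fun n hn g => (Subgroup.mem_normalizer_iff.1 (hR₀ g.2) n).1 hn⟩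
  have hpg : IsPGroup p (↥R ⧸ R₀.subgroupOf R) := fun x => by
    induction x using QuotientGroup.induction_on with
    | H r =>
      obtain ⟨n, hn⟩ := hpR r r.2
      refine ⟨n, ?_⟩
      rw [← QuotientGroup.mk_pow, QuotientGroup.eq_one_iff, Subgroup.mem_subgroupOf, Subgroup.coe_pow]
      exact hLR₀ hn
  haveI : Nontrivial (↥R ⧸ R₀.subgroupOf R) := by
    rcases subsingleton_or_nontrivial (↥R ⧸ R₀.subgroupOf R) with hs | hs
    · exact absurd (fun r hr => Subgroup.mem_subgroupOf.1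
        ((QuotientGroup.eq_one_iff (⟨r, hr⟩ : ↥R)).1 (Subsingleton.elim _ _))) hne
    · exact hs
  haveI := hpg.center_nontrivial
  obtain ⟨⟨z, hz⟩, hz1⟩ := exists_ne (1 : Subgroup.center (↥R ⧸ R₀.subgroupOf R))
  obtain ⟨⟨s, hsR⟩, rfl⟩ := QuotientGroup.mk_surjective z
  have hsZ : s ∈ Z := (hmemZ s).2 ⟨hsR, fun r hr => by
    have h1 : ((⟨s, hsR⟩ * ⟨r, hr⟩ * (⟨s, hsR⟩)⁻¹ * (⟨r, hr⟩)⁻¹ : ↥R) : ↥R ⧸ R₀.subgroupOf R) = 1 := by
      simp only [QuotientGroup.mk_mul, QuotientGroup.mk_inv]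
      rw [← Subgroup.mem_center_iff.1 hz, mul_inv_cancel_right, mul_inv_cancel]
    exact Subgroup.mem_subgroupOf.1 ((QuotientGroup.eq_one_iff _).1 h1)⟩
  have hsR₀ : s ∉ R₀ := fun e => hz1 (Subtype.ext ((QuotientGroup.eq_one_iff _).2 e))
  obtain ⟨R₁, ⟨hL, hZ, hn, hB⟩, hmin⟩ := (wellFounded_lt (α := Subgroup G)).has_min
    {X | L ≤ X ∧ X ≤ Z ∧ ¬ X ≤ R₀ ∧ B ≤ Subgroup.normalizer (X : Set G)}
    ⟨Z, hLZ, le_rfl, fun hle => hsR₀ (hle hsZ), hBZ⟩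
  refine ⟨R₁, ⟨hL, hZ.trans inf_le_left, hn, fun x hx => ((hmemZ x).1 (hZ hx)).2, hB, fun X h1 h2 h3 => ?_⟩⟩
  by_contra hno
  push Not at hno
  exact hmin X ⟨h1, h2.trans hZ, hno.1, h3⟩ (lt_of_le_of_ne h2 hno.2)

variable {L R R₀ R₁ B C : Subgroup G}

/-- What acts trivially on `R₁ / (R₁ ∩ R₀)` centralises `R₁` modulo `L`. -/
theorem MinSec.centralises (h : MinSec L R R₀ R₁ B) (hLR₀ : L ≤ R₀) (hR₀ : R₀ ≤ R)
    (hRL : R ≤ Subgroup.normalizer (L : Set G)) (hpR : ∃ k, L.relIndex R ∣ p ^ k)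
    (hBL : B ≤ Subgroup.normalizer (L : Set G)) (hCB : C ≤ B)
    (hcomm : ∀ a ∈ B, ∀ b ∈ B, a * b * a⁻¹ * b⁻¹ ∈ C) (hCR : ∀ c ∈ C, ∀ r ∈ R₁, c * r * c⁻¹ * r⁻¹ ∈ L)
    (n : ℕ) : ¬ p ∣ n → ∀ b ∈ B, b ^ n ∈ cenMod L R₁ → (∀ x ∈ R₁, b * x * b⁻¹ * x⁻¹ ∈ R₀) →
      b ∈ cenMod L R₁ := by
  classical
  have hR₁L : R₁ ≤ Subgroup.normalizer (L : Set G) := h.le.trans hRL
  induction n using Nat.strongRecOn with
  | ind n ih =>
    intro hpn b hb hbn hker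
    rcases eq_or_ne n 1 with rfl | hn1
    · rwa [pow_one] at hbn
    obtain ⟨ℓ, hℓ, n', rfl⟩ := Nat.exists_prime_and_dvd hn1
    have hn' : n' ≠ 0 := fun e => hpn (by rw [e, mul_zero]; exact dvd_zero p)
    have hlt : n' < ℓ * n' := lt_mul_left (Nat.pos_of_ne_zero hn') hℓ.one_lt
    suffices hsuff : ∀ b ∈ B, b ^ ℓ ∈ cenMod L R₁ → (∀ x ∈ R₁, b * x * b⁻¹ * x⁻¹ ∈ R₀) → b ∈ cenMod L R₁ by
      have hkerpow : ∀ i : ℕ, ∀ x ∈ R₁, b ^ i * x * (b ^ i)⁻¹ * x⁻¹ ∈ R₀ := by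
        intro i
        induction i with
        | zero => intro x _; simp
        | succ i ihi =>
          intro x hx
          have hx' : b * x * b⁻¹ ∈ R₁ := (Subgroup.mem_normalizer_iff.1 (h.BR₁ hb) x).1 hx
          have := R₀.mul_mem (ihi (b * x * b⁻¹) hx') (hker x hx)
          convert this using 1
          rw [pow_succ]; group
      refine ih n' hlt (fun hd => hpn (dvd_mul_of_dvd_right hd ℓ)) b hb
        (hsuff _ (pow_mem hb n') ?_ (hkerpow n')) hker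
      rwa [← pow_mul, mul_comm]
    clear hbn hker hb b
    intro b hb hbl hker
    let X : Subgroup G := R₁ ⊓ cenMod L (C ⊔ Subgroup.zpowers b)
    have hCbB : C ⊔ Subgroup.zpowers b ≤ B := sup_le hCB (Subgroup.zpowers_le.2 hb)
    have hCbL := hCbB.trans hBL
    have hXB : B ≤ Subgroup.normalizer (X : Set G) := fun b' hb' => by
      refine inf_cenMod_normal hCbL (h.BR₁ hb') (hBL hb') (Coprime.mem_normalizer_of_forall fun y hy => ?_)
      rw [show b' * y * b'⁻¹ = b' * y * b'⁻¹ * y⁻¹ * y by group]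
      exact mul_mem (Subgroup.mem_sup_left (hcomm b' hb' y (hCbB hy))) hy
    have hLX : L ≤ X := fun l hl => ⟨h.LR₁ hl, (mem_cenMod hCbL).2 ⟨Subgroup.le_normalizer hl, fun y hy => by
      rw [show l * y * l⁻¹ * y⁻¹ = l * (y * l⁻¹ * y⁻¹) by group]
      exact L.mul_mem hl ((Subgroup.mem_normalizer_iff.1 (hCbL hy) _).1 (L.inv_mem hl))⟩⟩
    rcases h.min X hLX inf_le_left hXB with hle | heq
    swap
    · refine (mem_cenMod hR₁L).2 ⟨hBL hb, fun x hx => comm_symm ?_⟩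
      have hxX : x ∈ X := heq.symm ▸ hx
      exact ((mem_cenMod hCbL).1 hxX.2).2 b (Subgroup.mem_sup_right (Subgroup.mem_zpowers b))
    exfalso
    obtain ⟨x₀, hx₀, hx₀'⟩ : ∃ x, x ∈ R₁ ∧ x ∉ R₀ := by
      by_contra hno; push Not at hno; exact h.nle hno
    let W : Subgroup G := R₁ ⊓ R₀
    let H := (W.subgroupOf (Subgroup.normalizer (L : Set G))).map (modL L)
    let x₀' : ↥(Subgroup.normalizer (L : Set G)) ⧸ L.subgroupOf (Subgroup.normalizer (L : Set G)) :=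
      modL L ⟨x₀, hR₁L hx₀⟩
    let α := {v : ↥(Subgroup.normalizer (L : Set G)) ⧸ L.subgroupOf (Subgroup.normalizer (L : Set G)) //
      v * x₀'⁻¹ ∈ H}
    let e : α ≃ ↥H :=
      { toFun := fun v => ⟨v.1 * x₀'⁻¹, v.2⟩
        invFun := fun w => ⟨w.1 * x₀', by rw [mul_inv_cancel_right]; exact w.2⟩
        left_inv := fun v => Subtype.ext (inv_mul_cancel_right _ _)
        right_inv := fun w => Subtype.ext (mul_inv_cancel_right _ _) }
    have hcard : ¬ ℓ ∣ Fintype.card α := by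
      rw [Fintype.card_congr e, ← Nat.card_eq_fintype_card]
      obtain ⟨k, hk⟩ := hpR
      intro hd
      refine hpn (dvd_mul_of_dvd_left ?_ n')
      have hWL : W ≤ Subgroup.normalizer (L : Set G) := inf_le_left.trans hR₁L
      have h1 : Nat.card ↥H = L.relIndex W := by
        rw [← Subgroup.relIndex_ker, QuotientGroup.ker_mk', Subgroup.relIndex_subgroupOf hWL]
      have h2 : L.relIndex W ∣ p ^ k := (Dvd.intro (W.relIndex R)
        (Subgroup.relIndex_mul_relIndex L W R (le_inf h.LR₁ hLR₀) (inf_le_left.trans h.le))).trans hk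
      rw [h1] at hd
      exact ((Nat.prime_dvd_prime_iff_eq hℓ hp.out).1 (hℓ.dvd_of_dvd_pow (hd.trans h2))).symm.dvd
    let b' := modL L ⟨b, hBL hb⟩
    have hb'H : ∀ w ∈ H, b' * w * b'⁻¹ ∈ H := by
      rintro _ ⟨⟨w, hwN⟩, hw, rfl⟩
      refine ⟨⟨b, hBL hb⟩ * ⟨w, hwN⟩ * ⟨b, hBL hb⟩⁻¹, ⟨(Subgroup.mem_normalizer_iff.1 (h.BR₁ hb) w).1 hw.1, ?_⟩,
        by simp only [map_mul, map_inv]; rfl⟩
      show b * w * b⁻¹ ∈ R₀
      have := R₀.mul_mem (hker w hw.1) hw.2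
      simpa [mul_assoc] using this
    have hb0 : b' * x₀' * b'⁻¹ * x₀'⁻¹ ∈ H :=
      ⟨⟨b, hBL hb⟩ * ⟨x₀, hR₁L hx₀⟩ * ⟨b, hBL hb⟩⁻¹ * ⟨x₀, hR₁L hx₀⟩⁻¹,
        ⟨R₁.mul_mem ((Subgroup.mem_normalizer_iff.1 (h.BR₁ hb) x₀).1 hx₀) (R₁.inv_mem hx₀), hker x₀ hx₀⟩,
        by simp only [map_mul, map_inv]; rfl⟩
    let f : α → α := fun v => ⟨b' * v.1 * b'⁻¹, by
      have := H.mul_mem (hb'H _ v.2) hb0
      convert this using 1; group⟩
    have hinj : Function.Injective f := fun u v huv =>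
      Subtype.ext (mul_left_cancel (mul_right_cancel (congrArg Subtype.val huv)))
    let σ : Equiv.Perm α := Equiv.ofBijective f (Finite.injective_iff_bijective.1 hinj)
    have hiter : ∀ i : ℕ, ∀ v : α, ((σ ^ i) v).1 = b' ^ i * v.1 * (b' ^ i)⁻¹ := by
      intro i
      induction i with
      | zero => intro v; simp
      | succ i ihi =>
        intro v
        rw [pow_succ', Equiv.Perm.mul_apply]
        show b' * ((σ ^ i) v).1 * b'⁻¹ = _
        rw [ihi v, pow_succ']; group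
    haveI := Fact.mk hℓ
    have hσ : σ ^ ℓ ^ 1 = 1 := by
      rw [pow_one]
      ext v
      rw [hiter, Equiv.Perm.one_apply]
      obtain ⟨⟨w, hwN⟩, hw, hwe⟩ := v.2
      have hv : v.1 = modL L (⟨w, hwN⟩ * ⟨x₀, hR₁L hx₀⟩) := by
        rw [map_mul, hwe]; exact (inv_mul_cancel_right _ _).symm
      have hwx : w * x₀ ∈ R₁ := R₁.mul_mem hw.1 hx₀
      have hc := (modL_comm_iff (⟨b, hBL hb⟩ ^ ℓ) (⟨w, hwN⟩ * ⟨x₀, hR₁L hx₀⟩)).2
        (by simpa using ((mem_cenMod hR₁L).1 hbl).2 _ hwx)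
      rw [map_pow, ← hv] at hc
      rw [hc, mul_inv_cancel_right]
    obtain ⟨v, hv⟩ := Equiv.Perm.exists_fixed_point_of_prime hcard hσ
    obtain ⟨⟨w, hwN⟩, hw, hwe⟩ := v.2
    have hv' : v.1 = modL L (⟨w, hwN⟩ * ⟨x₀, hR₁L hx₀⟩) := by
      rw [map_mul, hwe]; exact (inv_mul_cancel_right _ _).symm
    have hwx : w * x₀ ∈ R₁ := R₁.mul_mem hw.1 hx₀
    have hfix : b' * v.1 = v.1 * b' := by
      have h1 : b' * v.1 * b'⁻¹ = v.1 := congrArg Subtype.val hv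
      exact mul_inv_eq_iff_eq_mul.1 h1
    rw [hv'] at hfix
    have hxN : w * x₀ ∈ Subgroup.normalizer (L : Set G) := hR₁L hwx
    have hcb : b * (w * x₀) * b⁻¹ * (w * x₀)⁻¹ ∈ L := (modL_comm_iff ⟨b, hBL hb⟩ ⟨w * x₀, hxN⟩).1 hfix
    refine hx₀' ?_
    have hwR₀ : w * x₀ ∈ R₀ := hle ⟨hwx, ?_⟩
    · have := R₀.mul_mem (R₀.inv_mem hw.2) hwR₀
      simpa using this
    · -- it centralises the generators
      have key : C ⊔ Subgroup.zpowers b ≤ cenMod L (Subgroup.zpowers (w * x₀)) := by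
        have hzN : Subgroup.zpowers (w * x₀) ≤ Subgroup.normalizer (L : Set G) := Subgroup.zpowers_le.2 hxN
        have aux : ∀ y ∈ Subgroup.normalizer (L : Set G), y * (w * x₀) * y⁻¹ * (w * x₀)⁻¹ ∈ L →
            y ∈ cenMod L (Subgroup.zpowers (w * x₀)) := by
          intro y hy hyL
          refine (mem_cenMod hzN).2 ⟨hy, ?_⟩
          rintro _ ⟨i, rfl⟩
          refine (modL_comm_iff ⟨y, hy⟩ ⟨_, zpow_mem hxN i⟩).1 ?_
          rw [show (⟨(w * x₀) ^ i, zpow_mem hxN i⟩ : ↥(Subgroup.normalizer (L : Set G))) = ⟨w * x₀, hxN⟩ ^ i from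
            rfl, map_zpow]
          exact (Commute.zpow_right ((modL_comm_iff ⟨y, hy⟩ ⟨w * x₀, hxN⟩).2 hyL) i).eq
        exact sup_le (fun c hc => aux c (hBL (hCB hc)) (hCR c hc _ hwx))
          (Subgroup.zpowers_le.2 (aux b (hBL hb) hcb))
      exact (mem_cenMod hCbL).2 ⟨hxN, fun y hy => comm_symm
        (((mem_cenMod (Subgroup.zpowers_le.2 hxN)).1 (key hy)).2 _ (Subgroup.mem_zpowers _))⟩

theorem exists_gen_of_domain {R : Type*} [CommRing R] [IsDomain R] {H : Type*} [Group H] [Finite H] (ρ : H →* R) :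
    ∃ g : H, ∀ b : H, ∃ i : ℕ, ρ (b * (g ^ i)⁻¹) = 1 := by
  haveI : IsCyclic (H ⧸ ρ.toHomUnits.ker) :=
    isCyclic_of_injective_ringHom ((Units.coeHom R).comp (QuotientGroup.kerLift ρ.toHomUnits))
      fun a b hab => QuotientGroup.kerLift_injective ρ.toHomUnits (Units.ext hab)
  obtain ⟨gq, hgq⟩ := IsCyclic.exists_generator (α := H ⧸ ρ.toHomUnits.ker)
  obtain ⟨g, rfl⟩ := QuotientGroup.mk_surjective gq
  refine ⟨g, fun b => ?_⟩
  obtain ⟨i, hi⟩ := (isOfFinOrder_of_finite _).mem_powers_iff_mem_zpowers.2 (hgq (b : H ⧸ ρ.toHomUnits.ker))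
  refine ⟨i, congrArg Units.val (MonoidHom.mem_ker.1 (?_ : b * (g ^ i)⁻¹ ∈ ρ.toHomUnits.ker))⟩
  rw [← QuotientGroup.eq_one_iff, QuotientGroup.mk_mul, QuotientGroup.mk_inv, QuotientGroup.mk_pow,
    mul_inv_eq_one]
  exact hi.symm

/-- A finite commutative group acting through a subring without zero divisors is cyclic. -/
theorem exists_gen_of_subring {T : Type*} [Ring T] [Nontrivial T] {H : Type*} [Group H] [Finite H] (ρ : H →* T)
    (S : Subring T) (hS : ∀ b, ρ b ∈ S) (hcomm : ∀ a ∈ S, ∀ c ∈ S, a * c = c * a)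
    (hnz : ∀ a ∈ S, ∀ c ∈ S, a * c = 0 → a = 0 ∨ c = 0) :
    ∃ g : H, ∀ b : H, ∃ i : ℕ, ρ (b * (g ^ i)⁻¹) = 1 := by
  letI : CommRing ↥S :=
    { (inferInstance : Ring ↥S) with mul_comm := fun a b => Subtype.ext (hcomm a a.2 b b.2) }
  haveI : NoZeroDivisors ↥S := ⟨fun {a c} hac =>
    (hnz a a.2 c c.2 (congrArg Subtype.val hac)).imp (fun h => Subtype.ext h) fun h => Subtype.ext h⟩
  haveI : IsDomain ↥S := NoZeroDivisors.to_isDomain _
  let ρS : H →* ↥S :=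
    { toFun := fun b => ⟨ρ b, hS b⟩
      map_one' := Subtype.ext ρ.map_one
      map_mul' := fun a b => Subtype.ext (ρ.map_mul a b) }
  obtain ⟨g, hg⟩ := exists_gen_of_domain ρS
  exact ⟨g, fun b => (hg b).imp fun i hi => congrArg Subtype.val hi⟩

set_option maxHeartbeats 800000 in
/-- `B` is cyclic modulo what acts trivially on `R₁ / (R₁ ∩ R₀)`. -/
theorem MinSec.cyclic_mod_kernel (h : MinSec L R R₀ R₁ B) (hLR₀ : L ≤ R₀)
    (hBR₀ : B ≤ Subgroup.normalizer (R₀ : Set G)) (hRR₀ : R ≤ Subgroup.normalizer (R₀ : Set G))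
    (hcomm : ∀ a ∈ B, ∀ b ∈ B, a * b * a⁻¹ * b⁻¹ ∈ C) (hCR : ∀ c ∈ C, ∀ r ∈ R₁, c * r * c⁻¹ * r⁻¹ ∈ L) :
    ∃ g ∈ B, ∀ b ∈ B, ∃ i : ℕ, ∀ x ∈ R₁, b * (g ^ i)⁻¹ * x * (b * (g ^ i)⁻¹)⁻¹ * x⁻¹ ∈ R₀ := by
  classical
  haveI : (R₀.subgroupOf R₁).Normal :=
    ⟨fun n hn g => (Subgroup.mem_normalizer_iff.1 (hRR₀ (h.le g.2)) n).1 hn⟩
  let V := ↥R₁ ⧸ R₀.subgroupOf R₁
  have habV : ∀ u v : V, u * v = v * u := by
    intro u v
    induction u using QuotientGroup.induction_on with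
    | H u =>
      induction v using QuotientGroup.induction_on with
      | H v =>
        rw [← mul_inv_eq_one, ← QuotientGroup.mk_mul, ← QuotientGroup.mk_mul, ← QuotientGroup.mk_inv,
          ← QuotientGroup.mk_mul, QuotientGroup.eq_one_iff, Subgroup.mem_subgroupOf]
        have := h.central u u.2 v (h.le v.2)
        simpa [mul_assoc] using this
  letI : CommGroup V := { (inferInstance : Group V) with mul_comm := habV }
  let cj : ∀ b : ↥B, ↥R₁ →* ↥R₁ := fun b => (conjEquiv (h.BR₁ b.2)).toMonoidHom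
  let act : ↥B → (V →* V) := fun b => QuotientGroup.map _ _ (cj b) fun x hx =>
    (Subgroup.mem_normalizer_iff.1 (hBR₀ b.2) x).1 hx
  have hact : ∀ (b : ↥B) (x : ↥R₁), act b (x : V) = (cj b x : V) := fun b x => rfl
  let ρ : ↥B →* AddMonoid.End (Additive V) :=
    { toFun := fun b => MonoidHom.toAdditive (act b)
      map_one' := by
        refine AddMonoidHom.ext fun x => ?_
        obtain ⟨x, rfl⟩ := QuotientGroup.mk_surjective (Additive.toMul x)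
        show Additive.ofMul (act 1 (x : V)) = Additive.ofMul (x : V)
        rw [hact]
        refine congrArg Additive.ofMul ?_
        exact congrArg (fun t : ↥R₁ => (t : V))
          (Subtype.ext (show ((cj 1 x : ↥R₁) : G) = x from by show (1 : G) * x * (1 : G)⁻¹ = x; simp))
      map_mul' := fun a b => by
        refine AddMonoidHom.ext fun x => ?_
        obtain ⟨x, rfl⟩ := QuotientGroup.mk_surjective (Additive.toMul x)
        show Additive.ofMul (act (a * b) (x : V)) = Additive.ofMul (act a (act b (x : V)))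
        rw [hact, hact, hact]
        congr 2
        exact Subtype.ext (show (a : G) * b * x * ((a : G) * b)⁻¹ = a * (b * x * (b : G)⁻¹) * (a : G)⁻¹ by group) }
  have hρ : ∀ (b : ↥B) (x : ↥R₁), ρ b (Additive.ofMul (x : V)) = Additive.ofMul ((cj b x : V)) := fun b x => rfl
  have hρcomm : ∀ a ∈ Set.range ρ, ∀ b ∈ Set.range ρ, a * b = b * a := by
    rintro _ ⟨a, rfl⟩ _ ⟨b, rfl⟩
    rw [← map_mul, ← map_mul]
    refine AddMonoidHom.ext fun x => ?_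
    obtain ⟨x, rfl⟩ := QuotientGroup.mk_surjective (Additive.toMul x)
    show ρ (a * b) (Additive.ofMul (x : V)) = ρ (b * a) (Additive.ofMul (x : V))
    rw [hρ, hρ]
    congr 1
    rw [QuotientGroup.eq, Subgroup.mem_subgroupOf]
    have hy : (b : G) * a * x * ((b : G) * a)⁻¹ ∈ R₁ :=
      (Subgroup.mem_normalizer_iff.1 (h.BR₁ (mul_mem b.2 a.2)) x).1 x.2
    have h1 := hCR _ (hcomm a a.2 b b.2) _ hy
    have h2 := hLR₀ (L.inv_mem h1)
    have h3 : ((cj (a * b) x : ↥R₁) : G)⁻¹ * (cj (b * a) x : G) =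
        ((cj (a * b) x : ↥R₁) : G)⁻¹ * ((b : G) * a * x * ((b : G) * a)⁻¹) := rfl
    push_cast
    rw [h3]
    have h4 := (Subgroup.mem_normalizer_iff.1 (hRR₀ (h.le (inv_mem (cj (a * b) x).2))) _).1 h2
    have hc : ((cj (a * b) x : ↥R₁) : G) = (a : G) * b * x * ((a : G) * b)⁻¹ := rfl
    rw [hc] at h4 ⊢
    convert h4 using 1
    group
  let S : Subring (AddMonoid.End (Additive V)) := Subring.closure (Set.range ρ)
  have hρS : ∀ b, ρ b ∈ S := fun b => Subring.subset_closure ⟨b, rfl⟩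
  have hS1 : S ≤ Subring.centralizer (Set.range ρ) := Subring.closure_le.2 fun x hx =>
    Subring.mem_centralizer_iff.2 fun y hy => hρcomm y hy x hx
  have hS2 : S ≤ Subring.centralizer (S : Set (AddMonoid.End (Additive V))) := Subring.closure_le.2 fun x hx =>
    Subring.mem_centralizer_iff.2 fun y hy => ((Subring.mem_centralizer_iff.1 (hS1 hy)) x hx).symm
  have hScomm : ∀ a ∈ S, ∀ c ∈ S, a * c = c * a := fun a ha c hc =>
    Subring.mem_centralizer_iff.1 (hS2 hc) a ha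
  haveI : Nontrivial (AddMonoid.End (Additive V)) := by
    obtain ⟨x, hx, hx'⟩ : ∃ x, x ∈ R₁ ∧ x ∉ R₀ := by
      by_contra hno; push Not at hno; exact h.nle hno
    refine ⟨⟨1, 0, fun e => hx' ?_⟩⟩
    have h1 := DFunLike.congr_fun e (Additive.ofMul ((⟨x, hx⟩ : ↥R₁) : V))
    exact Subgroup.mem_subgroupOf.1 ((QuotientGroup.eq_one_iff _).1 (Additive.ofMul.injective h1))
  have hnz : ∀ a' ∈ S, ∀ c' ∈ S, a' * c' = 0 → a' = 0 ∨ c' = 0 := by
    intro a' ha' c' hc' hac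
    by_contra hno
    push Not at hno
    let X : Subgroup G := ((AddMonoidHom.ker a').toSubgroup'.comap
      (QuotientGroup.mk' (R₀.subgroupOf R₁))).map R₁.subtype
    have hmemX : ∀ x : ↥R₁, (x : G) ∈ X ↔ a' (Additive.ofMul (x : V)) = 0 := by
      intro x
      refine ⟨?_, fun hx => ⟨x, hx, rfl⟩⟩
      rintro ⟨y, hy, hyx⟩
      obtain rfl := Subtype.ext (show (y : G) = x from hyx)
      exact hy
    have hXR : X ≤ R₁ := Subgroup.map_subtype_le _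
    have hLX : L ≤ X := fun l hl => (hmemX ⟨l, h.LR₁ hl⟩).2 (by
      rw [show ((⟨l, h.LR₁ hl⟩ : ↥R₁) : V) = 1 from (QuotientGroup.eq_one_iff _).2 (hLR₀ hl)]
      exact map_zero a')
    have hXB : B ≤ Subgroup.normalizer (X : Set G) := fun b hb => by
      refine Coprime.mem_normalizer_of_forall fun x hx => ?_
      have hx' := (hmemX ⟨x, hXR hx⟩).1 hx
      refine (hmemX (cj ⟨b, hb⟩ ⟨x, hXR hx⟩)).2 ?_
      rw [← hρ]
      have := DFunLike.congr_fun (hScomm a' ha' _ (hρS ⟨b, hb⟩))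
        (Additive.ofMul ((⟨x, hXR hx⟩ : ↥R₁) : V))
      refine this.trans ?_
      show ρ ⟨b, hb⟩ (a' _) = 0
      rw [hx', map_zero]
    rcases h.min X hLX hXR hXB with hle | heq
    · refine hno.2 (AddMonoidHom.ext fun v => ?_)
      obtain ⟨y, hy⟩ := QuotientGroup.mk_surjective (Additive.toMul (c' v))
      have h1 : a' (c' v) = 0 :=
        DFunLike.congr_fun hac v
      have h2 : (y : G) ∈ R₀ := hle ((hmemX y).2 (by rw [hy]; exact h1))
      show c' v = 0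
      apply Additive.toMul.injective
      rw [← hy]
      exact (QuotientGroup.eq_one_iff _).2 h2
    · refine hno.1 (AddMonoidHom.ext fun v => ?_)
      obtain ⟨y, hy⟩ := QuotientGroup.mk_surjective (Additive.toMul v)
      have h1 := (hmemX y).1 (heq.symm ▸ y.2)
      rw [hy] at h1
      exact h1
  obtain ⟨g, hg⟩ := exists_gen_of_subring ρ S hρS hScomm hnz
  refine ⟨g, g.2, fun b hb => ?_⟩
  obtain ⟨i, hi⟩ := hg ⟨b, hb⟩
  refine ⟨i, fun x hx => ?_⟩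
  have h1 : ρ (⟨b, hb⟩ * (g ^ i)⁻¹) (Additive.ofMul ((⟨x, hx⟩ : ↥R₁) : V)) =
      Additive.ofMul ((⟨x, hx⟩ : ↥R₁) : V) := DFunLike.congr_fun hi _
  rw [hρ] at h1
  have h2 := QuotientGroup.eq.1 (Additive.ofMul.injective h1)
  rw [Subgroup.mem_subgroupOf] at h2
  have h3 := (Subgroup.mem_normalizer_iff.1 (hRR₀ (h.le hx)) _).1 (R₀.inv_mem h2)
  convert h3 using 1
  push_cast
  show b * ((g : G) ^ i)⁻¹ * x * (b * ((g : G) ^ i)⁻¹)⁻¹ * x⁻¹ = x * (_)⁻¹ * x⁻¹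
  rw [show ((cj (⟨b, hb⟩ * (g ^ i)⁻¹) ⟨x, hx⟩ : ↥R₁) : G) =
    b * ((g : G) ^ i)⁻¹ * x * (b * ((g : G) ^ i)⁻¹)⁻¹ from rfl]
  group

/-- The extension criterion. -/
theorem ext_iff {K L R C B : Subgroup G} (h : Setting p K L R C) (hCB : C ≤ B)
    (hBK : B ≤ Subgroup.normalizer (K : Set G)) (hBL : B ≤ Subgroup.normalizer (L : Set G))
    (hBR : B ≤ Subgroup.normalizer (R : Set G)) (hidxB : ¬ p ∣ C.relIndex B) (hBKC : K ⊓ B ≤ C)
    (hcomm : ∀ a ∈ B, ∀ b ∈ B, a * b * a⁻¹ * b⁻¹ ∈ C) (θ : IrrCharacter ↥K) (φ : IrrCharacter ↥C)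
    (hθR : Fix R K (E θ)) (hθB : Fix B K (E θ)) (hdeg : ¬ p ∣ deg θ) (hφR : Fix R C (E φ))
    (hmu : ¬ p ∣ mu C (E θ) (E φ)) : Extends θ (K ⊔ B) ↔ Extends φ B := by
  classical
  by_cases hCK : C = K
  · subst hCK
    have hθφ : θ = φ := by
      by_contra hne
      rw [mu_E, if_neg hne] at hmu
      exact hmu (dvd_zero p)
    rw [sup_of_le_right hCB, hθφ]
  let R₀ : Subgroup G := R ⊓ cenMod L K
  have hR₀L : L ≤ R₀ := fun l hl => ⟨h.LR hl, (mem_cenMod h.KL).2 ⟨Subgroup.le_normalizer hl, fun x hx => by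
    rw [show l * x * l⁻¹ * x⁻¹ = l * (x * l⁻¹ * x⁻¹) by group]
    exact L.mul_mem hl ((Subgroup.mem_normalizer_iff.1 (h.KL hx) _).1 (L.inv_mem hl))⟩⟩
  have hRR₀ : R ≤ Subgroup.normalizer (R₀ : Set G) := fun r hr =>
    inf_cenMod_normal h.KL (Subgroup.le_normalizer hr) (h.RL hr) (h.RK hr)
  have hBR₀ : B ≤ Subgroup.normalizer (R₀ : Set G) := fun b hb =>
    inf_cenMod_normal h.KL (hBR hb) (hBL hb) (hBK hb)
  have hne : ¬ R ≤ R₀ := fun hle => hCK (le_antisymm h.le fun k hk =>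
    (h.mem k).2 ⟨hk, fun r hr => ((mem_cenMod h.KL).1 (hle hr).2).2 k hk⟩)
  obtain ⟨R₁, hm⟩ := exists_min h.LR hRR₀ hR₀L hne hBR hBR₀ h.pR
  have hR₁L : R₁ ≤ Subgroup.normalizer (L : Set G) := hm.le.trans h.RL
  have hR₁K : R₁ ≤ Subgroup.normalizer (K : Set G) := hm.le.trans h.RK
  let C₁ : Subgroup G := K ⊓ cenMod L R₁
  have hC₁ : ∀ k, k ∈ C₁ ↔ k ∈ K ∧ ∀ r ∈ R₁, r * k * r⁻¹ * k⁻¹ ∈ L := fun k =>
    ⟨fun hk => ⟨hk.1, fun r hr => comm_symm (((mem_cenMod hR₁L).1 hk.2).2 r hr)⟩,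
      fun hk => ⟨hk.1, (mem_cenMod hR₁L).2 ⟨h.KL hk.1, fun r hr => comm_symm (hk.2 r hr)⟩⟩⟩
  have h₁ : Setting p K L R₁ C₁ :=
    { LK := h.LK, LR := hm.LR₁, KL := h.KL, RL := hR₁L, RK := hR₁K, idx := h.idx
      pR := fun r hr => h.pR r (hm.le hr), mem := hC₁ }
  have hCC₁ : C ≤ C₁ := fun c hc => (hC₁ c).2 ⟨h.le hc, fun r hr => h.comm (hm.le hr) hc⟩
  have hRC₁ : R ≤ Subgroup.normalizer (C₁ : Set G) := by
    intro r hr
    refine Coprime.mem_normalizer_of_forall fun k hk => ?_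
    obtain ⟨hkK, hkc⟩ := (hC₁ k).1 hk
    refine (hC₁ _).2 ⟨(Subgroup.mem_normalizer_iff.1 (h.RK hr) k).1 hkK, fun x hx => ?_⟩
    have hz : r⁻¹ * x * r * x⁻¹ ∈ R₀ := by
      have := R₀.inv_mem (hm.central x hx r⁻¹ (R.inv_mem hr))
      simpa [mul_assoc] using this
    have hzN : r⁻¹ * x * r * x⁻¹ ∈ Subgroup.normalizer (L : Set G) := h.RL hz.1
    have e1 := (modL_comm_iff ⟨r⁻¹ * x * r * x⁻¹, hzN⟩ ⟨k, h.KL hkK⟩).2 (((mem_cenMod h.KL).1 hz.2).2 k hkK)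
    have e2 := (modL_comm_iff ⟨x, hR₁L hx⟩ ⟨k, h.KL hkK⟩).2 (hkc x hx)
    have e3 := Commute.mul_left e1 e2
    rw [← map_mul] at e3
    have h2 := (Subgroup.mem_normalizer_iff.1 (h.RL hr) _).1 ((modL_comm_iff _ _).1 e3)
    convert h2 using 1
    push_cast
    group
  have h₂ : Setting p C₁ L R C :=
    { LK := h₁.LC, LR := h.LR, KL := h₁.CL, RL := h.RL, RK := hRC₁, idx := h₁.idxC, pR := h.pR
      mem := fun k => ⟨fun hk => ⟨hCC₁ hk, ((h.mem k).1 hk).2⟩, fun hk => (h.mem k).2 ⟨h₁.le hk.1, hk.2⟩⟩ }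
  have hlt : Nat.card ↥C₁ < Nat.card ↥K := by
    refine lt_of_le_of_ne (Subgroup.card_le_of_le h₁.le) fun e => hm.nle fun r hr => ⟨hm.le hr, ?_⟩
    refine (mem_cenMod h.KL).2 ⟨hR₁L hr, fun k hk => ((hC₁ k).1 ?_).2 r hr⟩
    rw [Subgroup.eq_of_le_of_card_ge h₁.le e.ge]; exact hk
  have hBC : B ≤ Subgroup.normalizer (C : Set G) := fun b hb =>
    Coprime.mem_normalizer_of_forall fun c hc => by
      have := C.mul_mem (hcomm b hb c (hCB hc)) hc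
      simpa [mul_assoc] using this
  have hBC₁ : B ≤ Subgroup.normalizer (C₁ : Set G) := fun b hb =>
    inf_cenMod_normal hR₁L (hBK hb) (hBL hb) (hm.BR₁ hb)
  obtain ⟨k, hk⟩ := h.relIndex_R
  obtain ⟨θ₁, hθ₁R, hmu₁, hmu₂⟩ := exists_fixed_between hCC₁ h₁.le h.RC hRC₁ h.RK h₁.LC h.LR hk θ hθR φ hφR hmu
  have hdeg₁ : ¬ p ∣ deg θ₁ := by
    obtain ⟨ψ, hψ, h1, h2⟩ := h₁.exists_down θ (hθR.mono hm.le) hdeg
    rwa [h₁.unique_down (hθR.mono hm.le) (hθ₁R.mono hm.le) hψ hmu₁ h1]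
  have hθ₁B : Fix B C₁ (E θ₁) := fun b hb => (cjI_eq_iff (hBC₁ hb) θ₁).1
    ((h₁.cjI_down (hBK hb) (hBC₁ hb) (hm.BR₁ hb) (hθR.mono hm.le) (hθ₁R.mono hm.le) hmu₁).1
      (cjI_eq_of_fix hBK hθB hb))
  let Z : Subgroup G := B ⊓ cenMod L R₁
  have hCR : ∀ c ∈ C, ∀ r ∈ R₁, c * r * c⁻¹ * r⁻¹ ∈ L := fun c hc r hr => comm_symm (h.comm (hm.le hr) hc)
  have hCZ : C ≤ Z := fun c hc => ⟨hCB hc, (mem_cenMod hR₁L).2 ⟨h.CL hc, hCR c hc⟩⟩
  have hBKC₁ : ∀ {Y : Subgroup G}, C ≤ Y → Y ≤ B → K ⊓ Y = C := fun hCY hYB =>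
    le_antisymm ((inf_le_inf_left K hYB).trans hBKC) (le_inf h.le hCY)
  have key : ∀ (Y : Subgroup G), C ≤ Y → Y ≤ Z → ∀ g ∈ B,
      (Extends θ (K ⊔ Y) ↔ Extends θ₁ (C₁ ⊔ Y)) →
      (Extends θ (K ⊔ (Y ⊔ Subgroup.zpowers g)) ↔ Extends θ₁ (C₁ ⊔ (Y ⊔ Subgroup.zpowers g))) := by
    intro Y hCY hYZ g hg hP
    have hYB : Y ≤ B := hYZ.trans inf_le_left
    refine step_iff h₁ (hθR.mono hm.le) (hθ₁R.mono hm.le) hmu₁ hdeg₁ (hYB.trans hBK) (hYB.trans hBC₁)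
      (hYB.trans hBL) (fun y hy r hr => comm_symm (((mem_cenMod hR₁L).1 (hYZ hy).2).2 r hr)) ?_
      ((hBKC₁ hCY hYB).le.trans hCC₁) (fun a ha b hb => hCC₁ (hcomm a (hYB ha) b (hYB hb))) (hBK hg)
      (hBC₁ hg) (hm.BR₁ hg) (Coprime.mem_normalizer_of_forall fun y hy => ?_) hP
    · rw [hBKC₁ hCY hYB]
      exact fun hd => hidxB (hd.trans (Dvd.intro (Y.relIndex B) (Subgroup.relIndex_mul_relIndex C Y B hCY hYB)))
    · have := Y.mul_mem (hCY (hcomm g hg y (hYB hy))) hy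
      simpa [mul_assoc] using this
  have chain : ∀ Y : Subgroup G, C ≤ Y → Y ≤ Z → (Extends θ (K ⊔ Y) ↔ Extends θ₁ (C₁ ⊔ Y)) := by
    intro Y
    induction Y using (wellFounded_lt (α := Subgroup G)).induction with
    | _ Y ih =>
      intro hCY hYZ
      rcases hCY.eq_or_lt with rfl | hlt'
      · rw [sup_of_le_left h.le, sup_of_le_left hCC₁]
        exact iff_of_true (extends_self θ) (extends_self θ₁)
      obtain ⟨Y', ⟨h1, h2⟩, hmax⟩ := (wellFounded_gt (α := Subgroup G)).has_min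
        {X | C ≤ X ∧ X < Y} ⟨C, le_rfl, hlt'⟩
      obtain ⟨g, hgY, hgY'⟩ := SetLike.exists_of_lt h2
      have he : Y' ⊔ Subgroup.zpowers g = Y := by
        by_contra hne'
        refine hmax _ ⟨h1.trans le_sup_left, lt_of_le_of_ne (sup_le h2.le (Subgroup.zpowers_le.2 hgY)) hne'⟩ ?_
        exact lt_of_le_of_ne le_sup_left fun e => hgY' (e.symm ▸ Subgroup.mem_sup_right (Subgroup.mem_zpowers g))
      rw [← he]
      exact key Y' h1 (h2.le.trans hYZ) g (hYZ hgY).1 (ih Y' h2 h1 (h2.le.trans hYZ))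
  obtain ⟨g, hg, hgen⟩ := hm.cyclic_mod_kernel hR₀L hBR₀ hRR₀ hcomm hCR
  have hBeq : Z ⊔ Subgroup.zpowers g = B := by
    refine le_antisymm (sup_le inf_le_left (Subgroup.zpowers_le.2 hg)) fun b hb => ?_
    obtain ⟨i, hi⟩ := hgen b hb
    have hb' : b * (g ^ i)⁻¹ ∈ B := mul_mem hb (inv_mem (pow_mem hg i))
    haveI : (C.subgroupOf B).Normal := ⟨fun n hn g => (Subgroup.mem_normalizer_iff.1 (hBC g.2) n).1 hn⟩
    have hpow := Subgroup.pow_index_mem (C.subgroupOf B) ⟨_, hb'⟩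
    rw [Subgroup.mem_subgroupOf, Subgroup.coe_pow] at hpow
    have hbZ : b * (g ^ i)⁻¹ ∈ Z := ⟨hb', hm.centralises hR₀L inf_le_left h.RL h.relIndex_R hBL hCB hcomm hCR
      _ hidxB _ hb' (hCZ hpow).2 hi⟩
    have := mul_mem (Subgroup.mem_sup_left hbZ : _ ∈ Z ⊔ Subgroup.zpowers g)
      (Subgroup.mem_sup_right (pow_mem (Subgroup.mem_zpowers g) i))
    simpa using this
  have hall := key Z hCZ le_rfl g hg (chain Z hCZ le_rfl)
  rw [hBeq] at hall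
  rw [hall]
  exact ext_iff h₂ hCB hBC₁ hBL hBR hidxB ((inf_le_inf_right B h₁.le).trans hBKC) hcomm θ₁ φ hθ₁R hθ₁B hdeg₁
    hφR hmu₂
termination_by Nat.card ↥K
decreasing_by exact hlt

end Cfsg.Agent.OW
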