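import Cfsg.Agent.Lib.OW.Count
import Cfsg.Agent.Lib.CharApp.OverStab
import Cfsg.Agent.S0887

/-!
Characters over a normal subgroup.

* `deg_over`, `ext_of_deg`, `over_only`
* `clifford_card`: the Clifford correspondence as a count
* `fib`: counting along the constituents
* `pc`: the characters of degree prime to `p` over a given one
-/

set_option autoImplicit false
set_option linter.unusedSectionVars false

namespace Cfsg.Agent.OW

open Cfsg Cfsg.Agent.Char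

attribute [local instance 2000] Fintype.ofFinite

variable {G : Type*} [Group G] [Finite G]

theorem exists_below {A B : Subgroup G} (hAB : A ≤ B) (χ : IrrCharacter ↥B) :
    ∃ η : IrrCharacter ↥A, mu A (E χ) (E η) ≠ 0 := by
  classical
  by_contra hno
  push Not at hno
  have h1 := deg_eq_sum hAB χ
  rw [Finset.sum_eq_zero fun η _ => by rw [hno η, zero_mul]] at h1
  exact (deg_pos χ).ne' h1

theorem mu_trans_ne {A B D : Subgroup G} (hAB : A ≤ B) (hBD : B ≤ D) {χ : IrrCharacter ↥D} {η : IrrCharacter ↥B}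
    {ψ : IrrCharacter ↥A} (h1 : mu B (E χ) (E η) ≠ 0) (h2 : mu A (E η) (E ψ) ≠ 0) : mu A (E χ) (E ψ) ≠ 0 := by
  rw [mu_trans hAB ((isCh_E χ).mono hBD) ψ]
  exact fun e => mul_ne_zero h1 h2 ((Finset.sum_eq_zero_iff.1 e) η (Finset.mem_univ η))

theorem classInner_transport {A B : Subgroup G} (hAB : A ≤ B) (χ : IrrCharacter ↥B) (η : IrrCharacter ↥A) :
    classInner (fun n : ↥(A.subgroupOf B) => (χ : ↥B → ℂ) n)
        (fun n => (η : ↥A → ℂ) (Subgroup.subgroupOfEquivOfLe hAB n)) = (mu A (E χ) (E η) : ℂ) := by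
  rw [← mu_spec ((isCh_E χ).mono hAB) (isCh_E η), ← ip_subgroupOf hAB]
  congr 1
  · exact funext fun a => (congrFun (rs_E χ) a).symm
  · exact funext fun a => (E_coe η (Subgroup.subgroupOfEquivOfLe hAB a)).symm

/-- The degree divides, and the ratio divides the index. -/
theorem deg_over {A B : Subgroup G} (hAB : A ≤ B) (hn : B ≤ Subgroup.normalizer (A : Set G))
    {χ : IrrCharacter ↥B} {η : IrrCharacter ↥A} (h : mu A (E χ) (E η) ≠ 0) :
    deg η ∣ deg χ ∧ deg χ / deg η ∣ A.relIndex B := by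
  classical
  haveI : (A.subgroupOf B).Normal := (Subgroup.normal_subgroupOf_iff_le_normalizer hAB).2 hn
  refine S0887.result (A.subgroupOf B) _ χ.2 _
    (IsIrrCharacter.comp_equiv η.2 (Subgroup.subgroupOfEquivOfLe hAB)) ?_ (deg χ) (deg η) ?_ ?_
  · rw [classInner_transport hAB]; exact_mod_cast h
  · rw [← E_one χ, ← E_coe χ 1, OneMemClass.coe_one]
  · rw [← E_one η, ← E_coe η (Subgroup.subgroupOfEquivOfLe hAB 1), map_one, OneMemClass.coe_one]

/-- A constituent of the same degree is the restriction. -/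
theorem ext_of_deg {A B : Subgroup G} (hAB : A ≤ B) {χ : IrrCharacter ↥B} {η : IrrCharacter ↥A}
    (h : mu A (E χ) (E η) ≠ 0) (hd : deg χ = deg η) : ∀ a ∈ A, E χ a = E η a := by
  classical
  obtain ⟨c, hc, hcn⟩ := IsCharacter.decompose ((isCh_E χ).mono hAB)
  have hmu : ∀ ξ : IrrCharacter ↥A, c ξ = mu A (E χ) (E ξ) := fun ξ => by
    have : (c ξ : ℂ) = mu A (E χ) (E ξ) := by
      rw [← mu_spec ((isCh_E χ).mono hAB) (isCh_E ξ), ip, rs_E, hcn]
    exact_mod_cast this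
  have hsum := deg_eq_sum hAB χ
  rw [← Finset.add_sum_erase _ _ (Finset.mem_univ η), hd] at hsum
  have h1 : deg η ≤ mu A (E χ) (E η) * deg η := Nat.le_mul_of_pos_left _ (Nat.pos_of_ne_zero h)
  have h0 : ∀ ξ, ξ ≠ η → c ξ = 0 := fun ξ hξ => by
    rw [hmu]
    by_contra hne
    have h2 : 0 < mu A (E χ) (E ξ) * deg ξ := Nat.mul_pos (Nat.pos_of_ne_zero hne) (deg_pos ξ)
    have h3 := Finset.single_le_sum (f := fun ξ => mu A (E χ) (E ξ) * deg ξ) (fun _ _ => Nat.zero_le _)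
      (Finset.mem_erase.2 ⟨hξ, Finset.mem_univ ξ⟩)
    omega
  have h1' : c η = 1 := by
    rw [hmu]
    have : mu A (E χ) (E η) * deg η = 1 * deg η := by rw [one_mul]; omega
    exact Nat.eq_of_mul_eq_mul_right (deg_pos η) this
  intro a ha
  have h2 := congrFun hc ⟨a, ha⟩
  rw [Finset.sum_apply, Finset.sum_eq_single η (fun ξ _ hξ => by simp [h0 ξ hξ]) (by simp), h1'] at h2
  simp only [Nat.cast_one, one_smul] at h2
  exact h2.trans (E_of_mem η ha).symm

/-- All constituents below an invariant one coincide. -/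
theorem over_only {A B : Subgroup G} (hAB : A ≤ B) (hn : B ≤ Subgroup.normalizer (A : Set G))
    {ν : IrrCharacter ↥A} (hν : Fix B A (E ν)) {χ : IrrCharacter ↥B} (h : mu A (E χ) (E ν) ≠ 0)
    {η : IrrCharacter ↥A} (hη : mu A (E χ) (E η) ≠ 0) : η = ν :=
  mu_over_only hAB ν hν h hn hη

/-- A constituent of an intermediate group lies over the same invariant character. -/
theorem over_mid {A C B : Subgroup G} (hAC : A ≤ C) (hCB : C ≤ B) (hn : B ≤ Subgroup.normalizer (A : Set G))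
    {ν : IrrCharacter ↥A} (hν : Fix B A (E ν)) {χ : IrrCharacter ↥B} (h : mu A (E χ) (E ν) ≠ 0)
    {η : IrrCharacter ↥C} (hη : mu C (E χ) (E η) ≠ 0) : mu A (E η) (E ν) ≠ 0 := by
  obtain ⟨ξ, hξ⟩ := exists_below hAC η
  rwa [over_only (hAC.trans hCB) hn hν h (mu_trans_ne hAC hCB hη hξ)] at hξ

/-- Constituents are conjugate. -/
theorem conj_constituents {A B : Subgroup G} (hAB : A ≤ B) (hn : B ≤ Subgroup.normalizer (A : Set G))
    {χ : IrrCharacter ↥B} {η η' : IrrCharacter ↥A} (h : mu A (E χ) (E η) ≠ 0) (h' : mu A (E χ) (E η') ≠ 0) :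
    ∃ (x : G) (hx : x ∈ B), cjI (hn hx) η = η' := by
  classical
  haveI : (A.subgroupOf B).Normal := (Subgroup.normal_subgroupOf_iff_le_normalizer hAB).2 hn
  let e := Subgroup.subgroupOfEquivOfLe hAB
  obtain ⟨g, hg⟩ := CliffordChar.constituents_conjugate (A.subgroupOf B) χ.2
    (IsIrrCharacter.comp_equiv η.2 e) (IsIrrCharacter.comp_equiv η'.2 e)
    (by rw [classInner_transport hAB]; exact_mod_cast h) (by rw [classInner_transport hAB]; exact_mod_cast h')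
  refine ⟨g, g.2, irr_ext fun k hk => ?_⟩
  have h1 := congrFun hg ⟨⟨k, hAB hk⟩, hk⟩
  rw [E_of_mem η' hk]
  refine Eq.trans ?_ h1
  rw [E_cjI, CliffordChar.conjFun_apply]
  refine Eq.trans ?_ (E_coe η _)
  congr 1

/-- The Clifford correspondence as a count. -/
theorem clifford_card {L T H : Subgroup G} (hLT : L ≤ T) (hTH : T ≤ H)
    (hn : H ≤ Subgroup.normalizer (L : Set G)) (ν : IrrCharacter ↥L)
    (hstab : ∀ h ∈ H, (∀ l ∈ L, E ν (h * l * h⁻¹) = E ν l) → h ∈ T) (Q : ℕ → Prop) :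
    Nat.card {χ : IrrCharacter ↥H // Q (deg χ) ∧ mu L (E χ) (E ν) ≠ 0} =
      Nat.card {ξ : IrrCharacter ↥T // Q (T.relIndex H * deg ξ) ∧ mu L (E ξ) (E ν) ≠ 0} := by
  classical
  haveI : (L.subgroupOf H).Normal := (Subgroup.normal_subgroupOf_iff_le_normalizer (hLT.trans hTH)).2 hn
  let eL := Subgroup.subgroupOfEquivOfLe (hLT.trans hTH)
  let eT := Subgroup.subgroupOfEquivOfLe hTH
  let N := L.subgroupOf H
  let T' := T.subgroupOf H
  have hNT : N ≤ T' := fun x hx => hLT hx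
  let θ : ↥N → ℂ := fun n => (ν : ↥L → ℂ) (eL n)
  have hθ : IsIrrCharacter ↥N θ := IsIrrCharacter.comp_equiv ν.2 eL
  have hI : CharApp.inertia N θ ≤ T' := fun x hx => by
    refine hstab x x.2 fun l hl => ?_
    have hx' := (CharApp.mem_inertia_iff N).1 hx ⟨⟨l, hLT.trans hTH hl⟩, hl⟩
    rw [E_of_mem ν hl]
    refine Eq.trans ?_ hx'
    exact (E_of_mem ν ((Subgroup.mem_normalizer_iff.1 (hn x.2) l).1 hl)).trans rfl
  let up : IrrCharacter ↥T → IrrCharacter ↥T' := fun ξ => ⟨_, IsIrrCharacter.comp_equiv ξ.2 eT⟩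
  have hmult : ∀ ξ : IrrCharacter ↥T,
      CharApp.OverStab.mult N T' hNT (up ξ : ↥T' → ℂ) θ = (mu L (E ξ) (E ν) : ℂ) := by
    intro ξ
    rw [← mu_spec ((isCh_E ξ).mono hLT) (isCh_E ν), ← ip_subgroupOf (hLT.trans hTH)]
    unfold CharApp.OverStab.mult
    congr 1
    · exact funext fun a => (E_coe ξ (eT ⟨a, hNT a.2⟩)).symm
    · exact funext fun a => (E_coe ν (eL a)).symm
  let F : {ξ : IrrCharacter ↥T // mu L (E ξ) (E ν) ≠ 0} → IrrCharacter ↥H := fun ξ =>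
    ⟨_, (CharApp.OverStab.induced_irr N T' hNT hθ hI (up ξ.1).2
      (by rw [hmult]; exact_mod_cast ξ.2)).1⟩
  have hFover : ∀ ξ, mu L (E (F ξ)) (E ν) ≠ 0 := fun ξ => by
    have h2 := (CharApp.OverStab.induced_irr N T' hNT hθ hI (up ξ.1).2
      (by rw [hmult]; exact_mod_cast ξ.2)).2
    rw [hmult] at h2
    have h3 := (classInner_transport (hLT.trans hTH) (F ξ) ν).symm.trans h2
    intro e; rw [e] at h3
    exact ξ.2 (by exact_mod_cast h3.symm)
  have hFdeg : ∀ ξ, deg (F ξ) = T.relIndex H * deg ξ.1 := fun ξ => by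
    have h1 : ((deg (F ξ) : ℕ) : ℂ) = ((T.relIndex H * deg ξ.1 : ℕ) : ℂ) := by
      rw [← E_one (F ξ)]
      conv_lhs => rw [← OneMemClass.coe_one H, E_coe]
      show Cfsg.indFun T' _ 1 = _
      rw [indFun_one_apply, Nat.cast_mul, Subgroup.relIndex]
      congr 1
      show (ξ.1 : ↥T → ℂ) (eT 1) = _
      rw [map_one, ← E_coe ξ.1 1, OneMemClass.coe_one, E_one]
    exact_mod_cast h1
  refine (Nat.card_congr (Equiv.ofBijective
    (fun ξ : {ξ : IrrCharacter ↥T // Q (T.relIndex H * deg ξ) ∧ mu L (E ξ) (E ν) ≠ 0} =>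
      (⟨F ⟨ξ.1, ξ.2.2⟩, by rw [hFdeg]; exact ξ.2.1, hFover _⟩ :
        {χ : IrrCharacter ↥H // Q (deg χ) ∧ mu L (E χ) (E ν) ≠ 0})) ⟨?_, ?_⟩)).symm
  · intro a b hab
    have h1 := congrArg Subtype.val (congrArg Subtype.val hab)
    have h2 := CharApp.OverStab.under_unique N T' hNT hθ hI (η₁ := up a.1) (η₂ := up b.1)
      (by rw [hmult]; exact_mod_cast a.2.2) (by rw [hmult]; exact_mod_cast b.2.2) h1
    refine Subtype.ext (Subtype.ext (funext fun t => ?_))
    have h3 := congrFun (congrArg Subtype.val h2) (eT.symm t)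
    simp only [up] at h3
    rwa [MulEquiv.apply_symm_apply] at h3
  · rintro ⟨χ, hQ, hχ⟩
    obtain ⟨η, hη, hind⟩ := CharApp.OverStab.exists_under N T' hNT hθ hI χ.2
      (by rw [classInner_transport (hLT.trans hTH)]; exact_mod_cast hχ)
    let ξ : IrrCharacter ↥T := ⟨_, IsIrrCharacter.comp_equiv η.2 eT.symm⟩
    have hup : up ξ = η := Subtype.ext (funext fun t => by
      show (η : ↥T' → ℂ) (eT.symm (eT t)) = _
      rw [MulEquiv.symm_apply_apply])
    have hξ : mu L (E ξ) (E ν) ≠ 0 := fun e => hη (by rw [← hup, hmult, e, Nat.cast_zero])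
    have hFξ : F ⟨ξ, hξ⟩ = χ := Subtype.ext (by
      show Cfsg.indFun T' (up ξ : ↥T' → ℂ) = _
      rw [hup]; exact hind)
    exact ⟨⟨ξ, by rw [← hFdeg ⟨ξ, hξ⟩, hFξ]; exact hQ, hξ⟩, Subtype.ext hFξ⟩

/-- Counting along the constituents in `X`, on which `M` is transitive. -/
theorem fib {A B M : Subgroup G} (hMA : M ≤ Subgroup.normalizer (A : Set G)) (hAB : A ≤ B) (hMB : M ≤ B)
    (X : Finset (IrrCharacter ↥A)) (hXM : ∀ m (hm : m ∈ M), ∀ η ∈ X, cjI (hMA hm) η ∈ X)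
    (P : IrrCharacter ↥B → Prop) [DecidablePred P] (hsome : ∀ χ, P χ → ∃ η ∈ X, mu A (E χ) (E η) ≠ 0)
    (hconj : ∀ χ, P χ → ∀ η ∈ X, ∀ η' ∈ X, mu A (E χ) (E η) ≠ 0 → mu A (E χ) (E η') ≠ 0 →
      ∃ (m : G) (hm : m ∈ M), cjI (hMA hm) η = η') :
    Nat.card ↥M * Nat.card {χ // P χ} =
      ∑ η ∈ X, Nat.card {m : ↥M // cjI (hMA m.2) η = η} * Nat.card {χ // P χ ∧ mu A (E χ) (E η) ≠ 0} := by
  classical
  letI := irrAct hMA
  have key : ∀ χ, P χ → ∑ η ∈ X.filter (fun η => mu A (E χ) (E η) ≠ 0),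
      Nat.card {m : ↥M // cjI (hMA m.2) η = η} = Nat.card ↥M := by
    intro χ hχ
    obtain ⟨η₀, hη₀, hη₀'⟩ := hsome χ hχ
    have hinv : ∀ (m : ↥M) (η : IrrCharacter ↥A), mu A (E χ) (E (cjI (hMA m.2) η)) = mu A (E χ) (E η) := by
      intro m η
      have hmB : (m : G) ∈ Subgroup.normalizer (B : Set G) := Subgroup.le_normalizer (hMB m.2)
      conv_lhs => rw [← (cjI_eq_iff hmB χ).2 fun h hh => E_conj χ (hMB m.2) hh, mu_cjI (hMA m.2) hmB]
    rw [Nat.card_eq_fintype_card (α := ↥M), ← Finset.card_univ (α := ↥M),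
      Finset.card_eq_sum_card_fiberwise (f := fun m : ↥M => m • η₀) (s := Finset.univ)
        (t := X.filter fun η => mu A (E χ) (E η) ≠ 0) fun m _ => by
          simp only [Finset.coe_filter, Set.mem_setOf_eq]
          exact ⟨hXM m m.2 η₀ hη₀, by
            show mu A (E χ) (E (cjI _ η₀)) ≠ 0
            rwa [hinv m η₀]⟩]
    refine Finset.sum_congr rfl fun η hη => ?_
    obtain ⟨hηX, hη'⟩ := Finset.mem_filter.1 hη
    obtain ⟨m₁, hm₁, hm₁η⟩ := hconj χ hχ η₀ hη₀ η hηX hη₀' hη'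
    rw [← Fintype.card_subtype, Nat.card_eq_fintype_card]
    refine Fintype.card_congr
      { toFun := fun m => ⟨m.1 * ⟨m₁, hm₁⟩, ?_⟩
        invFun := fun m => ⟨m.1 * (⟨m₁, hm₁⟩ : ↥M)⁻¹, ?_⟩
        left_inv := fun m => Subtype.ext (mul_inv_cancel_right _ _)
        right_inv := fun m => Subtype.ext (inv_mul_cancel_right _ _) }
    · show (m.1 * ⟨m₁, hm₁⟩ : ↥M) • η₀ = η
      rw [mul_smul, show (⟨m₁, hm₁⟩ : ↥M) • η₀ = η from hm₁η]
      exact m.2
    · show (m.1 * (⟨m₁, hm₁⟩ : ↥M)⁻¹) • η = η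
      rw [mul_smul, show (⟨m₁, hm₁⟩ : ↥M)⁻¹ • η = η₀ by
        rw [inv_smul_eq_iff]; exact hm₁η.symm]
      exact m.2
  simp only [Nat.card_eq_fintype_card (α := {χ // P χ}), Fintype.card_subtype]
  rw [Finset.card_eq_sum_ones, Finset.mul_sum]
  have : ∀ η : IrrCharacter ↥A, Nat.card {χ // P χ ∧ mu A (E χ) (E η) ≠ 0} =
      ∑ χ ∈ Finset.univ.filter P, if mu A (E χ) (E η) ≠ 0 then 1 else 0 := fun η => by
    rw [Nat.card_eq_fintype_card, Fintype.card_subtype, ← Finset.filter_filter, Finset.card_filter]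
  simp only [this, Finset.mul_sum]
  rw [Finset.sum_comm]
  refine Finset.sum_congr rfl fun χ hχ => ?_
  rw [mul_one, ← key χ (Finset.mem_filter.1 hχ).2, Finset.sum_filter]
  exact Finset.sum_congr rfl fun η _ => by split_ifs <;> simp

/-- The characters of degree prime to `p` over `ν`. -/
noncomputable def pc (p : ℕ) {L : Subgroup G} (ν : IrrCharacter ↥L) (H : Subgroup G) : ℕ :=
  Nat.card {χ : IrrCharacter ↥H // ¬ p ∣ deg χ ∧ mu L (E χ) (E ν) ≠ 0}

theorem pc_clifford {p : ℕ} [hp : Fact p.Prime] {L T H : Subgroup G} (hLT : L ≤ T) (hTH : T ≤ H)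
    (hn : H ≤ Subgroup.normalizer (L : Set G)) (ν : IrrCharacter ↥L)
    (hstab : ∀ h ∈ H, (∀ l ∈ L, E ν (h * l * h⁻¹) = E ν l) → h ∈ T) (hidx : ¬ p ∣ T.relIndex H) :
    pc p ν H = pc p ν T := by
  unfold pc
  rw [clifford_card hLT hTH hn ν hstab (fun d => ¬ p ∣ d)]
  refine Nat.card_congr (Equiv.subtypeEquivRight fun ξ => ?_)
  rw [hp.out.dvd_mul]
  tauto

theorem cnt_clifford {L T H : Subgroup G} (hLT : L ≤ T) (hTH : T ≤ H)
    (hn : H ≤ Subgroup.normalizer (L : Set G)) (ν : IrrCharacter ↥L)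
    (hstab : ∀ h ∈ H, (∀ l ∈ L, E ν (h * l * h⁻¹) = E ν l) → h ∈ T) : cnt ν H = cnt ν T := by
  have h := clifford_card hLT hTH hn ν hstab (fun _ => True)
  simp only [true_and] at h
  exact h

/-- The stabiliser inside `H`. -/
def stab (H : Subgroup G) {L : Subgroup G} (ν : IrrCharacter ↥L) : Subgroup G where
  carrier := {x | x ∈ H ∧ x ∈ Subgroup.normalizer (L : Set G) ∧ ∀ l ∈ L, E ν (x * l * x⁻¹) = E ν l}
  one_mem' := ⟨one_mem _, one_mem _, fun l _ => by simp⟩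
  mul_mem' := fun {a b} ha hb => ⟨mul_mem ha.1 hb.1, mul_mem ha.2.1 hb.2.1, fun l hl => by
    rw [show a * b * l * (a * b)⁻¹ = a * (b * l * b⁻¹) * a⁻¹ by group,
      ha.2.2 _ ((Subgroup.mem_normalizer_iff.1 hb.2.1 l).1 hl), hb.2.2 l hl]⟩
  inv_mem' := fun {a} ha => ⟨inv_mem ha.1, inv_mem ha.2.1, fun l hl => by
    have hl' : a⁻¹ * l * a⁻¹⁻¹ ∈ L := (Subgroup.mem_normalizer_iff.1 (inv_mem ha.2.1) l).1 hl
    rw [← ha.2.2 _ hl']; congr 1; group⟩

theorem mem_stab {H L : Subgroup G} {ν : IrrCharacter ↥L} {x : G} :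
    x ∈ stab H ν ↔ x ∈ H ∧ x ∈ Subgroup.normalizer (L : Set G) ∧ ∀ l ∈ L, E ν (x * l * x⁻¹) = E ν l :=
  Iff.rfl

end Cfsg.Agent.OW
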