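import Cfsg.Agent.Lib.OW.Transfer
import Cfsg.Prelude.Def_Local

/-!
The relative count of characters of degree prime to `p` (Okuyama–Wajima).

* `sylow_conj`, `exists_section`
* `fib_main`: fibration over a normal subgroup
* `pc_normalizer`: the theorem
-/

set_option autoImplicit false
set_option linter.unusedSectionVars false

namespace Cfsg.Agent.OW

open Cfsg Cfsg.Agent.Char

attribute [local instance 2000] Fintype.ofFinite

variable {G : Type*} [Group G] [Finite G] {p : ℕ} [hp : Fact p.Prime]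

theorem not_dvd_relIndex_sylow (S : Sylow p G) {T B : Subgroup G} (hST : (S : Subgroup G) ≤ T) (hTB : T ≤ B) :
    ¬ p ∣ T.relIndex B := fun h => by
  refine S.not_dvd_index (h.trans ?_)
  rw [← Subgroup.relIndex_mul_index (hST.trans hTB), ← Subgroup.relIndex_mul_relIndex (S : Subgroup G) T B hST hTB]
  exact dvd_mul_of_dvd_left (dvd_mul_left _ _) _

/-- Fusion into the normaliser of a Sylow subgroup. -/
theorem sylow_conj (S : Sylow p G) {T : Subgroup G} (hST : (S : Subgroup G) ≤ T) {x : G}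
    (hx : ∀ s ∈ (S : Subgroup G), x * s * x⁻¹ ∈ T) :
    ∃ t ∈ T, t * x ∈ Subgroup.normalizer ((S : Subgroup G) : Set G) := by
  have hle : ((x • S : Sylow p G) : Subgroup G) ≤ T := by
    rintro y ⟨s, hs, rfl⟩
    exact hx s hs
  obtain ⟨t, ht⟩ := MulAction.exists_smul_eq (↥T) ((x • S).subtype hle) (S.subtype hST)
  rw [Sylow.smul_subtype] at ht
  have h1 := Sylow.subtype_injective ht
  refine ⟨t, t.2, Sylow.smul_eq_iff_mem_normalizer.1 ?_⟩
  rw [mul_smul]
  exact h1

/-- A first nontrivial section of a `p`-solvable group over `L`. -/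
theorem exists_section (hG : Cfsg.IsPSolvable p G) {L H : Subgroup G} (hLH : L < H)
    (hHL : H ≤ Subgroup.normalizer (L : Set G)) :
    ∃ K : Subgroup G, L < K ∧ K ≤ H ∧ H ≤ Subgroup.normalizer (K : Set G) ∧
      ((∃ m, L.relIndex K ∣ p ^ m) ∨ (L.relIndex K).Coprime p) := by
  obtain ⟨n, Hs, h0, hlast, hmono, hnorm, hstep⟩ := hG
  by_contra hno
  push Not at hno
  have hall : ∀ i : Fin (n + 1), Hs i ⊓ H ≤ L := by
    intro i
    induction i using Fin.induction with
    | zero => rw [h0]; exact inf_le_left.trans bot_le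
    | succ i ih =>
      by_contra hne
      haveI := hnorm i.succ
      haveI := hnorm i.castSucc
      have hXH : Hs i.succ ⊓ H ≤ H := inf_le_right
      let K := L ⊔ (Hs i.succ ⊓ H)
      have hLK : L < K := lt_of_le_of_ne le_sup_left fun e => hne (e ▸ le_sup_right)
      have hKN : H ≤ Subgroup.normalizer (K : Set G) := fun h hh =>
        Subgroup.normalizer_inf_normalizer_le_normalizer_sup L _ ⟨hHL hh,
          Coprime.mem_normalizer_of_forall fun y hy =>
            ⟨(hnorm i.succ).conj_mem y hy.1 h, H.mul_mem (H.mul_mem hh hy.2) (H.inv_mem hh)⟩⟩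
      have hdvd : L.relIndex K ∣ (Hs i.castSucc).relIndex (Hs i.succ) := by
        rw [relIndex_sup_norm (hXH.trans hHL)]
        refine (Subgroup.relIndex_dvd_of_le_left (Hs i.succ ⊓ H) ih).trans ?_
        have hle : Hs i.castSucc ≤ Hs i.succ := hmono (Fin.castSucc_le_succ i)
        rw [show Hs i.castSucc ⊓ H = Hs i.castSucc ⊓ (Hs i.succ ⊓ H) by
          rw [← inf_assoc, inf_eq_left.2 hle], Subgroup.inf_relIndex_right,
          ← Subgroup.relIndex_subgroupOf (inf_le_left : Hs i.succ ⊓ H ≤ Hs i.succ)]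
        haveI : ((Hs i.castSucc).subgroupOf (Hs i.succ)).Normal := Subgroup.normal_subgroupOf
        exact Subgroup.relIndex_dvd_index_of_normal _ _
      obtain ⟨hp1, hp2⟩ := hno K hLK (sup_le hLH.le hXH) hKN
      rcases hstep i with ⟨m, hm⟩ | hcop
      · exact hp1 m (hm ▸ hdvd)
      · exact hp2 (hcop.coprime_dvd_left hdvd)
  have := hall (Fin.last n)
  rw [hlast, top_inf_eq] at this
  exact hLH.not_ge this

open Classical in
/-- The `S`-fixed characters of `A` of degree prime to `p` over `ν`. -/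
noncomputable def fixedOver (p : ℕ) (S : Subgroup G) {L : Subgroup G} (ν : IrrCharacter ↥L) (A : Subgroup G) :
    Finset (IrrCharacter ↥A) :=
  Finset.univ.filter fun η => ¬ p ∣ deg η ∧ mu L (E η) (E ν) ≠ 0 ∧ Fix S A (E η)

theorem mem_fixedOver {S L A : Subgroup G} {ν : IrrCharacter ↥L} {η : IrrCharacter ↥A} :
    η ∈ fixedOver p S ν A ↔ ¬ p ∣ deg η ∧ mu L (E η) (E ν) ≠ 0 ∧ Fix S A (E η) := by
  classical
  simp [fixedOver]

/-- Fibration over `A`. -/
theorem fib_main (S : Sylow p G) {L A B M : Subgroup G} (hLA : L ≤ A) (hAB : A ≤ B)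
    (hBA : B ≤ Subgroup.normalizer (A : Set G)) (hBL : B ≤ Subgroup.normalizer (L : Set G))
    (hSB : (S : Subgroup G) ≤ B) (hM : ∀ x, x ∈ M ↔ x ∈ B ∧ x ∈ Subgroup.normalizer ((S : Subgroup G) : Set G))
    (hMA : M ≤ Subgroup.normalizer (A : Set G))
    (ν : IrrCharacter ↥L) (hν : Fix B L (E ν)) :
    Nat.card ↥M * pc p ν B = ∑ η ∈ fixedOver p (S : Subgroup G) ν A,
      Nat.card {m : ↥M // cjI (hMA m.2) η = η} * pc p η B := by
  classical
  have hMB : M ≤ B := fun x hx => ((hM x).1 hx).1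
  rw [pc, fib hMA hAB hMB (fixedOver p (S : Subgroup G) ν A) ?_ _ ?_ ?_]
  · refine Finset.sum_congr rfl fun η hη => ?_
    congr 1
    exact Nat.card_congr (Equiv.subtypeEquivRight fun χ => ⟨fun h => ⟨h.1.1, h.2⟩,
      fun h => ⟨⟨h.1, mu_trans_ne hLA hAB h.2 (mem_fixedOver.1 hη).2.1⟩, h.2⟩⟩)
  · intro m hm η hη
    obtain ⟨hd, hover, hfix⟩ := mem_fixedOver.1 hη
    have hmL : m ∈ Subgroup.normalizer (L : Set G) := hBL (hMB hm)
    refine mem_fixedOver.2 ⟨by rwa [deg_cjI], ?_, fun r hr a ha => ?_⟩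
    · rw [← (cjI_eq_iff hmL ν).2 (hν m (hMB hm)), mu_cjI hmL (hMA hm)]
      exact hover
    · rw [E_cjI, E_cjI]
      have hr' : m⁻¹ * r * m ∈ (S : Subgroup G) := by
        simpa using (Subgroup.mem_normalizer_iff.1 (inv_mem ((hM m).1 hm).2) r).1 hr
      have ha' : m⁻¹ * a * m ∈ A := by
        simpa using (Subgroup.mem_normalizer_iff.1 (inv_mem (hMA hm)) a).1 ha
      rw [← hfix _ hr' _ ha']
      congr 1; group
  · rintro χ ⟨hχd, hχ⟩
    obtain ⟨k, hk⟩ := IsPGroup.iff_card.1 S.2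
    have hSA : (S : Subgroup G) ≤ Subgroup.normalizer (A : Set G) := hSB.trans hBA
    have hsum := sum_modEq_fixed (p := p) hSA bot_le bot_le (k := k)
      (by rw [Subgroup.relIndex_bot_left, hk]) (fun η : IrrCharacter ↥A => mu A (E χ) (E η) * deg η)
      fun r hr η => by
        show mu A (E χ) (E (cjI _ η)) * deg (cjI _ η) = _
        have hrB : r ∈ Subgroup.normalizer (B : Set G) := Subgroup.le_normalizer (hSB hr)
        rw [deg_cjI]
        conv_lhs => rw [← (cjI_eq_iff hrB χ).2 fun h hh => E_conj χ (hSB hr) hh, mu_cjI (hSA hr) hrB]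
    rw [← deg_eq_sum hAB χ] at hsum
    by_contra hno
    push Not at hno
    refine hχd ((hsum.dvd_iff dvd_rfl).2 (Finset.dvd_sum fun η hη => ?_))
    by_cases h1 : mu A (E χ) (E η) = 0
    · rw [h1, zero_mul]; exact dvd_zero p
    by_cases h2 : p ∣ deg η
    · exact dvd_mul_of_dvd_right h2 _
    exact absurd (hno η (mem_fixedOver.2 ⟨h2, over_mid hLA hAB hBL hν hχ h1, (Finset.mem_filter.1 hη).2⟩)) h1
  · rintro χ - η hη η' hη' h h'
    obtain ⟨x, hx, hxη⟩ := conj_constituents hAB hBA h h'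
    have hfix := (mem_fixedOver.1 hη).2.2
    have hfix' := (mem_fixedOver.1 hη').2.2
    have hST : (S : Subgroup G) ≤ stab B η := fun s hs =>
      mem_stab.2 ⟨hSB hs, hBA (hSB hs), hfix s hs⟩
    have hconj : ∀ s ∈ (S : Subgroup G), x⁻¹ * s * x⁻¹⁻¹ ∈ stab B η := by
      intro s hs
      refine mem_stab.2 ⟨mul_mem (mul_mem (inv_mem hx) (hSB hs)) (inv_mem (inv_mem hx)),
        mul_mem (mul_mem (inv_mem (hBA hx)) (hBA (hSB hs))) (inv_mem (inv_mem (hBA hx))), fun a ha => ?_⟩
      have ha' : x * a * x⁻¹ ∈ A := (Subgroup.mem_normalizer_iff.1 (hBA hx) a).1 ha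
      have h1 := hfix' s hs _ ha'
      rw [← hxη, E_cjI, E_cjI] at h1
      refine (Eq.trans ?_ (h1.trans ?_))
      · congr 1; group
      · congr 1; group
    obtain ⟨t, ht, htx⟩ := sylow_conj S hST hconj
    have hmB : x * t⁻¹ ∈ B := mul_mem hx (inv_mem (mem_stab.1 ht).1)
    have hmM : x * t⁻¹ ∈ M := (hM _).2 ⟨hmB, by simpa using inv_mem htx⟩
    refine ⟨x * t⁻¹, hmM, ?_⟩
    rw [← hxη]
    refine irr_ext fun a ha => ?_
    rw [E_cjI, E_cjI]
    have ha' : x⁻¹ * a * x ∈ A := by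
      simpa using (Subgroup.mem_normalizer_iff.1 (inv_mem (hBA hx)) a).1 ha
    rw [← (mem_stab.1 ht).2.2 (x⁻¹ * a * x) ha']
    congr 1; group

/-- The transfer step with the inertia groups. -/
theorem transfer' (S : Sylow p G) {K L P C N : Subgroup G} (h : Setting p K L P C) (hPN : P ≤ N) (hCN : C ≤ N)
    (hSP : (S : Subgroup G) ≤ P)
    (hNK : N ≤ Subgroup.normalizer (K : Set G)) (hNL : N ≤ Subgroup.normalizer (L : Set G))
    (hNP : N ≤ Subgroup.normalizer (P : Set G)) (hKN : K ⊓ N = C) (θ : IrrCharacter ↥K) (φ : IrrCharacter ↥C)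
    (hθ : Fix P K (E θ)) (hφ : Fix P C (E φ)) (hdθ : ¬ p ∣ deg θ) (hdφ : ¬ p ∣ deg φ)
    (hmu : ¬ p ∣ mu C (E θ) (E φ)) : pc p θ (K ⊔ N) = pc p φ N := by
  have hNC : N ≤ Subgroup.normalizer (C : Set G) := fun x hx => by
    refine Coprime.mem_normalizer_of_forall fun c hc => ?_
    rw [← hKN]
    exact ⟨(Subgroup.mem_normalizer_iff.1 (hNK hx) c).1 (h.le hc),
      N.mul_mem (N.mul_mem hx (hCN hc)) (N.inv_mem hx)⟩
  set T := stab N θ with hT
  have hTN : T ≤ N := fun x hx => (mem_stab.1 hx).1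
  have hPT : P ≤ T := fun x hx => mem_stab.2 ⟨hPN hx, h.RK hx, hθ x hx⟩
  have hCT : C ≤ T := fun x hx =>
    mem_stab.2 ⟨hCN hx, Subgroup.le_normalizer (h.le hx), fun k hk => E_conj θ (h.le hx) hk⟩
  have hiff : ∀ x, ∀ hx : x ∈ N, x ∈ T ↔ ∀ c ∈ C, E φ (x * c * x⁻¹) = E φ c := by
    intro x hx
    rw [← cjI_eq_iff (hNC hx), ← h.cjI_down (hNK hx) (hNC hx) (hNP hx) hθ hφ hmu, cjI_eq_iff]
    exact ⟨fun h' => (mem_stab.1 h').2.2, fun h' => mem_stab.2 ⟨hx, hNK hx, h'⟩⟩
  have hS : (S : Subgroup G) ≤ T := hSP.trans hPT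
  rw [pc_clifford (le_sup_left : K ≤ K ⊔ T) (sup_le_sup_left hTN K)
      (sup_le Subgroup.le_normalizer hNK) θ ?_ (not_dvd_relIndex_sylow S (hS.trans le_sup_right) (sup_le_sup_left hTN K)),
    pc_clifford hCT hTN hNC φ (fun x hx hf => (hiff x hx).2 hf) (not_dvd_relIndex_sylow S hS hTN)]
  · refine transfer h hPT hCT (hTN.trans hNK) (hTN.trans hNL) (hTN.trans hNP)
      (le_antisymm ((inf_le_inf_left K hTN).trans hKN.le) (le_inf h.le hCT)) θ φ
      (fun x hx => (mem_stab.1 hx).2.2) (fun x hx => (hiff x (hTN hx)).1 hx) hdθ hdφ hmu ?_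
    exact not_dvd_relIndex_sylow S (hSP.trans le_sup_right) (sup_le hCT hPT)
  · intro x hx hf
    obtain ⟨k, hk, t, ht, rfl⟩ := (Coprime.mem_sup_iff hNK).1 hx
    refine mul_mem (Subgroup.mem_sup_left hk) (Subgroup.mem_sup_right (mem_stab.2 ⟨ht, hNK ht, fun y hy => ?_⟩))
    have hy' : t * y * t⁻¹ ∈ K := (Subgroup.mem_normalizer_iff.1 (hNK ht) y).1 hy
    rw [← hf y hy, show k * t * y * (k * t)⁻¹ = k * (t * y * t⁻¹) * k⁻¹ by group, E_conj θ hk hy']

theorem pR_of_sylow (S : Sylow p G) {L : Subgroup G} (hSL : (S : Subgroup G) ≤ Subgroup.normalizer (L : Set G))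
    {r : G} (hr : r ∈ L ⊔ (S : Subgroup G)) : ∃ n : ℕ, r ^ p ^ n ∈ L := by
  have hN : L ⊔ (S : Subgroup G) ≤ Subgroup.normalizer (L : Set G) := sup_le Subgroup.le_normalizer hSL
  obtain ⟨l, hl, s, hs, rfl⟩ := (Coprime.mem_sup_iff hSL).1 hr
  obtain ⟨n, hn⟩ := S.2 ⟨s, hs⟩
  refine ⟨n, ?_⟩
  have h1 : modL L ⟨l * s, hN hr⟩ = modL L ⟨s, hSL hs⟩ := by
    rw [show (⟨l * s, hN hr⟩ : ↥(Subgroup.normalizer (L : Set G))) =
      ⟨l, Subgroup.le_normalizer hl⟩ * ⟨s, hSL hs⟩ from rfl, map_mul, (modL_eq_one L _).2 hl, one_mul]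
  have hsn : s ^ p ^ n = 1 := congrArg Subtype.val hn
  have h2 := congrArg (· ^ p ^ n) h1
  simp only [← map_pow] at h2
  rw [(modL_eq_one L (⟨s, hSL hs⟩ ^ p ^ n)).2 (by simp [hsn]), modL_eq_one] at h2
  simpa using h2

/-- **Okuyama–Wajima.** -/
theorem pc_normalizer (hG : Cfsg.IsPSolvable p G) (S : Sylow p G) (n : ℕ) :
    ∀ (L H : Subgroup G) (ν : IrrCharacter ↥L), L ≤ H → H ≤ Subgroup.normalizer (L : Set G) →
      (S : Subgroup G) ≤ H → Fix (S : Subgroup G) L (E ν) → L.relIndex H = n →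
      pc p ν H = pc p ν (H ⊓ Subgroup.normalizer ((L ⊔ (S : Subgroup G) : Subgroup G) : Set G)) := by
  classical
  induction n using Nat.strongRecOn with
  | ind n ih =>
    intro L H ν hLH hHL hSH hνS hn
    set P := L ⊔ (S : Subgroup G) with hP
    set N := H ⊓ Subgroup.normalizer (P : Set G) with hN
    have hSL : (S : Subgroup G) ≤ Subgroup.normalizer (L : Set G) := hSH.trans hHL
    have hPH : P ≤ H := sup_le hLH hSH
    have hPN : P ≤ N := le_inf hPH Subgroup.le_normalizer
    have hSN : (S : Subgroup G) ≤ N := le_sup_right.trans hPN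
    have hLN : L ≤ N := le_sup_left.trans hPN
    have hNH : N ≤ H := inf_le_left
    set T := stab H ν with hT
    have hTH : T ≤ H := fun x hx => (mem_stab.1 hx).1
    have hLT : L ≤ T := fun x hx =>
      mem_stab.2 ⟨hLH hx, Subgroup.le_normalizer hx, fun l hl => E_conj ν hx hl⟩
    have hST : (S : Subgroup G) ≤ T := fun x hx => mem_stab.2 ⟨hSH hx, hSL hx, hνS x hx⟩
    by_cases hTeq : T = H
    swap
    · have hlt : L.relIndex T < n := by
        rw [← hn, ← Subgroup.relIndex_mul_relIndex L T H hLT hTH]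
        refine lt_mul_of_one_lt_right (Nat.pos_of_ne_zero fun e => ?_) ?_
        · have := Subgroup.card_mul_index (L.subgroupOf T)
          rw [show (L.subgroupOf T).index = L.relIndex T from rfl, e, mul_zero] at this
          exact Nat.card_pos.ne this
        · refine lt_of_le_of_ne (Nat.pos_of_ne_zero fun e => ?_) fun e =>
            hTeq (le_antisymm hTH (Subgroup.relIndex_eq_one.1 e.symm))
          have := Subgroup.card_mul_index (T.subgroupOf H)
          rw [show (T.subgroupOf H).index = T.relIndex H from rfl, e, mul_zero] at this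
          exact Nat.card_pos.ne this
      rw [pc_clifford hLT hTH hHL ν (fun h hh hf => mem_stab.2 ⟨hh, hHL hh, hf⟩) (not_dvd_relIndex_sylow S hST hTH),
        ih _ hlt L T ν hLT (hTH.trans hHL) hST hνS rfl,
        pc_clifford (T := T ⊓ Subgroup.normalizer (P : Set G)) (le_inf hLT (hLN.trans inf_le_right))
          (inf_le_inf_right _ hTH) (hNH.trans hHL) ν
          (fun h hh hf => ⟨mem_stab.2 ⟨hh.1, hHL hh.1, hf⟩, hh.2⟩)
          (not_dvd_relIndex_sylow S (le_inf hST (hSN.trans inf_le_right)) (inf_le_inf_right _ hTH))]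
    have hν : Fix H L (E ν) := fun x hx => (mem_stab.1 (hTeq.ge hx)).2.2
    by_cases hHN : H ≤ Subgroup.normalizer (P : Set G)
    · rw [hN, inf_eq_left.2 hHN]
    have hLlt : L < H := lt_of_le_of_ne hLH fun e => hHN (by
      intro x hx
      refine Subgroup.le_normalizer ?_
      exact Subgroup.mem_sup_left (e ▸ hx))
    obtain ⟨K, hLK, hKH, hHK, hcase⟩ := exists_section hG hLlt hHL
    set M := H ⊓ Subgroup.normalizer ((S : Subgroup G) : Set G) with hM
    have hMH : M ≤ H := inf_le_left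
    have hMP : M ≤ Subgroup.normalizer (P : Set G) := fun x hx =>
      Subgroup.normalizer_inf_normalizer_le_normalizer_sup L _ ⟨hHL hx.1, hx.2⟩
    have hMN : ∀ x, x ∈ M ↔ x ∈ N ∧ x ∈ Subgroup.normalizer ((S : Subgroup G) : Set G) := fun x =>
      ⟨fun hx => ⟨⟨hx.1, hMP hx⟩, hx.2⟩, fun hx => ⟨hx.1.1, hx.2⟩⟩
    have hlt : L.relIndex K ≠ 1 := fun e => hLK.not_ge (Subgroup.relIndex_eq_one.1 e)
    have hmeas : K.relIndex H < n := by
      rw [← hn, ← Subgroup.relIndex_mul_relIndex L K H hLK.le hKH]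
      have h1 : K.relIndex H ≠ 0 := fun e => by
        have := Subgroup.card_mul_index (K.subgroupOf H)
        rw [show (K.subgroupOf H).index = K.relIndex H from rfl, e, mul_zero] at this
        exact Nat.card_pos.ne this
      have h2 : L.relIndex K ≠ 0 := fun e => by
        have := Subgroup.card_mul_index (L.subgroupOf K)
        rw [show (L.subgroupOf K).index = L.relIndex K from rfl, e, mul_zero] at this
        exact Nat.card_pos.ne this
      exact lt_mul_of_one_lt_left (Nat.pos_of_ne_zero h1) (by omega)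
    refine Nat.eq_of_mul_eq_mul_left (Nat.card_pos (α := ↥M)) ?_
    rw [fib_main S hLK.le hKH hHK hHL hSH (fun x => Iff.rfl) (hMH.trans hHK) ν hν]
    rcases hcase with ⟨m, hm⟩ | hcop
    · -- `p`-section: `K ≤ P`
      have hKP : K ≤ P := by
        have hSK : (S : Subgroup G) ≤ Subgroup.normalizer (K : Set G) := hSH.trans hHK
        have hPK : P ≤ K ⊔ (S : Subgroup G) := sup_le_sup_right hLK.le _
        obtain ⟨k, hk⟩ := IsPGroup.iff_card.1 S.2
        have h1 : K.relIndex (K ⊔ (S : Subgroup G)) ∣ p ^ k := by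
          rw [relIndex_sup_norm hSK, ← hk, ← Subgroup.card_mul_index (K.subgroupOf (S : Subgroup G))]
          exact dvd_mul_left _ _
        have h2 : P.relIndex (K ⊔ (S : Subgroup G)) ∣ p ^ (m + k) := by
          rw [pow_add]
          refine dvd_trans ?_ (mul_dvd_mul hm h1)
          rw [Subgroup.relIndex_mul_relIndex L K _ hLK.le le_sup_left,
            ← Subgroup.relIndex_mul_relIndex L P _ le_sup_left hPK]
          exact dvd_mul_left _ _
        exact le_sup_left.trans (Subgroup.relIndex_eq_one.1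
          (eq_one_of_dvd_pow h2 (not_dvd_relIndex_sylow S le_sup_right hPK)))
      rw [fib_main S hLK.le (hKP.trans hPN) (hNH.trans hHK) (hNH.trans hHL) hSN hMN (hMH.trans hHK) ν
        (hν.mono hNH)]
      refine Finset.sum_congr rfl fun η hη => ?_
      congr 1
      rw [ih _ hmeas K H η hKH hHK hSH (mem_fixedOver.1 hη).2.2 rfl,
        show K ⊔ (S : Subgroup G) = P from le_antisymm (sup_le hKP le_sup_right) (sup_le_sup_right hLK.le _)]
    · -- `p'`-section
      have hidx : ¬ p ∣ L.relIndex K := fun hd =>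
        hp.out.one_lt.ne' (Nat.eq_one_of_dvd_coprimes hcop hd dvd_rfl)
      set C := K ⊓ Subgroup.normalizer (P : Set G) with hC
      have hPK : P ≤ Subgroup.normalizer (K : Set G) := hPH.trans hHK
      have hinf : ∀ x ∈ K, x ∈ P → x ∈ L := by
        intro x hxK hxP
        obtain ⟨k, hk⟩ := pR_of_sylow S hSL hxP
        haveI : (L.subgroupOf K).Normal :=
          (Subgroup.normal_subgroupOf_iff_le_normalizer hLK.le).2 (hKH.trans hHL)
        have h2 := Subgroup.pow_index_mem (L.subgroupOf K) ⟨x, hxK⟩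
        rw [Subgroup.mem_subgroupOf, Subgroup.coe_pow] at h2
        have hco : Nat.Coprime (L.relIndex K) (p ^ k) := (hp.out.coprime_iff_not_dvd.2 hidx).symm.pow_right k
        have h3 := Nat.gcd_eq_gcd_ab (L.relIndex K) (p ^ k)
        rw [hco.gcd_eq_one, Nat.cast_one] at h3
        rw [← zpow_one x, h3, zpow_add, zpow_mul, zpow_mul, zpow_natCast, zpow_natCast]
        exact L.mul_mem (L.zpow_mem h2 _) (L.zpow_mem hk _)
      have hS : Setting p K L P C :=
        { LK := hLK.le, LR := le_sup_left, KL := hKH.trans hHL, RL := hPH.trans hHL, RK := hPK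
          idx := hidx, pR := fun r hr => pR_of_sylow S hSL hr
          mem := fun k => by
            constructor
            · rintro ⟨hkK, hkP⟩
              refine ⟨hkK, fun r hr => hinf _ ?_ ?_⟩
              · exact K.mul_mem ((Subgroup.mem_normalizer_iff.1 (hPK hr) k).1 hkK) (K.inv_mem hkK)
              · rw [show r * k * r⁻¹ * k⁻¹ = r * (k * r⁻¹ * k⁻¹) by group]
                exact P.mul_mem hr ((Subgroup.mem_normalizer_iff.1 hkP _).1 (P.inv_mem hr))
            · rintro ⟨hkK, hk⟩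
              refine ⟨hkK, Coprime.mem_normalizer_of_forall fun r hr => ?_⟩
              have := P.mul_mem (P.inv_mem (Subgroup.mem_sup_left (hk r hr))) hr
              simpa [mul_assoc] using this }
      have hCN : C ≤ N := le_inf (inf_le_left.trans hKH) inf_le_right
      have hKN : K ⊓ N = C := by
        rw [hN, hC, ← inf_assoc, inf_eq_left.2 hKH]
      have hNC : N ≤ Subgroup.normalizer (C : Set G) := fun x hx =>
        Coprime.mem_normalizer_of_forall fun c hc =>
          ⟨(Subgroup.mem_normalizer_iff.1 (hHK hx.1) c).1 hc.1,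
            (Subgroup.normalizer (P : Set G)).mul_mem ((Subgroup.normalizer (P : Set G)).mul_mem hx.2 hc.2)
              ((Subgroup.normalizer (P : Set G)).inv_mem hx.2)⟩
      have hMN' : M ≤ N := fun x hx => ((hMN x).1 hx).1
      rw [fib_main S hS.LC hCN hNC (hNH.trans hHL) hSN hMN (hMN'.trans hNC) ν (hν.mono hNH)]
      have hfixK : ∀ {A : Subgroup G} (_ : L ≤ A) (_ : P ≤ Subgroup.normalizer (A : Set G))
          (η : IrrCharacter ↥A), Fix (S : Subgroup G) A (E η) → Fix P A (E η) :=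
        fun hLA hPA η hη => ((fix_of_le η hLA).sup (le_sup_left.trans hPA) (le_sup_right.trans hPA) hη)
      have hKLn : K ≤ Subgroup.normalizer (L : Set G) := hKH.trans hHL
      have hd : ∀ η ∈ fixedOver p (S : Subgroup G) ν K, ∃ φ : IrrCharacter ↥C,
          Fix P C (E φ) ∧ ¬ p ∣ mu C (E η) (E φ) ∧ ¬ p ∣ deg φ := fun η hη =>
        hS.exists_down η (hfixK hLK.le hPK η (mem_fixedOver.1 hη).2.2) (mem_fixedOver.1 hη).1
      choose Φ hΦR hΦmu hΦd using hd
      have hmem : ∀ η (hη : η ∈ fixedOver p (S : Subgroup G) ν K),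
          Φ η hη ∈ fixedOver p (S : Subgroup G) ν C := by
        intro η hη
        refine mem_fixedOver.2 ⟨hΦd η hη, ?_, (hΦR η hη).mono le_sup_right⟩
        exact over_mid hS.LC hS.le hKLn (hν.mono hKH) (mem_fixedOver.1 hη).2.1
          fun e => hΦmu η hη (e ▸ dvd_zero p)
      refine Finset.sum_bij Φ hmem (fun u hu v hv e => ?_) (fun φ hφ => ?_) fun η hη => ?_
      · exact hS.unique_up (hfixK hLK.le hPK u (mem_fixedOver.1 hu).2.2)
          (hfixK hLK.le hPK v (mem_fixedOver.1 hv).2.2) (hΦR u hu) (hΦmu u hu) (e ▸ hΦmu v hv)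
      · obtain ⟨hφd, hφν, hφS⟩ := mem_fixedOver.1 hφ
        have hφR := hfixK hS.LC hS.RC φ hφS
        obtain ⟨θ, hθR, hmu, hθd⟩ := hS.exists_up φ hφR hφd
        have hθ : θ ∈ fixedOver p (S : Subgroup G) ν K :=
          mem_fixedOver.2 ⟨hθd, mu_trans_ne hS.LC hS.le (fun e => hmu (e ▸ dvd_zero p)) hφν,
            hθR.mono le_sup_right⟩
        exact ⟨θ, hθ, hS.unique_down hθR (hΦR θ hθ) hφR (hΦmu θ hθ) hmu⟩
      · obtain ⟨hηd, -, hηS⟩ := mem_fixedOver.1 hη
        have hηR := hfixK hLK.le hPK η hηS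
        congr 1
        · exact Nat.card_congr (Equiv.subtypeEquivRight fun m =>
            hS.cjI_down (hHK (hMH m.2)) (hNC (hMN' m.2)) (hMP m.2) hηR (hΦR η hη) (hΦmu η hη))
        rw [ih _ hmeas K H η hKH hHK hSH hηS rfl]
        have hN' : H ⊓ Subgroup.normalizer ((K ⊔ (S : Subgroup G) : Subgroup G) : Set G) = K ⊔ N := by
          refine le_antisymm ?_ (sup_le (le_inf hKH (le_sup_left.trans Subgroup.le_normalizer))
            (le_inf hNH fun x hx => ?_))
          · rintro x ⟨hxH, hxN⟩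
            obtain ⟨t, ht, htx⟩ := sylow_conj S (T := K ⊔ (S : Subgroup G)) le_sup_right (x := x)
              fun s hs => (Subgroup.mem_normalizer_iff.1 hxN s).1 (Subgroup.mem_sup_right hs)
            have htK : t ∈ K ⊔ N := sup_le_sup_left hSN K ht
            have htxH : t * x ∈ H := H.mul_mem (sup_le hKH hSH ht) hxH
            have := mul_mem (inv_mem htK) (Subgroup.mem_sup_right (hMN' ⟨htxH, htx⟩) : _ ∈ K ⊔ N)
            rwa [inv_mul_cancel_left] at this
          · have : K ⊔ (S : Subgroup G) = K ⊔ P := by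
              rw [hP, ← sup_assoc, sup_eq_left.2 hLK.le]
            rw [this]
            exact Subgroup.normalizer_inf_normalizer_le_normalizer_sup K P ⟨hHK hx.1, hx.2⟩
        rw [hN']
        exact transfer' S hS hPN hCN le_sup_right (hNH.trans hHK) (hNH.trans hHL) inf_le_right hKN η (Φ η hη)
          hηR (hΦR η hη) hηd (hΦd η hη) (hΦmu η hη)

end Cfsg.Agent.OW
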