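import Cfsg.Agent.Lib.OW.Cyclic
import Cfsg.Agent.Lib.Coprime.Basic

/-!
* `Setting`: a group `R` with `R / L` a `p`-group acting on `K / L` of order prime to `p`, `C` the fixed group
* `exists_cyc`, `sum_coset`
* `unique_down`, `unique_up`: the cyclic step of the Glauberman correspondence
-/

set_option autoImplicit false
set_option linter.unusedSectionVars false

namespace Cfsg.Agent.OW

open Cfsg Cfsg.Agent.Char
open scoped ComplexConjugate

attribute [local instance 2000] Fintype.ofFinite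

variable {G : Type*} [Group G] [Finite G]

/-- `C / L` is the fixed group of the `p`-group `R / L` on the `p'`-group `K / L`. -/
structure Setting (p : ℕ) (K L R C : Subgroup G) : Prop where
  LK : L ≤ K
  LR : L ≤ R
  KL : K ≤ Subgroup.normalizer (L : Set G)
  RL : R ≤ Subgroup.normalizer (L : Set G)
  RK : R ≤ Subgroup.normalizer (K : Set G)
  idx : ¬ p ∣ L.relIndex K
  pR : ∀ r ∈ R, ∃ n : ℕ, r ^ p ^ n ∈ L
  mem : ∀ k : G, k ∈ C ↔ k ∈ K ∧ ∀ r ∈ R, r * k * r⁻¹ * k⁻¹ ∈ L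

variable {p : ℕ} [hp : Fact p.Prime] {K L R C : Subgroup G}

/-- Modulo `L`, inside its normaliser. -/
abbrev modL (L : Subgroup G) :
    ↥(Subgroup.normalizer (L : Set G)) →* ↥(Subgroup.normalizer (L : Set G)) ⧸ L.subgroupOf (Subgroup.normalizer (L : Set G)) :=
  QuotientGroup.mk' _

theorem modL_eq_one (L : Subgroup G) (x : ↥(Subgroup.normalizer (L : Set G))) : modL L x = 1 ↔ (x : G) ∈ L :=
  (QuotientGroup.eq_one_iff x).trans Subgroup.mem_subgroupOf

theorem modL_comm_iff {L : Subgroup G} (a b : ↥(Subgroup.normalizer (L : Set G))) :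
    modL L a * modL L b = modL L b * modL L a ↔ (a : G) * b * (a : G)⁻¹ * (b : G)⁻¹ ∈ L := by
  rw [← map_mul, ← map_mul, ← mul_inv_eq_one, ← map_inv, ← map_mul, modL_eq_one,
    show ((a * b * (b * a)⁻¹ : ↥(Subgroup.normalizer (L : Set G))) : G) = (a : G) * b * (a : G)⁻¹ * (b : G)⁻¹ by
      push_cast; group]

theorem Setting.le (h : Setting p K L R C) : C ≤ K := fun _ hk => ((h.mem _).1 hk).1

theorem Setting.comm (h : Setting p K L R C) {r c : G} (hr : r ∈ R) (hc : c ∈ C) :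
    r * c * r⁻¹ * c⁻¹ ∈ L := ((h.mem c).1 hc).2 r hr

theorem Setting.LC (h : Setting p K L R C) : L ≤ C := fun l hl => (h.mem l).2
  ⟨h.LK hl, fun r hr => L.mul_mem ((Subgroup.mem_normalizer_iff.1 (h.RL hr) l).1 hl) (L.inv_mem hl)⟩

theorem Setting.CL (h : Setting p K L R C) : C ≤ Subgroup.normalizer (L : Set G) := h.le.trans h.KL

theorem Setting.RC (h : Setting p K L R C) : R ≤ Subgroup.normalizer (C : Set G) := by
  intro r hr
  refine Coprime.mem_normalizer_of_forall fun c hc => ?_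
  have := C.mul_mem (h.LC (h.comm hr hc)) hc
  simpa [mul_assoc] using this

theorem Setting.CR (h : Setting p K L R C) : C ≤ Subgroup.normalizer (R : Set G) := by
  intro c hc
  refine Coprime.mem_normalizer_of_forall fun r hr => ?_
  have := R.mul_mem (R.inv_mem (h.LR (h.comm hr hc))) hr
  simpa [mul_assoc] using this

theorem Setting.relIndex_R (h : Setting p K L R C) : ∃ k, L.relIndex R ∣ p ^ k := by
  haveI : (L.subgroupOf R).Normal := (Subgroup.normal_subgroupOf_iff_le_normalizer h.LR).2 h.RL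
  have hpg : IsPGroup p (↥R ⧸ L.subgroupOf R) := fun x => by
    induction x using QuotientGroup.induction_on with
    | H r =>
      obtain ⟨n, hn⟩ := h.pR r r.2
      refine ⟨n, ?_⟩
      rw [← QuotientGroup.mk_pow, QuotientGroup.eq_one_iff, Subgroup.mem_subgroupOf]
      simpa using hn
  obtain ⟨k, hk⟩ := IsPGroup.iff_card.1 hpg
  exact ⟨k, by rw [Subgroup.relIndex, Subgroup.index_eq_card, hk]⟩

theorem Setting.idxC (h : Setting p K L R C) : ¬ p ∣ L.relIndex C := fun hd =>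
  h.idx (hd.trans (Dvd.intro (C.relIndex K) (Subgroup.relIndex_mul_relIndex L C K h.LC h.le)))

theorem Setting.idxKC (h : Setting p K L R C) : ¬ p ∣ C.relIndex K := fun hd =>
  h.idx (hd.trans (Dvd.intro_left _ (Subgroup.relIndex_mul_relIndex L C K h.LC h.le)))

theorem exists_cyc {K : Subgroup G} {s : G} (hs : s ∈ Subgroup.normalizer (K : Set G)) :
    ∃ q, Cyc K (K ⊔ Subgroup.zpowers s) s q := by
  have hz : Subgroup.zpowers s ≤ Subgroup.normalizer (K : Set G) := Subgroup.zpowers_le.2 hs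
  haveI : (K.subgroupOf (Subgroup.normalizer (K : Set G))).Normal := Subgroup.normal_in_normalizer
  refine ⟨orderOf (modL K ⟨s, hs⟩),
    { le := le_sup_left
      norm := sup_le Subgroup.le_normalizer hz
      mem := Subgroup.mem_sup_right (Subgroup.mem_zpowers s)
      gen := fun g hg => ?_
      pow := fun i => ?_ }⟩
  · obtain ⟨k, hk, z, hz', rfl⟩ := (Coprime.mem_sup_iff hz).1 hg
    rw [← (isOfFinOrder_of_finite s).mem_powers_iff_mem_zpowers] at hz'
    obtain ⟨i, rfl⟩ := hz'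
    exact ⟨i, by simpa using hk⟩
  · rw [orderOf_dvd_iff_pow_eq_one, ← map_pow, modL_eq_one]
    simp

variable {M : Subgroup G} {s : G} {q : ℕ}

theorem Cyc.sub (h : Cyc K M s q) {C : Subgroup G} (hCK : C ≤ K) (hs : s ∈ Subgroup.normalizer (C : Set G))
    (hsC : ∀ i : ℕ, s ^ i ∈ K → s ^ i ∈ C) : Cyc C (C ⊔ Subgroup.zpowers s) s q := by
  obtain ⟨q', hq'⟩ := exists_cyc hs
  have : q' = q := by
    refine Nat.dvd_antisymm ((hq'.pow q).1 (hsC q ((h.pow q).2 dvd_rfl))) ((h.pow q').1 ?_)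
    exact hCK ((hq'.pow q').2 dvd_rfl)
  exact this ▸ hq'

/-- A coset sum reduces to the fixed subgroup. -/
theorem sum_coset {K C : Subgroup G} (hCK : C ≤ K) {t : G} (hK : ∀ k ∈ K, t * k * t⁻¹ ∈ K)
    (hinj : ∀ k ∈ K, ∀ c ∈ C, ∀ c' ∈ C, k * (c * t) * k⁻¹ = c' * t → k ∈ C) {F : G → ℂ}
    (hF : ∀ k ∈ K, ∀ c ∈ C, F (k * (c * t) * k⁻¹) = F (c * t)) :
    (Nat.card ↥C : ℂ) * ∑ k : ↥K, F (k * t) = (Nat.card ↥K : ℂ) * ∑ c : ↥C, F (c * t) := by
  classical
  let Φ : ↥K × ↥C → ↥K := fun x => ⟨(x.1 : G) * (x.2 * t) * (x.1 : G)⁻¹ * t⁻¹, by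
    have := K.mul_mem (K.mul_mem x.1.2 (hCK x.2.2)) (hK _ (K.inv_mem x.1.2))
    simpa [mul_assoc] using this⟩
  have hle : ∀ y : ↥K, ((Finset.univ ×ˢ Finset.univ).filter fun x => Φ x = y).card ≤ Fintype.card ↥C := by
    intro y
    by_cases hne : ((Finset.univ ×ˢ Finset.univ).filter fun x => Φ x = y).Nonempty
    · obtain ⟨x₀, hx₀⟩ := hne
      rw [Finset.mem_filter] at hx₀
      refine Finset.card_le_card_of_injOn
        (fun x => if hx : (x₀.1 : G)⁻¹ * x.1 ∈ C then (⟨_, hx⟩ : ↥C) else 1) (fun _ _ => Finset.mem_univ _) ?_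
      intro x hx x' hx' e
      have hmem : ∀ x ∈ ((Finset.univ ×ˢ Finset.univ).filter fun x => Φ x = y), (x₀.1 : G)⁻¹ * x.1 ∈ C := by
        intro x hx
        have h1 := congrArg Subtype.val ((Finset.mem_filter.1 hx).2.trans hx₀.2.symm)
        simp only [Φ, mul_left_inj] at h1
        refine hinj _ (K.mul_mem (K.inv_mem x₀.1.2) x.1.2) x.2 x.2.2 x₀.2 x₀.2.2 ?_
        calc _ = (x₀.1 : G)⁻¹ * ((x.1 : G) * (x.2 * t) * (x.1 : G)⁻¹) * x₀.1 := by group
          _ = _ := by rw [h1]; group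
      simp only [dif_pos (hmem x hx), dif_pos (hmem x' hx'), Subtype.mk.injEq, mul_right_inj] at e
      have h1 := congrArg Subtype.val
        (((Finset.mem_filter.1 hx).2).trans (Finset.mem_filter.1 hx').2.symm)
      simp only [Φ, e, mul_left_inj, mul_right_inj] at h1
      exact Prod.ext (Subtype.ext e) (Subtype.ext h1)
    · rw [Finset.not_nonempty_iff_eq_empty.1 hne]; exact Nat.zero_le _
  have hfib : ∀ y : ↥K, ((Finset.univ ×ˢ Finset.univ).filter fun x => Φ x = y).card = Fintype.card ↥C := by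
    intro y
    refine le_antisymm (hle y) (not_lt.1 fun hlt => ?_)
    have h1 := Finset.card_eq_sum_card_fiberwise
      (f := Φ) (s := (Finset.univ : Finset ↥K) ×ˢ (Finset.univ : Finset ↥C)) (t := Finset.univ)
      fun _ _ => Finset.mem_univ _
    have h2 := Finset.sum_lt_sum (fun y _ => hle y) ⟨y, Finset.mem_univ y, hlt⟩
    rw [← h1, Finset.card_product, Finset.card_univ, Finset.card_univ, Finset.sum_const, Finset.card_univ,
      smul_eq_mul] at h2
    exact lt_irrefl _ h2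
  have h3 := Finset.sum_fiberwise ((Finset.univ : Finset ↥K) ×ˢ (Finset.univ : Finset ↥C)) Φ fun x => F ((Φ x : G) * t)
  have hleft : ∀ y : ↥K, ∑ x ∈ (Finset.univ ×ˢ Finset.univ).filter (fun x => Φ x = y), F ((Φ x : G) * t) =
      (Nat.card ↥C : ℂ) * F (y * t) := fun y => by
    rw [Finset.sum_congr rfl fun x hx => by rw [(Finset.mem_filter.1 hx).2], Finset.sum_const, hfib,
      nsmul_eq_mul, Nat.card_eq_fintype_card]
  have hright : ∀ x : ↥K × ↥C, F ((Φ x : G) * t) = F (x.2 * t) := fun x => by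
    rw [show (Φ x : G) * t = (x.1 : G) * (x.2 * t) * (x.1 : G)⁻¹ from inv_mul_cancel_right _ _]
    exact hF _ x.1.2 _ x.2.2
  simp only [hleft, ← Finset.mul_sum] at h3
  rw [h3, Finset.sum_congr rfl fun x _ => hright x, Finset.sum_product]
  simp [Nat.card_eq_fintype_card]

/-- The conditions of the cyclic step. -/
structure StepData (p : ℕ) (K L C : Subgroup G) (s : G) : Prop where
  LK : L ≤ K
  KL : K ≤ Subgroup.normalizer (L : Set G)
  sL : s ∈ Subgroup.normalizer (L : Set G)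
  sK : s ∈ Subgroup.normalizer (K : Set G)
  nsK : s ∉ K
  idx : ¬ p ∣ L.relIndex K
  ps : ∃ n : ℕ, s ^ p ^ n ∈ L
  mem : ∀ k : G, k ∈ C ↔ k ∈ K ∧ s * k * s⁻¹ * k⁻¹ ∈ L

theorem pow_eq_pow_of_modEq_aux {H : Type*} [Monoid H] {x : H} {n a b : ℕ} (hx : x ^ n = 1)
    (hab : a ≡ b [MOD n]) : x ^ a = x ^ b := by
  rw [pow_eq_pow_mod a hx, pow_eq_pow_mod b hx, show a % n = b % n from hab]

namespace StepData

variable (h : StepData p K L C s)
include h

theorem le : C ≤ K := fun _ hk => ((h.mem _).1 hk).1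

theorem sC : s ∈ Subgroup.normalizer (C : Set G) := by
  refine Coprime.mem_normalizer_of_forall fun c hc => ?_
  obtain ⟨hcK, hcs⟩ := (h.mem c).1 hc
  refine (h.mem _).2 ⟨(Subgroup.mem_normalizer_iff.1 h.sK c).1 hcK, ?_⟩
  have := (Subgroup.mem_normalizer_iff.1 h.sL _).1 hcs
  convert this using 1; group

theorem exists_cycs : ∃ b : ℕ, Cyc K (K ⊔ Subgroup.zpowers s) s (p ^ (b + 1)) ∧
    Cyc C (C ⊔ Subgroup.zpowers s) s (p ^ (b + 1)) := by
  obtain ⟨q, hq⟩ := exists_cyc h.sK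
  obtain ⟨n, hn⟩ := h.ps
  obtain ⟨b, -, hb⟩ := (Nat.dvd_prime_pow hp.out).1 ((hq.pow _).1 (h.LK hn))
  obtain _ | b := b
  · exact absurd ((pow_one s) ▸ (hq.pow 1).2 (by rw [hb, pow_zero])) h.nsK
  subst hb
  refine ⟨b, hq, hq.sub h.le h.sC fun i hi => (h.mem _).2 ⟨hi, ?_⟩⟩
  rw [show s * s ^ i * s⁻¹ * (s ^ i)⁻¹ = 1 by group]
  exact L.one_mem

theorem inj {i : ℕ} (hi : ¬ p ∣ i) {k c c' : G} (hk : k ∈ K) (hc : c ∈ C) (hc' : c' ∈ C)
    (he : k * (c * s ^ i) * k⁻¹ = c' * s ^ i) : k ∈ C := by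
  obtain ⟨n, hn⟩ := h.ps
  set r := L.relIndex K
  haveI : (L.subgroupOf K).Normal := (Subgroup.normal_subgroupOf_iff_le_normalizer h.LK).2 h.KL
  have hcop : r.Coprime (p ^ n) := (hp.out.coprime_iff_not_dvd.2 h.idx).symm.pow_right n
  obtain ⟨N, hN1, hN2⟩ := Nat.chineseRemainder hcop 0 1
  have hicop : i.Coprime (p ^ n) := (hp.out.coprime_iff_not_dvd.2 hi).symm.pow_right n
  obtain ⟨m, -, hm⟩ := Nat.exists_mul_mod_eq_of_coprime 1 hicop (pow_ne_zero n hp.out.ne_zero)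
  set S := modL L ⟨s, h.sL⟩ with hS
  have hSn : S ^ p ^ n = 1 := by rw [hS, ← map_pow, modL_eq_one]; simpa using hn
  have hKpow : ∀ x (hx : x ∈ K), modL L ⟨x, h.KL hx⟩ ^ N = 1 := by
    intro x hx
    rw [← map_pow, modL_eq_one, Subgroup.coe_pow]
    obtain ⟨d, hd⟩ := (Nat.modEq_zero_iff_dvd).1 hN1
    have := Subgroup.pow_index_mem (L.subgroupOf K) ⟨x, hx⟩
    rw [Subgroup.mem_subgroupOf] at this
    rw [hd, pow_mul]
    simp only [Subgroup.coe_pow] at this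
    exact L.pow_mem this d
  have hcomm : ∀ x (hx : x ∈ C), Commute (modL L ⟨x, h.KL (h.le hx)⟩) S := fun x hx =>
    ((modL_comm_iff ⟨s, h.sL⟩ ⟨x, h.KL (h.le hx)⟩).2 ((h.mem x).1 hx).2).symm
  have hval : ∀ x (hx : x ∈ C), (modL L ⟨x, h.KL (h.le hx)⟩ * S ^ i) ^ N = S ^ i := fun x hx => by
    rw [((hcomm x hx).pow_right i).mul_pow, hKpow x (h.le hx), one_mul, ← pow_mul]
    rw [show S ^ (i * N) = S ^ i from pow_eq_pow_of_modEq_aux hSn
      (by simpa using hN2.mul_left i)]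
  have hconj : modL L ⟨k, h.KL hk⟩ * (modL L ⟨c, h.KL (h.le hc)⟩ * S ^ i) * (modL L ⟨k, h.KL hk⟩)⁻¹ =
      modL L ⟨c', h.KL (h.le hc')⟩ * S ^ i := by
    rw [hS, ← map_pow, ← map_mul, ← map_mul, ← map_inv, ← map_mul, ← map_mul]
    congr 1
    exact Subtype.ext (by simpa using he)
  have h2 := congrArg (· ^ N) hconj
  simp only [conj_pow, hval c hc, hval c' hc'] at h2
  have h3 : Commute (modL L ⟨k, h.KL hk⟩) (S ^ i) := by
    rw [mul_inv_eq_iff_eq_mul] at h2; exact h2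
  refine (h.mem k).2 ⟨hk, (modL_comm_iff ⟨s, h.sL⟩ ⟨k, h.KL hk⟩).1 ?_⟩
  have hS' : (S ^ i) ^ m = S := by
    conv_rhs => rw [← pow_one S]
    rw [← pow_mul]
    exact pow_eq_pow_of_modEq_aux hSn (by
      exact hm)
  have := h3.pow_right m
  rw [hS'] at this
  exact this.symm.eq

theorem sum_coset' {i : ℕ} (hi : ¬ p ∣ i) {F : G → ℂ}
    (hF : ∀ k ∈ K, ∀ c ∈ C, F (k * (c * s ^ i) * k⁻¹) = F (c * s ^ i)) :
    (Nat.card ↥C : ℂ) * ∑ k : ↥K, F (k * s ^ i) = (Nat.card ↥K : ℂ) * ∑ c : ↥C, F (c * s ^ i) :=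
  sum_coset h.le (fun k hk => (Subgroup.mem_normalizer_iff.1 (pow_mem h.sK i) k).1 hk)
    (fun _ hk _ hc _ hc' => h.inj hi hk hc hc') hF

/-- The pairing of two extensions on the coset of `s ^ i`. -/
theorem card_mul_csum {i : ℕ} (hi : ¬ p ∣ i) (lam lam' : IrrCharacter ↥(K ⊔ Subgroup.zpowers s)) :
    (Nat.card ↥C : ℂ) * csum K (s ^ i) (E lam) (E lam') = (Nat.card ↥K : ℂ) * csum C (s ^ i) (E lam) (E lam') := by
  refine h.sum_coset' hi (F := fun g => E lam g * conj (E lam' g)) fun k hk c hc => ?_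
  have hk' : k ∈ K ⊔ Subgroup.zpowers s := Subgroup.mem_sup_left hk
  have hc' : c * s ^ i ∈ K ⊔ Subgroup.zpowers s :=
    mul_mem (Subgroup.mem_sup_left (h.le hc)) (pow_mem (Subgroup.mem_sup_right (Subgroup.mem_zpowers s)) i)
  show E lam _ * conj (E lam' _) = E lam _ * conj (E lam' _)
  rw [E_conj lam hk' hc', E_conj lam' hk' hc']

theorem exists_ext_s {C : Subgroup G} {q : ℕ} (hc : Cyc C (C ⊔ Subgroup.zpowers s) s q)
    (φ : IrrCharacter ↥C) (hφ : Fix (Subgroup.zpowers s) C (E φ)) :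
    ∃ lam : IrrCharacter ↥(C ⊔ Subgroup.zpowers s), ∀ g ∈ C, E lam g = E φ g :=
  exists_ext hc.le hc.norm hc.mem hc.gen φ
    ((fix_of_le φ le_rfl).sup Subgroup.le_normalizer (le_sup_right.trans hc.norm) hφ)

theorem norm_ge {b : ℕ} (hM : Cyc K (K ⊔ Subgroup.zpowers s) s (p ^ (b + 1)))
    (hM' : Cyc C (C ⊔ Subgroup.zpowers s) s (p ^ (b + 1))) {χ : IrrCharacter ↥K} {φ : IrrCharacter ↥C}
    {lam : IrrCharacter ↥(K ⊔ Subgroup.zpowers s)} (hlam : ∀ g ∈ K, E lam g = E χ g)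
    {mlam : IrrCharacter ↥(C ⊔ Subgroup.zpowers s)} (hmlam : ∀ g ∈ C, E mlam g = E φ g)
    (hp' : ¬ p ∣ mu C (E χ) (E φ)) :
    ((p ^ (b + 1)).totient : ℝ) * (Nat.card ↥C : ℝ) ^ 2 ≤
      ∑ i ∈ (Finset.range (p ^ (b + 1))).filter (fun i => i.Coprime (p ^ (b + 1))),
        ‖csum C (s ^ i) (E lam) (E mlam)‖ ^ 2 := by
  have hlamch : IsCh (C ⊔ Subgroup.zpowers s) (E lam) :=
    (isCh_E lam).mono (sup_le_sup_right h.le _)
  set a : ℕ → ℕ := fun j => mu (C ⊔ Subgroup.zpowers s) (hM'.tw j (E lam)) (E mlam) with ha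
  have hsum : mu C (E χ) (E φ) = ∑ j ∈ Finset.range (p ^ (b + 1)), a j := by
    rw [← hM'.mu_eq_sum hlamch (isCh_E mlam), mu, mu,
      ip_congr (fun g hg => (hlam g (h.le hg)).symm) fun g hg => (hmlam g hg).symm]
  have hnum := totient_le_sum_norm hp.out (zeta_prim hM.ne_zero) a (hsum ▸ hp')
  have hval : ∀ i : ℕ, ‖csum C (s ^ i) (E lam) (E mlam)‖ ^ 2 = (Nat.card ↥C : ℝ) ^ 2 *
      ‖∑ j ∈ Finset.range (p ^ (b + 1)), (a j : ℂ) * zeta (p ^ (b + 1)) ^ (j * i)‖ ^ 2 := by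
    intro i
    rw [hM'.csum_eq (pow_mem hM'.mem i)]
    simp only [fun j => mu_spec (hM'.isCh_tw j hlamch) (isCh_E mlam), hM'.ch_pow]
    rw [norm_mul, Complex.norm_natCast, mul_pow]
    congr 2
    rw [← Complex.norm_conj, map_sum]
    congr 1
    refine Finset.sum_congr rfl fun j _ => ?_
    rw [map_mul, Complex.conj_conj, Complex.conj_natCast, mul_comm i j, mul_comm]
  rw [Finset.sum_congr rfl fun i _ => hval i, ← Finset.mul_sum, mul_comm]
  exact mul_le_mul_of_nonneg_left hnum (sq_nonneg _)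

theorem sum_norm_le_absurd {b : ℕ} {x y : ℕ → ℝ}
    (hx : ((p ^ (b + 1)).totient : ℝ) * (Nat.card ↥C : ℝ) ^ 2 ≤
      ∑ i ∈ (Finset.range (p ^ (b + 1))).filter (fun i => i.Coprime (p ^ (b + 1))), x i)
    (hy : ((p ^ (b + 1)).totient : ℝ) * (Nat.card ↥C : ℝ) ^ 2 ≤
      ∑ i ∈ (Finset.range (p ^ (b + 1))).filter (fun i => i.Coprime (p ^ (b + 1))), y i)
    (hxy : ∀ i, ¬ p ∣ i → x i + y i ≤ (Nat.card ↥C : ℝ) ^ 2) : False := by
  have _ := h.LK
  have h1 : ∑ i ∈ (Finset.range (p ^ (b + 1))).filter (fun i => i.Coprime (p ^ (b + 1))), (x i + y i) ≤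
      ((p ^ (b + 1)).totient : ℝ) * (Nat.card ↥C : ℝ) ^ 2 := by
    refine (Finset.sum_le_sum fun i hi => hxy i fun hd => ?_).trans (le_of_eq ?_)
    · exact Nat.not_coprime_of_dvd_of_dvd hp.out.one_lt hd (dvd_pow_self p (Nat.succ_ne_zero b))
        (Finset.mem_filter.1 hi).2
    · rw [Finset.sum_const, nsmul_eq_mul]
      congr 2
      rw [Nat.totient]
      exact congrArg Finset.card (Finset.filter_congr fun i _ => Nat.coprime_comm)
  rw [Finset.sum_add_distrib] at h1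
  have hpos : 0 < ((p ^ (b + 1)).totient : ℝ) * (Nat.card ↥C : ℝ) ^ 2 :=
    mul_pos (Nat.cast_pos.2 (Nat.totient_pos.2 (pow_pos hp.out.pos _)))
      (pow_pos (Nat.cast_pos.2 Nat.card_pos) 2)
  linarith

theorem unique_down (χ : IrrCharacter ↥K) (hχ : Fix (Subgroup.zpowers s) K (E χ)) (φ φ' : IrrCharacter ↥C)
    (hφ : Fix (Subgroup.zpowers s) C (E φ)) (hφ' : Fix (Subgroup.zpowers s) C (E φ'))
    (h1 : ¬ p ∣ mu C (E χ) (E φ)) (h2 : ¬ p ∣ mu C (E χ) (E φ')) : φ = φ' := by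
  by_contra hne
  obtain ⟨b, hM, hM'⟩ := h.exists_cycs
  obtain ⟨lam, hlam⟩ := h.exists_ext_s hM χ hχ
  obtain ⟨m₁, hm₁⟩ := h.exists_ext_s hM' φ hφ
  obtain ⟨m₂, hm₂⟩ := h.exists_ext_s hM' φ' hφ'
  refine h.sum_norm_le_absurd (h.norm_ge hM hM' hlam hm₁ h1) (h.norm_ge hM hM' hlam hm₂ h2) fun i hi => ?_
  have hC : (0 : ℝ) < (Nat.card ↥C : ℝ) := Nat.cast_pos.2 Nat.card_pos
  let u : Fin 2 → ↥C → ℂ := ![fun c => E m₁ (c * s ^ i), fun c => E m₂ (c * s ^ i)]
  have horth : ∀ a l, ∑ c, u a c * conj (u l c) = if a = l then ((Nat.card ↥C : ℝ) : ℂ) else 0 := by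
    intro a l
    fin_cases a <;> fin_cases l <;>
      simp only [u, Fin.zero_eta, Fin.mk_one, Matrix.cons_val_zero, Matrix.cons_val_one,
        Complex.ofReal_natCast, if_pos, if_neg, Fin.zero_ne_one, one_ne_zero, Fin.isValue]
    · exact hM'.csum_ext_self hm₁ (pow_mem hM'.mem i)
    · exact hM'.csum_ext_ne hm₁ hm₂ hne (pow_mem hM'.mem i)
    · simpa [csum] using hM'.csum_ext_ne hm₂ hm₁ (Ne.symm hne) (pow_mem hM'.mem i)
    · exact hM'.csum_ext_self hm₂ (pow_mem hM'.mem i)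
  have hb := bessel u (fun c => E lam (c * s ^ i)) hC horth
  have hv : ∑ c : ↥C, ‖E lam (c * s ^ i)‖ ^ 2 = (Nat.card ↥C : ℝ) := by
    apply Complex.ofReal_injective
    push_cast
    simp only [← Complex.mul_conj']
    have := h.card_mul_csum hi lam lam
    rw [hM.csum_ext_self hlam (pow_mem hM.mem i), mul_comm] at this
    exact (mul_left_cancel₀ (Nat.cast_ne_zero.2 Nat.card_pos.ne') this).symm
  rw [hv, Fin.sum_univ_two, ← sq] at hb
  exact hb

theorem unique_up (χ χ' : IrrCharacter ↥K) (hχ : Fix (Subgroup.zpowers s) K (E χ))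
    (hχ' : Fix (Subgroup.zpowers s) K (E χ')) (φ : IrrCharacter ↥C) (hφ : Fix (Subgroup.zpowers s) C (E φ))
    (h1 : ¬ p ∣ mu C (E χ) (E φ)) (h2 : ¬ p ∣ mu C (E χ') (E φ)) : χ = χ' := by
  by_contra hne
  obtain ⟨b, hM, hM'⟩ := h.exists_cycs
  obtain ⟨l₁, hl₁⟩ := h.exists_ext_s hM χ hχ
  obtain ⟨l₂, hl₂⟩ := h.exists_ext_s hM χ' hχ'
  obtain ⟨m, hm⟩ := h.exists_ext_s hM' φ hφ
  refine h.sum_norm_le_absurd (h.norm_ge hM hM' hl₁ hm h1) (h.norm_ge hM hM' hl₂ hm h2) fun i hi => ?_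
  have hC : (0 : ℝ) < (Nat.card ↥C : ℝ) := Nat.cast_pos.2 Nat.card_pos
  have hKc : (Nat.card ↥K : ℂ) ≠ 0 := Nat.cast_ne_zero.2 Nat.card_pos.ne'
  have hself : ∀ {θ : IrrCharacter ↥K} {l : IrrCharacter ↥(K ⊔ Subgroup.zpowers s)},
      (∀ g ∈ K, E l g = E θ g) → csum C (s ^ i) (E l) (E l) = Nat.card ↥C := by
    intro θ l hl
    have := h.card_mul_csum hi l l
    rw [hM.csum_ext_self hl (pow_mem hM.mem i), mul_comm] at this
    exact (mul_left_cancel₀ hKc this).symm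
  have hoff : ∀ {θ θ' : IrrCharacter ↥K} {l l' : IrrCharacter ↥(K ⊔ Subgroup.zpowers s)},
      (∀ g ∈ K, E l g = E θ g) → (∀ g ∈ K, E l' g = E θ' g) → θ ≠ θ' →
        csum C (s ^ i) (E l) (E l') = 0 := by
    intro θ θ' l l' hl hl' hθ
    have := h.card_mul_csum hi l l'
    rw [hM.csum_ext_ne hl hl' hθ (pow_mem hM.mem i), mul_zero] at this
    exact (mul_eq_zero.1 this.symm).resolve_left hKc
  let u : Fin 2 → ↥C → ℂ := ![fun c => E l₁ (c * s ^ i), fun c => E l₂ (c * s ^ i)]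
  have horth : ∀ a l, ∑ c, u a c * conj (u l c) = if a = l then ((Nat.card ↥C : ℝ) : ℂ) else 0 := by
    intro a l
    fin_cases a <;> fin_cases l <;>
      simp only [u, Fin.zero_eta, Fin.mk_one, Matrix.cons_val_zero, Matrix.cons_val_one,
        Complex.ofReal_natCast, if_pos, if_neg, Fin.zero_ne_one, one_ne_zero, Fin.isValue]
    · exact hself hl₁
    · exact hoff hl₁ hl₂ hne
    · simpa [csum] using hoff hl₂ hl₁ (Ne.symm hne)
    · exact hself hl₂
  have hb := bessel u (fun c => E m (c * s ^ i)) hC horth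
  have hv : ∑ c : ↥C, ‖E m (c * s ^ i)‖ ^ 2 = (Nat.card ↥C : ℝ) := by
    apply Complex.ofReal_injective
    push_cast
    simp only [← Complex.mul_conj']
    exact hM'.csum_ext_self hm (pow_mem hM'.mem i)
  have hswap : ∀ l : IrrCharacter ↥(K ⊔ Subgroup.zpowers s),
      ‖∑ c : ↥C, E m (c * s ^ i) * conj (E l (c * s ^ i))‖ = ‖csum C (s ^ i) (E l) (E m)‖ := fun l => by
    rw [← Complex.norm_conj, map_sum, csum]
    congr 1
    exact Finset.sum_congr rfl fun c _ => by rw [map_mul, Complex.conj_conj, mul_comm]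
  rw [hv, Fin.sum_univ_two, ← sq] at hb
  simp only [u, Matrix.cons_val_zero, Matrix.cons_val_one, hswap] at hb
  exact hb

end StepData

end Cfsg.Agent.OW
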