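import Cfsg.Agent.Lib.OW.Fibre
import Cfsg.Agent.Lib.CharExtend.DetExt
import Cfsg.Agent.Lib.CentralChar.Twist

/-!
Extensions as a torsor.

* `exists_twist_ext`, `twist_ext`, `twist_inj`
* `exists_fixed_ext`: a coprime group fixing `θ` fixes an extension
* `mackey_mu`
-/

set_option autoImplicit false
set_option linter.unusedSectionVars false

namespace Cfsg.Agent.OW

open Cfsg Cfsg.Agent.Char
open scoped ComplexConjugate

attribute [local instance 2000] Fintype.ofFinite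

variable {G : Type*} [Group G] [Finite G]

/-- The twist of an extension. -/
theorem twist_ext {K M : Subgroup G} (hKM : K ≤ M) {θ : IrrCharacter ↥K} {lam : IrrCharacter ↥M}
    (hlam : ∀ k ∈ K, E lam k = E θ k) (l : ↥M →* ℂˣ) (hl : ∀ x : ↥M, (x : G) ∈ K → l x = 1) :
    ∃ lam' : IrrCharacter ↥M, (∀ x : ↥M, E lam' x = E lam x * (l x : ℂ)) ∧ ∀ k ∈ K, E lam' k = E θ k := by
  refine ⟨⟨_, IsIrrCharacter.mul_linear lam.2 ((Units.coeHom ℂ).comp l)⟩, fun x => ?_, fun k hk => ?_⟩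
  · rw [E_coe, E_coe]; rfl
  · rw [E_of_mem _ (hKM hk)]
    show (lam : ↥M → ℂ) ⟨k, hKM hk⟩ * (l ⟨k, hKM hk⟩ : ℂ) = _
    rw [hl _ hk, Units.val_one, mul_one, ← E_of_mem lam (hKM hk), hlam k hk]

theorem isIrr_restrict_ext {K M : Subgroup G} (hKM : K ≤ M) {θ : IrrCharacter ↥K} {lam : IrrCharacter ↥M}
    (hlam : ∀ k ∈ K, E lam k = E θ k) :
    IsIrrCharacter ↥(K.subgroupOf M) fun n : ↥(K.subgroupOf M) => (lam : ↥M → ℂ) n := by
  let e := Subgroup.subgroupOfEquivOfLe hKM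
  rw [show (fun n : ↥(K.subgroupOf M) => (lam : ↥M → ℂ) n) = fun n => (θ : ↥K → ℂ) (e n) from funext fun n => by
    rw [← E_coe lam n, hlam _ (Subgroup.mem_subgroupOf.1 n.2), ← E_coe θ (e n)]; rfl]
  exact IsIrrCharacter.comp_equiv θ.2 e

/-- Two extensions differ by a linear character. -/
theorem exists_twist_ext {K M : Subgroup G} (hKM : K ≤ M) (hn : M ≤ Subgroup.normalizer (K : Set G))
    {θ : IrrCharacter ↥K} {lam lam' : IrrCharacter ↥M} (hlam : ∀ k ∈ K, E lam k = E θ k)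
    (hlam' : ∀ k ∈ K, E lam' k = E θ k) :
    ∃ l : ↥M →* ℂˣ, (∀ x : ↥M, (x : G) ∈ K → l x = 1) ∧ ∀ x : ↥M, E lam' x = E lam x * (l x : ℂ) := by
  classical
  haveI : (K.subgroupOf M).Normal := (Subgroup.normal_subgroupOf_iff_le_normalizer hKM).2 hn
  obtain ⟨c, hc, hcψ⟩ := CentralChar.exists_linear_twist (K.subgroupOf M) lam.2 lam'.2
    (isIrr_restrict_ext hKM hlam) (fun x => by rw [← E_coe lam x, ← E_coe lam' x, hlam _ (Subgroup.mem_subgroupOf.1 x.2), hlam' _ (Subgroup.mem_subgroupOf.1 x.2)])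
  refine ⟨c.toHomUnits, fun x hx => Units.ext ?_, fun x => ?_⟩
  · exact hc x hx
  · rw [E_coe, E_coe, hcψ x, mul_comm]; rfl

/-- The twist determines the linear character. -/
theorem twist_inj {K M : Subgroup G} (hKM : K ≤ M) (hn : M ≤ Subgroup.normalizer (K : Set G))
    {θ : IrrCharacter ↥K} {lam : IrrCharacter ↥M} (hlam : ∀ k ∈ K, E lam k = E θ k)
    {l l' : ↥M →* ℂˣ} (hl : ∀ x : ↥M, (x : G) ∈ K → l x = 1) (hl' : ∀ x : ↥M, (x : G) ∈ K → l' x = 1)
    (h : ∀ x : ↥M, E lam x * (l x : ℂ) = E lam x * (l' x : ℂ)) : l = l' := by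
  classical
  haveI : (K.subgroupOf M).Normal := (Subgroup.normal_subgroupOf_iff_le_normalizer hKM).2 hn
  have := CharApp.gallagher_injective (K.subgroupOf M) lam.2 (isIrr_restrict_ext hKM hlam)
    (isIrrCharacter_of_hom ((Units.coeHom ℂ).comp l)) (isIrrCharacter_of_hom ((Units.coeHom ℂ).comp l'))
    (fun n => by
      show (l n : ℂ) = (l 1 : ℂ)
      rw [hl _ n.2, map_one])
    (fun n => by
      show (l' n : ℂ) = (l' 1 : ℂ)
      rw [hl' _ n.2, map_one])
    (funext fun x => by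
      show (lam : ↥M → ℂ) x * (l x : ℂ) = (lam : ↥M → ℂ) x * (l' x : ℂ)
      rw [← E_coe lam x]; exact h x)
  exact MonoidHom.ext fun x => Units.ext (congrFun this x)

theorem detChar_comp {A B : Type*} [Group A] [Finite A] [Group B] [Finite B] {χ : A → ℂ}
    (h : IsCharacter A χ) (f : B →* A) (x : B) : detChar (fun y => χ (f y)) x = detChar χ (f x) := by
  obtain ⟨n, ρ, rfl⟩ := h
  let σ : Representation ℂ B (Fin n → ℂ) := ρ.comp f
  rw [show (fun y => ρ.character (f y)) = σ.character from funext fun y => rfl,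
    CharExtend.detChar_character, CharExtend.detChar_character]
  rfl

variable {p : ℕ} [hp : Fact p.Prime]

/-- A group acting with index prime to `p` fixes an extension across a `p`-quotient. -/
theorem exists_fixed_ext {K M T : Subgroup G} (hKM : K ≤ M) (hn : M ≤ Subgroup.normalizer (K : Set G))
    (hMT : M ≤ T) (hTM : T ≤ Subgroup.normalizer (M : Set G)) (hTK : T ≤ Subgroup.normalizer (K : Set G))
    {θ : IrrCharacter ↥K} (hθ : Fix T K (E θ)) (hd : ¬ p ∣ deg θ) {a : ℕ} (hidx : K.relIndex M ∣ p ^ a)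
    (hidx' : ¬ p ∣ M.relIndex T) (hext : Extends θ M) :
    ∃ lam : IrrCharacter ↥M, (∀ k ∈ K, E lam k = E θ k) ∧ Fix T M (E lam) := by
  classical
  obtain ⟨lam1, hlam1⟩ := hext
  letI := irrAct hTM
  haveI : (K.subgroupOf M).Normal := (Subgroup.normal_subgroupOf_iff_le_normalizer hKM).2 hn
  let O : Finset (IrrCharacter ↥M) := Finset.univ.image fun t : ↥T => t • lam1
  have hextsmul : ∀ (t : ↥T) (lam : IrrCharacter ↥M), (∀ k ∈ K, E lam k = E θ k) →
      ∀ k ∈ K, E (t • lam) k = E θ k := by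
    intro t lam hl k hk
    have hk' : (t : G)⁻¹ * k * t ∈ K := by
      simpa using (Subgroup.mem_normalizer_iff.1 (inv_mem (hTK t.2)) k).1 hk
    show E (cjI _ lam) k = _
    rw [E_cjI, hl _ hk', ← hθ t t.2 _ hk']
    congr 1; group
  have hcard : ¬ p ∣ O.card := by
    have h1 : O.card = (MulAction.orbit (↥T) lam1).ncard := by
      rw [← Set.ncard_coe_finset]
      congr 1
      ext x
      simp [O, MulAction.orbit]
    rw [h1, ← MulAction.index_stabilizer]
    refine fun h2 => hidx' (h2.trans ?_)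
    refine Subgroup.index_dvd_of_le (H := M.subgroupOf T) fun x hx => ?_
    exact (cjI_eq_iff (hTM x.2) lam1).2 fun g hg => E_conj lam1 hx hg
  let dc : IrrCharacter ↥M → ↥M → ℂ := fun lam => detChar (lam : ↥M → ℂ)
  choose dl hdl using fun lam : IrrCharacter ↥M =>
    CharExtend.exists_detChar_eq (IsIrrCharacter.isCharacter lam.2)
  have hdlv : ∀ lam (x : ↥M), dc lam x = (dl lam x : ℂ) := fun lam x => congrFun (hdl lam) x
  have hdK : ∀ lam : IrrCharacter ↥M, (∀ k ∈ K, E lam k = E θ k) → ∀ x : ↥M, (x : G) ∈ K →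
      dl lam x = dl lam1 x := by
    intro lam hl x hx
    apply Units.ext
    rw [← hdlv, ← hdlv]
    have e1 := congrFun (CharExtend.detChar_restrict (IsIrrCharacter.isCharacter lam.2) (K.subgroupOf M)) ⟨x, hx⟩
    have e2 := congrFun (CharExtend.detChar_restrict (IsIrrCharacter.isCharacter lam1.2) (K.subgroupOf M)) ⟨x, hx⟩
    refine e1.symm.trans (Eq.trans (congrArg (fun f => detChar f (⟨x, hx⟩ : ↥(K.subgroupOf M))) ?_) e2)
    funext y
    rw [← E_coe lam y, ← E_coe lam1 y, hl _ (Subgroup.mem_subgroupOf.1 y.2), hlam1 _ (Subgroup.mem_subgroupOf.1 y.2)]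
  let D : ↥M →* ℂˣ := ∏ lam ∈ O, dl lam
  have hDapply : ∀ x : ↥M, D x = ∏ lam ∈ O, dl lam x := fun x => MonoidHom.finsetProd_apply dl O x
  have hO : ∀ lam ∈ O, ∀ k ∈ K, E lam k = E θ k := fun lam hl => by
    obtain ⟨t, -, rfl⟩ := Finset.mem_image.1 hl
    exact hextsmul t lam1 hlam1
  let ε : ↥M →* ℂˣ := D * (dl lam1 ^ O.card)⁻¹
  have hεK : ∀ x : ↥M, (x : G) ∈ K → ε x = 1 := by
    intro x hx
    show D x * (dl lam1 x ^ O.card)⁻¹ = 1
    rw [hDapply, Finset.prod_congr rfl fun lam hl => hdK lam (hO lam hl) x hx, Finset.prod_const, mul_inv_cancel]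
  have hpow : ∀ (l : ↥M →* ℂˣ), (∀ x : ↥M, (x : G) ∈ K → l x = 1) → ∀ x, l x ^ p ^ a = 1 := by
    intro l hl x
    obtain ⟨c, hc⟩ := hidx
    rw [← map_pow, hl _ ?_]
    rw [hc, pow_mul]
    have h1 := Subgroup.mem_subgroupOf.1 ((K.subgroupOf M).pow_mem
      (Subgroup.pow_index_mem (K.subgroupOf M) x) c)
    exact h1
  have hcop : (deg θ * O.card).Coprime (p ^ a) :=
    ((hp.out.coprime_iff_not_dvd.2 fun h => (hp.out.dvd_mul.1 h).elim hd hcard).symm).pow_right a
  obtain ⟨j, -, hj⟩ := Nat.exists_mul_mod_eq_of_coprime 1 hcop (pow_ne_zero a hp.out.ne_zero)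
  let δ : ↥M →* ℂˣ := ε ^ j
  have hδK : ∀ x : ↥M, (x : G) ∈ K → δ x = 1 := fun x hx => by
    show ε x ^ j = 1
    rw [hεK x hx, one_pow]
  obtain ⟨lam0, hlam0, hlam0θ⟩ := twist_ext hKM hlam1 δ hδK
  have hdtw : ∀ (lam lam' : IrrCharacter ↥M) (l : ↥M →* ℂˣ), (∀ k ∈ K, E lam k = E θ k) →
      (∀ x : ↥M, E lam' x = E lam x * (l x : ℂ)) → ∀ x, dl lam' x = dl lam x * l x ^ deg θ := by
    intro lam lam' l hl hll x
    apply Units.ext
    rw [Units.val_mul, Units.val_pow_eq_pow_val, ← hdlv, ← hdlv]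
    show detChar (lam' : ↥M → ℂ) x = detChar (lam : ↥M → ℂ) x * _
    rw [show (lam' : ↥M → ℂ) = (lam : ↥M → ℂ) * CharExtend.valHom ↥M l from funext fun y => by
      have := hll y
      rw [E_coe, E_coe] at this
      exact this]
    refine CharExtend.detChar_mul_valHom (IsIrrCharacter.isCharacter lam.2) ?_ l x
    rw [← E_coe lam 1, OneMemClass.coe_one, E_one, deg_of_ext hl]
  have hQ : ∀ x, dl lam0 x ^ O.card = D x := by
    intro x
    rw [hdtw lam1 lam0 δ hlam1 hlam0, mul_pow, ← pow_mul]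
    show dl lam1 x ^ O.card * (ε x ^ j) ^ (deg θ * O.card) = D x
    rw [← pow_mul, show ε x ^ (j * (deg θ * O.card)) = ε x ^ 1 from
      pow_eq_pow_of_modEq_aux (hpow ε hεK x) (by rw [mul_comm]; exact hj), pow_one]
    show dl lam1 x ^ O.card * (D x * (dl lam1 x ^ O.card)⁻¹) = D x
    rw [mul_left_comm, mul_inv_cancel, mul_one]
  refine ⟨lam0, hlam0θ, fun t ht => (cjI_eq_iff (hTM ht) lam0).1 ?_⟩
  -- uniqueness
  have hdeq : ∀ (s : ↥T) (lam : IrrCharacter ↥M) (x : ↥M),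
      dl (s • lam) x = dl lam ((conjEquiv (hTM s.2)).symm x) := by
    intro s lam x
    apply Units.ext
    rw [← hdlv, ← hdlv]
    exact detChar_comp (IsIrrCharacter.isCharacter lam.2) (conjEquiv (hTM s.2)).symm.toMonoidHom x
  have hQt : ∀ x, dl ((⟨t, ht⟩ : ↥T) • lam0) x ^ O.card = D x := by
    intro x
    rw [hdeq, hQ, hDapply, hDapply]
    refine Finset.prod_bij (fun lam _ => (⟨t, ht⟩ : ↥T) • lam) (fun lam hl => ?_)
      (fun u _ v _ e => MulAction.injective _ e) (fun lam hl => ?_) fun lam _ => ((hdeq _ lam x)).symm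
    · obtain ⟨s, -, rfl⟩ := Finset.mem_image.1 hl
      exact Finset.mem_image.2 ⟨⟨t, ht⟩ * s, Finset.mem_univ _, mul_smul _ _ _⟩
    · obtain ⟨s, -, rfl⟩ := Finset.mem_image.1 hl
      exact ⟨((⟨t, ht⟩ : ↥T)⁻¹ * s) • lam1, Finset.mem_image.2 ⟨_, Finset.mem_univ _, rfl⟩,
        by rw [← mul_smul, mul_inv_cancel_left]⟩
  obtain ⟨l, hlK, hl⟩ := exists_twist_ext hKM hn hlam0θ (hextsmul ⟨t, ht⟩ lam0 hlam0θ)
  have hl1 : ∀ x, l x = 1 := by
    intro x
    have e1 : l x ^ (deg θ * O.card) = 1 := by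
      have := hQt x
      rw [hdtw lam0 _ l hlam0θ hl, mul_pow, hQ, ← pow_mul] at this
      exact mul_eq_left.1 this
    have hg := (pow_gcd_eq_one (a := l x) (m := deg θ * O.card) (n := p ^ a)).2 ⟨e1, hpow l hlK x⟩
    rwa [hcop.gcd_eq_one, pow_one] at hg
  refine irr_ext fun g hg => ?_
  have := hl ⟨g, hg⟩
  rw [hl1, Units.val_one, mul_one] at this
  exact this

/-- Frobenius and Mackey for `A = K A'`. -/
theorem mackey_mu {K A A' C : Subgroup G} (hKA : K ≤ A) (hA'A : A' ≤ A) (hn : A ≤ Subgroup.normalizer (K : Set G))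
    (hC : K ⊓ A' = C) (hcov : ∀ d ∈ A, ∃ k ∈ K, ∃ x ∈ A', k * x = d) (θ : IrrCharacter ↥K)
    (hθ : Fix A K (E θ)) (φ : IrrCharacter ↥C) (ψ : IrrCharacter ↥A') (hψ : ∀ c ∈ C, E ψ c = E φ c) :
    ∑ lam : IrrCharacter ↥A, mu A' (E lam) (E ψ) * mu K (E lam) (E θ) = mu C (E θ) (E φ) := by
  classical
  have hCK : C ≤ K := hC ▸ inf_le_left
  have hCA' : C ≤ A' := hC ▸ inf_le_right
  let eK := Subgroup.subgroupOfEquivOfLe hKA
  let eA := Subgroup.subgroupOfEquivOfLe hA'A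
  let f1 : ↥A → ℂ := indFun (A'.subgroupOf A) fun n => (ψ : ↥A' → ℂ) (eA n)
  let f2 : ↥A → ℂ := indFun (K.subgroupOf A) fun n => (θ : ↥K → ℂ) (eK n)
  have h1 : ∀ lam : IrrCharacter ↥A, classInner f1 (lam : ↥A → ℂ) = (mu A' (E lam) (E ψ) : ℂ) := fun lam => by
    rw [frobenius_reciprocity _ _ (IsIrrCharacter.isClassFunction lam.2), ← classInner_conj_symm,
      classInner_transport hA'A, Complex.conj_natCast]
  have h2 : ∀ lam : IrrCharacter ↥A, classInner f2 (lam : ↥A → ℂ) = (mu K (E lam) (E θ) : ℂ) := fun lam => by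
    rw [frobenius_reciprocity _ _ (IsIrrCharacter.isClassFunction lam.2), ← classInner_conj_symm,
      classInner_transport hKA, Complex.conj_natCast]
  have key : classInner f1 f2 = (mu C (E θ) (E φ) : ℂ) := by
    rw [frobenius_reciprocity' (K.subgroupOf A) _ (indFun_isClassFunction _ _)]
    have hval : ∀ k : ↥K, f1 ⟨k, hKA k.2⟩ =
        (Nat.card ↥A' : ℂ)⁻¹ * ∑ x : ↥A, E ψ ((x : G)⁻¹ * k * x) := by
      intro k
      show (Nat.card ↥(A'.subgroupOf A) : ℂ)⁻¹ * _ = _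
      rw [Nat.card_congr eA.toEquiv]
      congr 1
      refine Finset.sum_congr rfl fun x _ => ?_
      by_cases hm : (x : G)⁻¹ * k * x ∈ A'
      · rw [E_of_mem ψ hm, extendByZero_mem (A'.subgroupOf A) _ (by exact hm)]
        rfl
      · rw [E_of_not_mem ψ hm, extendByZero_not_mem (A'.subgroupOf A) _ (by exact hm)]
    have hcard : (Nat.card ↥C : ℂ) * Nat.card ↥A = Nat.card ↥K * Nat.card ↥A' := by
      have := sum_cosets hKA hA'A hC hcov (fun _ => 1) fun _ _ _ _ => rfl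
      simp only [Finset.sum_const, Finset.card_univ, smul_eq_mul, mul_one, ← Nat.card_eq_fintype_card] at this
      exact_mod_cast this
    have hsum : ∀ x : ↥A, ∑ k : ↥K, E ψ ((x : G)⁻¹ * k * x) * conj (E θ k) =
        ∑ c : ↥C, E φ c * conj (E θ c) := by
      intro x
      have hx : (x : G) ∈ Subgroup.normalizer (K : Set G) := hn x.2
      rw [Fintype.sum_equiv (conjEquiv hx).symm.toEquiv _ (fun k : ↥K => E ψ k * conj (E θ k)) fun k => by
        show E ψ ((x : G)⁻¹ * k * x) * conj (E θ k) =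
          E ψ ((x : G)⁻¹ * k * x) * conj (E θ ((x : G)⁻¹ * k * x))
        congr 2
        have h3 := hθ _ (A.inv_mem x.2) k k.2
        rw [inv_inv] at h3
        exact h3.symm]
      rw [← Finset.sum_filter_add_sum_filter_not Finset.univ (fun k : ↥K => (k : G) ∈ A'),
        add_eq_left.2 (Finset.sum_eq_zero fun k hk => by
          rw [E_of_not_mem ψ (Finset.mem_filter.1 hk).2, zero_mul])]
      symm
      refine Finset.sum_bij (fun c _ => (⟨c, hCK c.2⟩ : ↥K)) (fun c _ => by simpa using hCA' c.2)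
        (fun u _ v _ e => Subtype.ext (congrArg (fun z : ↥K => (z : G)) e)) (fun k hk => ?_) fun c _ => ?_
      · exact ⟨⟨k, hC ▸ ⟨k.2, (Finset.mem_filter.1 hk).2⟩⟩, Finset.mem_univ _, rfl⟩
      · show _ = E ψ c * conj (E θ c)
        rw [hψ c c.2]
    have hip : (mu C (E θ) (E φ) : ℂ) = ip C (E φ) (E θ) := by
      rw [ip_comm (isCh_E φ) ((isCh_E θ).mono hCK), mu_spec ((isCh_E θ).mono hCK) (isCh_E φ)]
    rw [hip, ip, classInner, classInner, Nat.card_congr eK.toEquiv,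
      Fintype.sum_equiv eK.toEquiv _ (fun k : ↥K => f1 ⟨k, hKA k.2⟩ * conj (E θ k)) fun n => by
        rw [← E_coe θ (eK n)]; rfl]
    simp only [hval, rs, mul_assoc (Nat.card ↥A' : ℂ)⁻¹, ← Finset.mul_sum, Finset.sum_mul]
    rw [Finset.sum_comm, Finset.sum_congr rfl fun x _ => hsum x, Finset.sum_const, nsmul_eq_mul,
      Finset.card_univ, ← Nat.card_eq_fintype_card]
    have hK0 : (Nat.card ↥K : ℂ) ≠ 0 := Nat.cast_ne_zero.2 Nat.card_pos.ne'
    have hA0 : (Nat.card ↥A' : ℂ) ≠ 0 := Nat.cast_ne_zero.2 Nat.card_pos.ne'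
    have hC0 : (Nat.card ↥C : ℂ) ≠ 0 := Nat.cast_ne_zero.2 Nat.card_pos.ne'
    field_simp
    linear_combination (∑ c : ↥C, E φ c * conj (E θ c)) * hcard
  rw [classInner_eq_sum (f := f1) (indFun_isClassFunction _ _)] at key
  simp only [h1, h2, Complex.conj_natCast] at key
  exact_mod_cast key

end Cfsg.Agent.OW
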