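import Cfsg.Agent.Lib.OW.Extend
import Cfsg.Agent.Lib.OW.Twist

/-!
The transfer step: `K T'` and `T'` have equally many characters of degree prime to `p`
over corresponding invariant characters.

* `comm_gen`, `lift_hom`, `extends_iff`, `exists_compl`
* `fibre_pc`, `transfer`
-/

set_option autoImplicit false
set_option linter.unusedSectionVars false

namespace Cfsg.Agent.OW

open Cfsg Cfsg.Agent.Char

attribute [local instance 2000] Fintype.ofFinite

variable {G : Type*} [Group G] [Finite G]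

theorem sup_two_le {X : Subgroup G} {S : Subgroup G} {g w : G} (hX : X ≤ S) (hg : g ∈ S) (hw : w ∈ S) :
    X ⊔ Subgroup.zpowers g ⊔ Subgroup.zpowers w ≤ S :=
  sup_le (sup_le hX (Subgroup.zpowers_le.2 hg)) (Subgroup.zpowers_le.2 hw)

/-- A group generated by two elements commuting modulo `C` is abelian modulo `C`. -/
theorem comm_gen {C : Subgroup G} {g w : G} (hg : g ∈ Subgroup.normalizer (C : Set G))
    (hw : w ∈ Subgroup.normalizer (C : Set G)) (hc : w * g * w⁻¹ * g⁻¹ ∈ C) :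
    ∀ a ∈ C ⊔ Subgroup.zpowers g ⊔ Subgroup.zpowers w, ∀ b ∈ C ⊔ Subgroup.zpowers g ⊔ Subgroup.zpowers w,
      a * b * a⁻¹ * b⁻¹ ∈ C := by
  set B := C ⊔ Subgroup.zpowers g ⊔ Subgroup.zpowers w with hB
  have hBN : B ≤ Subgroup.normalizer (C : Set G) := sup_two_le Subgroup.le_normalizer hg hw
  have inner : ∀ x ∈ Subgroup.normalizer (C : Set G), x * g * x⁻¹ * g⁻¹ ∈ C → x * w * x⁻¹ * w⁻¹ ∈ C →
      x ∈ cenMod C B := by
    intro x hx hxg hxw
    have hxx : Subgroup.zpowers x ≤ Subgroup.normalizer (C : Set G) := Subgroup.zpowers_le.2 hx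
    have key : B ≤ cenMod C (Subgroup.zpowers x) := by
      have aux : ∀ y ∈ Subgroup.normalizer (C : Set G), y * x * y⁻¹ * x⁻¹ ∈ C →
          y ∈ cenMod C (Subgroup.zpowers x) := by
        intro y hy hyx
        refine (mem_cenMod hxx).2 ⟨hy, ?_⟩
        rintro _ ⟨i, rfl⟩
        refine (modL_comm_iff ⟨y, hy⟩ ⟨_, zpow_mem hx i⟩).1 ?_
        rw [show (⟨x ^ i, zpow_mem hx i⟩ : ↥(Subgroup.normalizer (C : Set G))) = ⟨x, hx⟩ ^ i from rfl, map_zpow]
        exact (Commute.zpow_right ((modL_comm_iff ⟨y, hy⟩ ⟨x, hx⟩).2 hyx) i).eq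
      refine sup_two_le (fun c hc' => aux c (Subgroup.le_normalizer hc') ?_) (aux g hg (comm_symm hxg))
        (aux w hw (comm_symm hxw))
      rw [show c * x * c⁻¹ * x⁻¹ = c * (x * c⁻¹ * x⁻¹) by group]
      exact C.mul_mem hc' ((Subgroup.mem_normalizer_iff.1 hx _).1 (C.inv_mem hc'))
    exact (mem_cenMod hBN).2 ⟨hx, fun b hb =>
      comm_symm (((mem_cenMod hxx).1 (key hb)).2 x (Subgroup.mem_zpowers x))⟩
  have hC1 : ∀ x : G, x * x * x⁻¹ * x⁻¹ ∈ C := fun x => by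
    rw [mul_inv_cancel_right, mul_inv_cancel]; exact C.one_mem
  have hall : B ≤ cenMod C B := sup_two_le
    (fun c hc' => (mem_cenMod hBN).2 ⟨Subgroup.le_normalizer hc', fun b hb => by
      rw [show c * b * c⁻¹ * b⁻¹ = c * (b * c⁻¹ * b⁻¹) by group]
      exact C.mul_mem hc' ((Subgroup.mem_normalizer_iff.1 (hBN hb) _).1 (C.inv_mem hc'))⟩)
    (inner g hg (hC1 g) (comm_symm hc)) (inner w hw hc (hC1 w))
  exact fun a ha b hb => ((mem_cenMod hBN).1 (hall ha)).2 b hb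

/-- Linear characters of `A / K` come from those of `A' / C`. -/
theorem lift_hom {K A A' C : Subgroup G} (hKA : K ≤ A) (hA'A : A' ≤ A)
    (hn : A ≤ Subgroup.normalizer (K : Set G)) (hC : K ⊓ A' = C)
    (hcov : ∀ d ∈ A, ∃ k ∈ K, ∃ x ∈ A', k * x = d) (l' : ↥A' →* ℂˣ) (hl' : ∀ x : ↥A', (x : G) ∈ C → l' x = 1) :
    ∃ l : ↥A →* ℂˣ, (∀ x : ↥A, (x : G) ∈ K → l x = 1) ∧
      ∀ x : ↥A', l ⟨x, hA'A x.2⟩ = l' x := by
  choose kf hkf xf hxf hkx using hcov
  have key : ∀ (d : G) (hd : d ∈ A) (k : G) (_ : k ∈ K) (x : G) (hx : x ∈ A'), k * x = d →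
      l' ⟨xf d hd, hxf d hd⟩ = l' ⟨x, hx⟩ := by
    intro d hd k hk x hx e
    have h1 : (⟨xf d hd, hxf d hd⟩ * ⟨x, hx⟩⁻¹ : ↥A').1 ∈ C := by
      rw [← hC]
      refine ⟨?_, A'.mul_mem (hxf d hd) (A'.inv_mem hx)⟩
      have h2 : xf d hd * x⁻¹ = (kf d hd)⁻¹ * k := by
        rw [eq_inv_mul_iff_mul_eq, ← mul_assoc, hkx, ← e, mul_inv_cancel_right]
      show xf d hd * x⁻¹ ∈ K
      rw [h2]; exact K.mul_mem (K.inv_mem (hkf d hd)) hk
    have := hl' _ h1
    rwa [map_mul, map_inv, mul_inv_eq_one] at this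
  refine ⟨MonoidHom.mk' (fun d : ↥A => l' ⟨xf d d.2, hxf d d.2⟩) fun a b => ?_, fun x hx => ?_, fun x => ?_⟩
  · show l' _ = l' _ * l' _
    rw [← map_mul]
    refine key _ _ (kf a a.2 * (xf a a.2 * kf b b.2 * (xf a a.2)⁻¹)) (K.mul_mem (hkf _ _)
      ((Subgroup.mem_normalizer_iff.1 (hn (hA'A (hxf _ _))) _).1 (hkf _ _))) _ _ ?_
    rw [show kf a a.2 * (xf a a.2 * kf b b.2 * (xf a a.2)⁻¹) * (xf a a.2 * xf b b.2) =
      kf a a.2 * xf a a.2 * (kf b b.2 * xf b b.2) by group, hkx, hkx]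
    rfl
  · exact (key x x.2 x hx 1 A'.one_mem (mul_one _)).trans (map_one l')
  · exact key x (hA'A x.2) 1 K.one_mem x x.2 (one_mul _)

/-- Extendibility of `θ` and of a fixed extension `λ` agree. -/
theorem extends_iff {K A Q : Subgroup G} (hKA : K ≤ A) (hQK : Q ≤ Subgroup.normalizer (K : Set G))
    (hQA : Q ≤ Subgroup.normalizer (A : Set G)) (hAQ : A ⊓ Q ≤ K) {θ : IrrCharacter ↥K} (hθ : Fix Q K (E θ))
    {lam : IrrCharacter ↥A} (hlam : ∀ k ∈ K, E lam k = E θ k) (hlamQ : Fix Q A (E lam)) {g w : G} (hg : g ∈ Q)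
    (hw : w ∈ Q) (hc : w * g * w⁻¹ * g⁻¹ ∈ K) :
    Extends lam (A ⊔ Subgroup.zpowers g ⊔ Subgroup.zpowers w) ↔
      Extends θ (K ⊔ Subgroup.zpowers g ⊔ Subgroup.zpowers w) := by
  constructor
  · rintro ⟨Lam, hLam⟩
    exact Extends.mono ⟨Lam, fun k hk => (hLam k (hKA hk)).trans (hlam k hk)⟩
      (le_sup_left.trans le_sup_left) (sup_le_sup_right (sup_le_sup_right hKA _) _)
  intro hext
  have hnK : K ⊔ Q ≤ Subgroup.normalizer (K : Set G) := sup_le Subgroup.le_normalizer hQK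
  have hnA : A ⊔ Q ≤ Subgroup.normalizer (A : Set G) := sup_le Subgroup.le_normalizer hQA
  have hgood : Good θ (K ⊔ Subgroup.zpowers g) w := (good_iff_extends hnK θ
    ((fix_of_le θ le_rfl).sup Subgroup.le_normalizer hQK hθ) (Subgroup.mem_sup_right hg)
    (Subgroup.mem_sup_right hw) hc).2 hext
  refine (good_iff_extends hnA lam ((fix_of_le lam le_rfl).sup Subgroup.le_normalizer hQA hlamQ)
    (Subgroup.mem_sup_right hg) (Subgroup.mem_sup_right hw) (hKA hc)).1 ?_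
  obtain ⟨q, hA⟩ := exists_cyc (hQA hg)
  have hK := hA.sub hKA (hQK hg) fun i hi => hAQ ⟨hi, Q.pow_mem hg i⟩
  set Mg := A ⊔ Subgroup.zpowers g
  intro mu' hmu' m hm
  have hwM : w ∈ Subgroup.normalizer (Mg : Set G) :=
    conj_mem_cyc hnA (Subgroup.mem_sup_right hg) (Subgroup.mem_sup_right hw) (hKA hc)
  have hη : ∀ a ∈ A, E (cjI (inv_mem hwM) mu') a = E lam a := fun a ha => by
    rw [E_cjI, inv_inv, hmu' _ ((Subgroup.mem_normalizer_iff.1 (hQA hw) a).1 ha), hlamQ w hw a ha]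
  obtain ⟨j, hj⟩ := hA.exists_twist hmu' (η := cjI (inv_mem hwM) mu')
    (by rw [mu_of_ext hη]; exact one_ne_zero)
  have htw : ∀ x ∈ Mg, E mu' x = E mu' (w * x * w⁻¹) * hA.ch j x := fun x hx => by
    have h1 := hA.E_twI j (cjI (inv_mem hwM) mu') hx
    rwa [hj, Cyc.tw, E_cjI, inv_inv] at h1
  have hKM : K ⊔ Subgroup.zpowers g ≤ Mg := sup_le_sup_right hKA _
  have hθ' : ∀ k ∈ K, E mu' k = E θ k := fun k hk => (hmu' k (hKA hk)).trans (hlam k hk)
  obtain ⟨mur, hmur⟩ := restrI le_sup_left hKM θ mu' hθ'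
  have hmurθ : ∀ k ∈ K, E mur k = E θ k := fun k hk => (hmur k (hK.le hk)).trans (hθ' k hk)
  have hch : ∀ x ∈ K ⊔ Subgroup.zpowers g, hA.ch j x = hK.ch j x := fun x hx => by
    obtain ⟨i, hi⟩ := hK.gen x hx
    rw [show x = x * (g ^ i)⁻¹ * g ^ i from (inv_mul_cancel_right _ _).symm,
      hK.ch_mul j (hK.le hi) (pow_mem hK.mem i), hA.ch_mul j (hA.le (hKA hi)) (pow_mem hA.mem i),
      hK.ch_of_mem j hi, hA.ch_of_mem j (hKA hi), hK.ch_pow, hA.ch_pow]
  have hjq : j % q = 0 := by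
    by_contra hne
    refine hK.twI_ne hmurθ (Nat.mod_lt _ (Nat.pos_of_ne_zero hK.ne_zero)) hne (irr_ext fun x hx => ?_)
    rw [hK.E_twI _ _ hx, Cyc.tw]
    have h1 : hK.ch (j % q) x = hK.ch j x := zeta_congr hK.ne_zero ((Nat.mod_modEq j q).mul_left _)
    have hwx : w * x * w⁻¹ ∈ K ⊔ Subgroup.zpowers g :=
      (Subgroup.mem_normalizer_iff.1 (conj_mem_cyc hnK (Subgroup.mem_sup_right hg)
        (Subgroup.mem_sup_right hw) hc) x).1 hx
    rw [h1, ← hch x hx]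
    conv_lhs => rw [← hgood mur hmurθ x hx, hmur _ hwx]
    rw [hmur x hx]
    exact (htw x (hKM hx)).symm
  have h1 : hA.ch j m = 1 := by
    rw [Cyc.ch, zeta_congr hA.ne_zero (b := 0)
      (Nat.modEq_zero_iff_dvd.2 ((Nat.dvd_of_mod_eq_zero hjq).mul_left _)), pow_zero]
  have h2 := htw m hm
  rw [h1, mul_one] at h2
  exact h2.symm

variable {p : ℕ} [hp : Fact p.Prime]

theorem eq_one_of_dvd_pow {d a : ℕ} (h : d ∣ p ^ a) (hd : ¬ p ∣ d) : d = 1 :=
  Nat.Coprime.eq_one_of_dvd ((hp.out.coprime_iff_not_dvd.2 hd).symm.pow_right a) h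

/-- Complements of a `p`-section. -/
theorem exists_compl {C A' U : Subgroup G} (hCA : C ≤ A') (hAU : A' ≤ U)
    (hC : U ≤ Subgroup.normalizer (C : Set G)) (hA : U ≤ Subgroup.normalizer (A' : Set G)) {a : ℕ}
    (hidx : C.relIndex A' ∣ p ^ a) (hidx' : ¬ p ∣ A'.relIndex U) :
    ∃ Q : Subgroup G, C ≤ Q ∧ Q ≤ U ∧ A' ⊓ Q = C ∧ A' ⊔ Q = U ∧ ¬ p ∣ C.relIndex Q := by
  haveI : (C.subgroupOf U).Normal := (Subgroup.normal_subgroupOf_iff_le_normalizer (hCA.trans hAU)).2 hC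
  haveI hAn : (A'.subgroupOf U).Normal := (Subgroup.normal_subgroupOf_iff_le_normalizer hAU).2 hA
  let π := QuotientGroup.mk' (C.subgroupOf U)
  let N := (A'.subgroupOf U).map π
  haveI : N.Normal := Subgroup.Normal.map hAn π (QuotientGroup.mk'_surjective _)
  have hcard : Nat.card ↥N = C.relIndex A' := by
    rw [← Subgroup.relIndex_ker, QuotientGroup.ker_mk', Subgroup.relIndex_subgroupOf hAU]
  have hker : π.ker ≤ A'.subgroupOf U := by
    rw [QuotientGroup.ker_mk']; exact fun x hx => hCA hx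
  have hindex : N.index = A'.relIndex U :=
    Subgroup.index_map_eq _ (QuotientGroup.mk'_surjective _) hker
  have hcop : (Nat.card ↥N).Coprime N.index := by
    rw [hcard, hindex]
    exact Nat.Coprime.coprime_dvd_left hidx ((hp.out.coprime_iff_not_dvd.2 hidx').pow_left a)
  obtain ⟨H, hH⟩ := Subgroup.exists_right_complement'_of_coprime hcop
  let Q : Subgroup G := (H.comap π).map U.subtype
  have hCQ : C ≤ Q := fun c hc => ⟨⟨c, hAU (hCA hc)⟩, by
    show π _ ∈ H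
    rw [show π ⟨c, hAU (hCA hc)⟩ = 1 from (QuotientGroup.eq_one_iff _).2 hc]
    exact H.one_mem, rfl⟩
  have hQU : Q ≤ U := Subgroup.map_subtype_le _
  have hinf : A' ⊓ Q = C := by
    refine le_antisymm ?_ (le_inf hCA hCQ)
    rintro _ ⟨hx, y, hy, rfl⟩
    exact (QuotientGroup.eq_one_iff y).1 (Subgroup.disjoint_def.1 hH.disjoint ⟨y, hx, rfl⟩ hy)
  have hsup : A' ⊔ Q = U := by
    refine le_antisymm (sup_le hAU hQU) fun u hu => ?_
    obtain ⟨⟨⟨n, hn⟩, ⟨h, hh⟩⟩, he⟩ := hH.2 (π ⟨u, hu⟩)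
    obtain ⟨a, ha, rfl⟩ := hn
    obtain ⟨b, rfl⟩ := QuotientGroup.mk'_surjective (C.subgroupOf U) h
    have h1 : π ((a * b)⁻¹ * ⟨u, hu⟩) = 1 := by
      rw [map_mul, map_inv, map_mul, inv_mul_eq_one]; exact he
    have h2 : ((a : G) * b)⁻¹ * u ∈ C := by
      have := Subgroup.mem_subgroupOf.1 ((QuotientGroup.eq_one_iff _).1 h1)
      simpa using this
    have hab : (a : G) * b ∈ A' ⊔ Q := mul_mem (Subgroup.mem_sup_left ha) (Subgroup.mem_sup_right ⟨b, hh, rfl⟩)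
    have := mul_mem hab (Subgroup.mem_sup_left (hCA h2) : _ ∈ A' ⊔ Q)
    rwa [mul_inv_cancel_left] at this
  refine ⟨Q, hCQ, hQU, hinf, hsup, ?_⟩
  rw [← hinf, Subgroup.inf_relIndex_right, ← relIndex_sup_norm (hQU.trans hA), hsup]
  exact hidx'

/-- Over an invariant character the multiplicity is the ratio of degrees. -/
theorem deg_eq_mu {A B : Subgroup G} (hAB : A ≤ B) (hn : B ≤ Subgroup.normalizer (A : Set G))
    {ν : IrrCharacter ↥A} (hν : Fix B A (E ν)) {χ : IrrCharacter ↥B} (h : mu A (E χ) (E ν) ≠ 0) :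
    deg χ = mu A (E χ) (E ν) * deg ν := by
  rw [deg_eq_sum hAB χ]
  refine Finset.sum_eq_single ν (fun η _ hne => ?_) (fun h' => absurd (Finset.mem_univ _) h')
  rw [Nat.mul_eq_zero]
  exact Or.inl (by_contra fun hη => hne (over_only hAB hn hν h hη))

theorem mu_eq_one {A B : Subgroup G} (hAB : A ≤ B) (hn : B ≤ Subgroup.normalizer (A : Set G))
    {ν : IrrCharacter ↥A} (hν : Fix B A (E ν)) {χ : IrrCharacter ↥B} {a : ℕ} (hidx : A.relIndex B ∣ p ^ a)
    (h : ¬ p ∣ mu A (E χ) (E ν)) : ∀ k ∈ A, E χ k = E ν k := by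
  have h0 : mu A (E χ) (E ν) ≠ 0 := fun e => h (e ▸ dvd_zero p)
  have hd := deg_eq_mu hAB hn hν h0
  have h1 := (deg_over hAB hn h0).2
  rw [hd, Nat.mul_div_cancel _ (deg_pos ν)] at h1
  refine ext_of_deg hAB h0 ?_
  rw [hd, eq_one_of_dvd_pow (h1.trans hidx) h, one_mul]

open Classical in
/-- The extensions of `θ`. -/
noncomputable def exts {K : Subgroup G} (θ : IrrCharacter ↥K) (A : Subgroup G) : Finset (IrrCharacter ↥A) :=
  Finset.univ.filter fun lam => ∀ k ∈ K, E lam k = E θ k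

theorem mem_exts {K A : Subgroup G} {θ : IrrCharacter ↥K} {lam : IrrCharacter ↥A} :
    lam ∈ exts θ A ↔ ∀ k ∈ K, E lam k = E θ k := by
  classical
  simp [exts]

/-- Counting through the extensions. -/
theorem fibre_pc {K A T' : Subgroup G} (hKA : K ≤ A) (hAK : A ≤ Subgroup.normalizer (K : Set G))
    (hTK : T' ≤ Subgroup.normalizer (K : Set G)) (hTA : T' ≤ Subgroup.normalizer (A : Set G))
    (θ : IrrCharacter ↥K) (hθ : Fix (A ⊔ T') K (E θ)) (hd : ¬ p ∣ deg θ) {a : ℕ}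
    (hidx : K.relIndex A ∣ p ^ a) (hidx' : ¬ p ∣ A.relIndex (A ⊔ T')) :
    Nat.card ↥T' * pc p θ (A ⊔ T') =
      ∑ lam ∈ exts θ A, Nat.card {m : ↥T' // cjI (hTA m.2) lam = lam} * cnt lam (A ⊔ T') := by
  classical
  have hBK : A ⊔ T' ≤ Subgroup.normalizer (K : Set G) := sup_le hAK hTK
  have hBA : A ⊔ T' ≤ Subgroup.normalizer (A : Set G) := sup_le Subgroup.le_normalizer hTA
  rw [pc, fib hTA (le_sup_left : A ≤ A ⊔ T') le_sup_right (exts θ A) ?_ _ ?_ ?_]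
  · refine Finset.sum_congr rfl fun lam hlam => ?_
    congr 1
    refine Nat.card_congr (Equiv.subtypeEquivRight fun χ => ⟨fun h => h.2, fun h => ⟨⟨?_, ?_⟩, h⟩⟩)
    · obtain ⟨h1, h2⟩ := deg_over le_sup_left hBA h
      rw [← Nat.div_mul_cancel h1, hp.out.dvd_mul, deg_of_ext (mem_exts.1 hlam)]
      exact fun hh => hh.elim (fun hh => hidx' ((deg_of_ext (mem_exts.1 hlam) ▸ hh).trans h2)) hd
    · exact mu_trans_ne hKA le_sup_left h (by rw [mu_of_ext (mem_exts.1 hlam)]; exact one_ne_zero)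
  · intro m hm lam hlam
    refine mem_exts.2 fun k hk => ?_
    have hk' : m⁻¹ * k * m ∈ K := by
      simpa using (Subgroup.mem_normalizer_iff.1 (inv_mem (hTK hm)) k).1 hk
    rw [E_cjI, mem_exts.1 hlam _ hk', ← hθ m (Subgroup.mem_sup_right hm) _ hk']
    congr 1; group
  · rintro χ ⟨hχd, hχ⟩
    obtain ⟨η, hη⟩ := exists_below (le_sup_left : A ≤ A ⊔ T') χ
    have hηθ := over_mid hKA le_sup_left hBK hθ hχ hη
    have hθA : Fix A K (E θ) := hθ.mono le_sup_left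
    refine ⟨η, mem_exts.2 (mu_eq_one hKA hAK hθA hidx fun hh => hχd ?_), hη⟩
    refine (dvd_trans ?_ (deg_over le_sup_left hBA hη).1)
    rw [deg_eq_mu hKA hAK hθA hηθ]
    exact hh.trans (dvd_mul_right _ _)
  · rintro χ - η hη η' hη' h h'
    obtain ⟨x, hx, hxη⟩ := conj_constituents le_sup_left hBA h h'
    obtain ⟨y, hy, t, ht, rfl⟩ := (Coprime.mem_sup_iff hTA).1 hx
    refine ⟨t, ht, ?_⟩
    rw [← hxη]
    refine irr_ext fun g hg => ?_
    rw [E_cjI, E_cjI]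
    have h1 : y⁻¹ * g * y ∈ A := A.mul_mem (A.mul_mem (A.inv_mem hy) hg) hy
    have h2 : t⁻¹ * y * t ∈ A := by
      simpa using (Subgroup.mem_normalizer_iff.1 (inv_mem (hTA ht)) y).1 hy
    have h3 : t⁻¹ * g * t ∈ A := by
      simpa using (Subgroup.mem_normalizer_iff.1 (inv_mem (hTA ht)) g).1 hg
    rw [show (y * t)⁻¹ * g * (y * t) = (t⁻¹ * y * t)⁻¹ * (t⁻¹ * g * t) * (t⁻¹ * y * t)⁻¹⁻¹ by group,
      E_conj η (A.inv_mem h2) h3]

theorem twist_fix_iff {K A : Subgroup G} (hKA : K ≤ A) (hn : A ≤ Subgroup.normalizer (K : Set G))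
    {θ : IrrCharacter ↥K} {lam0 lam : IrrCharacter ↥A} (h0 : ∀ k ∈ K, E lam0 k = E θ k) {l : ↥A →* ℂˣ}
    (hlK : ∀ x : ↥A, (x : G) ∈ K → l x = 1) (hl : ∀ x : ↥A, E lam x = E lam0 x * (l x : ℂ)) {t : G}
    (htK : t ∈ Subgroup.normalizer (K : Set G)) (htA : t ∈ Subgroup.normalizer (A : Set G))
    (h0t : ∀ x ∈ A, E lam0 (t * x * t⁻¹) = E lam0 x) :
    cjI htA lam = lam ↔ ∀ x : ↥A, l (conjEquiv htA x) = l x := by
  rw [cjI_eq_iff]
  have hconj : ∀ x : ↥A, ((conjEquiv htA x : ↥A) : G) = t * x * t⁻¹ := fun x => rfl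
  constructor
  · intro h
    have hlK' : ∀ x : ↥A, (x : G) ∈ K → l.comp (conjEquiv htA).toMonoidHom x = 1 := fun x hx =>
      hlK _ ((Subgroup.mem_normalizer_iff.1 htK x).1 hx)
    have := twist_inj hKA hn h0 hlK' hlK fun x => by
      show E lam0 x * (l (conjEquiv htA x) : ℂ) = _
      rw [← hl x, ← h x x.2, ← hconj x, hl (conjEquiv htA x), hconj x, h0t x x.2]
    exact fun x => DFunLike.congr_fun this x
  · intro h x hx
    have e1 := hl (conjEquiv htA ⟨x, hx⟩)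
    rw [h, hconj, h0t x hx, ← hl ⟨x, hx⟩] at e1
    exact e1

/-- The transfer step. -/
theorem transfer {K L P C T' : Subgroup G} (h : Setting p K L P C) (hPT : P ≤ T') (hCT : C ≤ T')
    (hTK : T' ≤ Subgroup.normalizer (K : Set G)) (hTL : T' ≤ Subgroup.normalizer (L : Set G))
    (hTP : T' ≤ Subgroup.normalizer (P : Set G)) (hKT : K ⊓ T' = C) (θ : IrrCharacter ↥K)
    (φ : IrrCharacter ↥C) (hθ : Fix T' K (E θ)) (hφ : Fix T' C (E φ)) (hdθ : ¬ p ∣ deg θ) (hdφ : ¬ p ∣ deg φ)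
    (hmu : ¬ p ∣ mu C (E θ) (E φ)) (hidx : ¬ p ∣ (C ⊔ P).relIndex T') :
    pc p θ (K ⊔ T') = pc p φ T' := by
  classical
  obtain ⟨a, hPa⟩ := h.relIndex_R
  set A := K ⊔ P with hA
  set A' := C ⊔ P with hA'
  have hTC : T' ≤ Subgroup.normalizer (C : Set G) := fun t ht => by
    refine Coprime.mem_normalizer_of_forall fun c hc => ?_
    rw [← hKT]
    exact ⟨(Subgroup.mem_normalizer_iff.1 (hTK ht) c).1 (h.le hc),
      T'.mul_mem (T'.mul_mem ht (hCT hc)) (T'.inv_mem ht)⟩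
  have hTA : T' ≤ Subgroup.normalizer (A : Set G) := fun t ht =>
    Subgroup.normalizer_inf_normalizer_le_normalizer_sup K P ⟨hTK ht, hTP ht⟩
  have hTA' : T' ≤ Subgroup.normalizer (A' : Set G) := fun t ht =>
    Subgroup.normalizer_inf_normalizer_le_normalizer_sup C P ⟨hTC ht, hTP ht⟩
  have hA'T : A' ≤ T' := sup_le hCT hPT
  have hA'A : A' ≤ A := sup_le_sup_right h.le P
  have hAK : A ≤ Subgroup.normalizer (K : Set G) := sup_le Subgroup.le_normalizer h.RK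
  have hA'C : A' ≤ Subgroup.normalizer (C : Set G) := sup_le Subgroup.le_normalizer h.RC
  have hcov : ∀ d ∈ A, ∃ k ∈ K, ∃ x ∈ A', k * x = d := fun d hd => by
    obtain ⟨k, hk, x, hx, e⟩ := (Coprime.mem_sup_iff h.RK).1 hd
    exact ⟨k, hk, x, Subgroup.mem_sup_right hx, e⟩
  have hKA' : K ⊓ A' = C := le_antisymm ((inf_le_inf_left K hA'T).trans hKT.le) (le_inf h.le le_sup_left)
  have hAT : A ⊓ T' = A' := by
    refine le_antisymm ?_ (le_inf hA'A hA'T)
    rintro x ⟨hx, hxT⟩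
    obtain ⟨k, hk, y, hy, rfl⟩ := (Coprime.mem_sup_iff h.RK).1 hx
    refine mul_mem (Subgroup.mem_sup_left (hKT ▸ ⟨hk, ?_⟩)) (Subgroup.mem_sup_right hy)
    have := T'.mul_mem hxT (T'.inv_mem (hPT hy))
    rwa [mul_inv_cancel_right] at this
  have hB : A ⊔ T' = K ⊔ T' := by rw [hA, sup_assoc, sup_eq_right.2 hPT]
  have hB' : A' ⊔ T' = T' := sup_eq_right.2 hA'T
  have hKPidx : K.relIndex A ∣ p ^ a := by
    rw [hA, relIndex_sup_norm h.RK]
    exact (Subgroup.relIndex_dvd_of_le_left P h.LK).trans hPa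
  have hCPidx : C.relIndex A' ∣ p ^ a := by
    rw [hA', relIndex_sup_norm h.RC]
    exact (Subgroup.relIndex_dvd_of_le_left P h.LC).trans hPa
  have hidx1 : ¬ p ∣ A.relIndex (A ⊔ T') := by
    rwa [relIndex_sup_norm hTA, ← Subgroup.inf_relIndex_right, hAT]
  have hidx2 : ¬ p ∣ A'.relIndex (A' ⊔ T') := by rwa [hB']
  have hθB : Fix (A ⊔ T') K (E θ) := by
    rw [hB]; exact (fix_of_le θ le_rfl).sup Subgroup.le_normalizer hTK hθ
  have hθA : Fix A K (E θ) := hθB.mono le_sup_left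
  have hφA : Fix A' C (E φ) := hφ.mono hA'T
  have e1 := fibre_pc le_sup_left hAK hTK hTA θ hθB hdθ hKPidx hidx1
  have e2 := fibre_pc le_sup_left hA'C hTC hTA' φ (by rw [hB']; exact hφ) hdφ hCPidx hidx2
  rw [hB] at e1
  rw [hB'] at e2
  -- `θ` extends iff `φ` does
  have hdown : ∀ lam : IrrCharacter ↥A, (∀ k ∈ K, E lam k = E θ k) → Extends φ A' := by
    intro lam hlam
    have h0 : ¬ p ∣ mu C (E lam) (E φ) := by
      rwa [mu, ip_congr (g' := E φ) (fun x hx => hlam x (h.le hx)) fun _ _ => rfl]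
    rw [mu_trans (le_sup_left : C ≤ A') ((isCh_E lam).mono hA'A) φ] at h0
    by_contra hno
    refine h0 (Finset.dvd_sum fun η _ => dvd_mul_of_dvd_right (by_contra fun hη => hno ?_) _)
    exact ⟨η, mu_eq_one le_sup_left hA'C hφA hCPidx hη⟩
  have hup : ∀ psi : IrrCharacter ↥A', (∀ c ∈ C, E psi c = E φ c) → Extends θ A := by
    intro psi hpsi
    have h0 := mackey_mu le_sup_left hA'A hAK hKA' hcov θ hθA φ psi hpsi
    by_contra hno
    refine hmu (h0 ▸ Finset.dvd_sum fun η _ => dvd_mul_of_dvd_right (by_contra fun hη => hno ?_) _)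
    exact ⟨η, mu_eq_one le_sup_left hAK hθA hKPidx hη⟩
  have hpos : 0 < Nat.card ↥T' := Nat.card_pos
  refine Nat.eq_of_mul_eq_mul_left hpos ?_
  rw [e1, e2]
  by_cases hext : Extends θ A
  swap
  · rw [Finset.sum_eq_zero fun lam hlam => absurd ⟨lam, mem_exts.1 hlam⟩ hext,
      Finset.sum_eq_zero fun psi hpsi => absurd (hup psi (mem_exts.1 hpsi)) hext]
  obtain ⟨lam0, hlam0, hlam0T⟩ := exists_fixed_ext le_sup_left hAK (le_sup_left : A ≤ A ⊔ T')
    (sup_le Subgroup.le_normalizer hTA) (sup_le hAK hTK) hθB hdθ hKPidx hidx1 hext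
  obtain ⟨psi0, hpsi0, hpsi0T⟩ := exists_fixed_ext le_sup_left hA'C hA'T hTA' hTC hφ hdφ hCPidx hidx
    (hdown lam0 hlam0)
  let ι : ↥A' →* ↥A := Subgroup.inclusion hA'A
  have hι : ∀ (l1 l2 : ↥A →* ℂˣ), (∀ x : ↥A, (x : G) ∈ K → l1 x = 1) → (∀ x : ↥A, (x : G) ∈ K → l2 x = 1) →
      (∀ x : ↥A', l1 (ι x) = l2 (ι x)) → l1 = l2 := by
    intro l1 l2 h1 h2 h12
    refine MonoidHom.ext fun d => ?_
    obtain ⟨k, hk, x, hx, e⟩ := hcov d d.2
    have hd : d = (⟨k, Subgroup.mem_sup_left hk⟩ : ↥A) * ι ⟨x, hx⟩ := Subtype.ext e.symm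
    rw [hd, map_mul, map_mul, h1 _ hk, h2 _ hk, h12]
  choose! lf hlfK hlf using fun lam (hl : lam ∈ exts θ A) =>
    exists_twist_ext le_sup_left hAK hlam0 (mem_exts.1 hl)
  have hlfC : ∀ lam ∈ exts θ A, ∀ x : ↥A', (x : G) ∈ C → (lf lam).comp ι x = 1 := fun lam hl x hx =>
    hlfK lam hl _ (h.le hx)
  haveI : Nonempty (IrrCharacter ↥A') := ⟨psi0⟩
  choose! Ψ hΨ hΨext using fun lam (hl : lam ∈ exts θ A) =>
    twist_ext (le_sup_left : C ≤ A') hpsi0 ((lf lam).comp ι) (hlfC lam hl)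
  refine Finset.sum_bij (fun lam _ => Ψ lam) (fun lam hl => mem_exts.2 (hΨext lam hl))
    (fun u hu v hv e => ?_) (fun psi hpsi => ?_) (fun lam hl => ?_)
  · have := twist_inj (le_sup_left : C ≤ A') hA'C hpsi0 (hlfC u hu) (hlfC v hv) fun x => by
      rw [← hΨ u hu, ← hΨ v hv, e]
    have huv := hι _ _ (hlfK u hu) (hlfK v hv) fun x => DFunLike.congr_fun this x
    refine irr_ext fun g hg => ?_
    have e3 := hlf u hu ⟨g, hg⟩
    have e4 := hlf v hv ⟨g, hg⟩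
    rw [huv] at e3
    exact e3.trans e4.symm
  · obtain ⟨l', hl'C, hl'⟩ := exists_twist_ext le_sup_left hA'C hpsi0 (mem_exts.1 hpsi)
    obtain ⟨l, hlK, hll⟩ := lift_hom le_sup_left hA'A hAK hKA' hcov l' hl'C
    obtain ⟨lam, hlam, hlamθ⟩ := twist_ext le_sup_left hlam0 l hlK
    have hmem : lam ∈ exts θ A := mem_exts.2 hlamθ
    refine ⟨lam, hmem, ?_⟩
    have hleq : lf lam = l := twist_inj le_sup_left hAK hlam0 (hlfK lam hmem) hlK fun x => by
      rw [← hlf lam hmem, hlam]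
    refine irr_ext fun g hg => ?_
    have e3 := hΨ lam hmem ⟨g, hg⟩
    rw [MonoidHom.comp_apply, hleq] at e3
    rw [hl' ⟨g, hg⟩, ← hll ⟨g, hg⟩]
    exact e3
  · set psi := Ψ lam
    have hlamθ := mem_exts.1 hl
    have hstab : ∀ t (ht : t ∈ T'), cjI (hTA ht) lam = lam ↔ cjI (hTA' ht) psi = psi := by
      intro t ht
      rw [twist_fix_iff le_sup_left hAK hlam0 (hlfK lam hl) (hlf lam hl) (hTK ht) (hTA ht)
        (hlam0T t (Subgroup.mem_sup_right ht)),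
        twist_fix_iff le_sup_left hA'C hpsi0 (hlfC lam hl) (hΨ lam hl) (hTC ht) (hTA' ht) (hpsi0T t ht)]
      constructor
      · intro hx x
        exact hx (ι x)
      · intro hx
        refine DFunLike.congr_fun (hι ((lf lam).comp (conjEquiv (hTA ht)).toMonoidHom) (lf lam)
          (fun x hxK => hlfK lam hl _ ((Subgroup.mem_normalizer_iff.1 (hTK ht) x).1 hxK)) (hlfK lam hl) hx)
    congr 1
    · exact Nat.card_congr (Equiv.subtypeEquivRight fun m => hstab m m.2)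
    -- the inertia groups
    set U := stab T' lam with hU
    have hUT : U ≤ T' := fun x hx => hx.1
    have hUA : U ≤ Subgroup.normalizer (A : Set G) := hUT.trans hTA
    have hfixlam : Fix U A (E lam) := fun x hx => hx.2.2
    have hfixpsi : Fix U A' (E psi) := fun x hx =>
      (cjI_eq_iff (hTA' hx.1) psi).1 ((hstab x hx.1).1 ((cjI_eq_iff (hTA hx.1) lam).2 hx.2.2))
    have hA'U : A' ≤ U := fun x hx => ⟨hA'T hx, hTA (hA'T hx), fun y hy => E_conj lam (hA'A hx) hy⟩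
    rw [cnt_clifford (le_sup_left : A ≤ A ⊔ U) (sup_le (sup_le le_sup_left (hPT.trans le_sup_right))
        (hUT.trans le_sup_right)) (sup_le (Subgroup.le_normalizer.trans' le_sup_left) hTA) lam ?_,
      cnt_clifford hA'U hUT hTA' psi ?_]
    rotate_left
    · intro t ht hf
      refine mem_stab.2 ⟨ht, hTA ht, (cjI_eq_iff (hTA ht) lam).1 ((hstab t ht).2 ?_)⟩
      exact (cjI_eq_iff (hTA' ht) psi).2 hf
    · intro x hx hf
      obtain ⟨k, hk, t, ht, rfl⟩ := (Coprime.mem_sup_iff hTK).1 hx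
      refine mul_mem (Subgroup.mem_sup_left (Subgroup.mem_sup_left hk)) (Subgroup.mem_sup_right
        (mem_stab.2 ⟨ht, hTA ht, fun y hy => ?_⟩))
      have hy' : t * y * t⁻¹ ∈ A := (Subgroup.mem_normalizer_iff.1 (hTA ht) y).1 hy
      rw [← hf y hy, show k * t * y * (k * t)⁻¹ = k * (t * y * t⁻¹) * k⁻¹ by group,
        E_conj lam (Subgroup.mem_sup_left hk) hy']
    obtain ⟨Q, hCQ, hQU, hA'Q, hsup, hQidx⟩ := exists_compl (le_sup_left : C ≤ A') hA'U (hUT.trans hTC)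
      (hUT.trans hTA') hCPidx fun hd => hidx (hd.trans (Dvd.intro (U.relIndex T')
        (Subgroup.relIndex_mul_relIndex A' U T' hA'U hUT)))
    have hQT : Q ≤ T' := hQU.trans hUT
    have hAQ : A ⊓ Q = C := by
      refine le_antisymm ?_ (le_inf (h.le.trans le_sup_left) hCQ)
      rintro x ⟨hx, hxQ⟩
      rw [← hA'Q]
      exact ⟨hAT.le ⟨hx, hQT hxQ⟩, hxQ⟩
    have hφQ : Fix Q C (E φ) := hφ.mono hQT
    have hext : ∀ g ∈ Q, ∀ w ∈ Q, w * g * w⁻¹ * g⁻¹ ∈ C →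
        (Extends θ (K ⊔ Subgroup.zpowers g ⊔ Subgroup.zpowers w) ↔
          Extends φ (C ⊔ Subgroup.zpowers g ⊔ Subgroup.zpowers w)) := by
      intro g hg w hw hc
      have hBQ : C ⊔ Subgroup.zpowers g ⊔ Subgroup.zpowers w ≤ Q := sup_two_le hCQ hg hw
      have := ext_iff h (le_sup_left.trans le_sup_left) (hBQ.trans (hQT.trans hTK))
        (hBQ.trans (hQT.trans hTL)) (hBQ.trans (hQT.trans hTP))
        (fun hd => hQidx (hd.trans (Dvd.intro _ (Subgroup.relIndex_mul_relIndex C _ Q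
          (le_sup_left.trans le_sup_left) hBQ))))
        ((inf_le_inf_left K (hBQ.trans hQT)).trans hKT.le) (comm_gen (hTC (hQT hg)) (hTC (hQT hw)) hc) θ φ
        (hθ.mono hPT) (hθ.mono (hBQ.trans hQT)) hdθ (hφ.mono hPT) hmu
      rwa [← sup_assoc, ← sup_assoc, sup_eq_left.2 h.le] at this
    have hcovA : ∀ d ∈ A ⊔ U, ∃ k ∈ A, ∃ x ∈ Q, k * x = d := fun d hd => by
      rw [← hsup, ← sup_assoc, sup_eq_left.2 hA'A] at hd
      exact (Coprime.mem_sup_iff (hQU.trans hUA)).1 hd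
    have hcovA' : ∀ d ∈ U, ∃ k ∈ A', ∃ x ∈ Q, k * x = d := fun d hd => by
      rw [← hsup] at hd
      exact (Coprime.mem_sup_iff (hQT.trans hTA')).1 hd
    rw [cnt_eq le_sup_left (sup_le Subgroup.le_normalizer hUA) lam
      ((fix_of_le lam le_rfl).sup Subgroup.le_normalizer hUA hfixlam) (hQU.trans le_sup_right) hAQ hcovA φ hφQ
      fun g hg w hw hc => (extends_iff le_sup_left (hQT.trans hTK) (hQT.trans hTA)
        (hAQ.le.trans h.le) (hθ.mono hQT) hlamθ (hfixlam.mono hQU) hg hw (h.le hc)).trans (hext g hg w hw hc),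
      cnt_eq hA'U (hUT.trans hTA') psi hfixpsi hQU hA'Q hcovA' φ hφQ
        fun g hg w hw hc => extends_iff le_sup_left (hQT.trans hTC) (hQT.trans hTA') hA'Q.le hφQ
          (hΨext lam hl) (hfixpsi.mono hQU) hg hw hc]

end Cfsg.Agent.OW
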